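import Mathlib
import Cfsg.Agent.H994.KE.Base_m3
import Cfsg.Agent.H296.KB.Rank
import Cfsg.Agent.H973.KB.Cyc_m3
import Cfsg.Agent.H508.KB.Defs
import Cfsg.Agent.BpExc.AsmN_m3
import Cfsg.Agent.S1065
import Cfsg.Agent.Lib.FinFast
import Cfsg.Agent.H129.ChainFast
import Cfsg.Agent.FastGrp
import Cfsg.Agent.Prune
set_option linter.all false

section
prune_inst 0x7ffcfffcefb8afffffff7e7ffedddffc3bc1dfffafdffb43ffe8e1df0fdf230219e56b8d1de050ff1ed6e0b430b87853fb7eeeffec6fdc7ffffdfff41ffbee4ff5f7358811d48c340f340ff783f07f8e7f3fffffffffffffffffffffffffffbeffffffffffff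

-- part: H352/KE/Frame
section
prune_inst 0x10003104450000000018000022003c43a2000002000b80004102030004c88c2129030e21102002109130087420380048111000390200000000000c00411900a0888254023200010ca40001800004000000000000000000000000000000000000000000000
set_option linter.all false
open scoped Cfsg.Agent.FastGrp

-- part: H352/KE/Mat
section
/-!
# Conjugate diagonal matrices (helper352)
-/

set_option autoImplicit false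

open scoped MatrixGroups

namespace Cfsg.Agent.H352.KE

theorem charpoly_conj_GL {n k : Type*} [Fintype n] [DecidableEq n] [Field k] (g t t' : GL n k)
    (h : g * t * g⁻¹ = t') : (t' : Matrix n n k).charpoly = (t : Matrix n n k).charpoly := by
  rw [← h, Units.val_mul, Units.val_mul, Matrix.charpoly_mul_comm, ← mul_assoc, Units.inv_mul, one_mul]

theorem roots_prod_sub {ι k : Type*} [Fintype ι] [Field k] (d : ι → k) :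
    (∏ i, (Polynomial.X - Polynomial.C (d i))).roots = Multiset.map d Finset.univ.val := by
  have h3 : (∏ i, (Polynomial.X - Polynomial.C (d i))) =
      (Multiset.map (fun a => Polynomial.X - Polynomial.C a) (Multiset.map d Finset.univ.val)).prod := by
    rw [Multiset.map_map]
    rfl
  rw [h3, Polynomial.roots_multiset_prod_X_sub_C]

theorem map_sum_elim {a b : ℕ} {k : Type*} (f : Fin a → k) (g : Fin b → k) :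
    Multiset.map (Sum.elim f g) Finset.univ.val =
      Multiset.map f Finset.univ.val + Multiset.map g Finset.univ.val := by
  rw [← Finset.univ_disjSum_univ]
  show Multiset.map _ (Multiset.disjSum _ _) = _
  rw [Multiset.disjSum, Multiset.map_add, Multiset.map_map, Multiset.map_map]
  rfl

end Cfsg.Agent.H352.KE
end

-- part: H352/KE/Frame
section
/-!
# Tori of Chevalley groups over finite fields, modulus `m` (helper352; S4822, KE)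

For a Chevalley group `D.group F` whose root lattice is the weight lattice (`InvC D l 1 B`), an element `w` of the Weyl
group (given by a chain) and `m` prime to the characteristic: the elements `X a` of exponent `m` of the torus of type `w`,
`a : Fin l → ZMod m` an eigenvector of `w` with eigenvalue `|F|`.
-/

set_option autoImplicit false
set_option linter.unusedSectionVars false

namespace Cfsg.Agent.H352.KE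

open CoxeterSystem Cfsg Cfsg.Lie Cfsg.Lie.ChevalleyDatum
open Cfsg.Agent.ChevalleyStructure Cfsg.Agent.ChevalleyStructure.Elts Cfsg.Agent.ChevalleyStructure.CoxeterGeom
  Cfsg.Agent.ChevalleyStructure.CoxeterGeomTypes Cfsg.Agent.ChevalleyStructure.NPerm
  Cfsg.Agent.ChevalleyStructure.RootVec
open Cfsg.Agent.Tits.Roots Cfsg.Agent.Tits.Core Cfsg.Agent.Nodes Cfsg.Agent.Nodes.Reps Cfsg.Agent.Nodes.BNOf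
  Cfsg.Agent.Nodes.RGDChev Cfsg.Agent.Nodes.Bruhat
open Cfsg.Agent.KFacts.RgdField Cfsg.Agent.KFacts.RgdChevCoord Cfsg.Agent.BpExc.TorCent Cfsg.Agent.BpExc.TorChev
open Cfsg.Agent.GpExc.Field Cfsg.Agent.BpExc.Tow Cfsg.Agent.BpExc.TowChev Cfsg.Agent.BpExc.Fr
  Cfsg.Agent.BpExc.LangFr Cfsg.Agent.H795.SetCent Cfsg.Agent.H795.Toral Cfsg.Agent.H795.Core
  Cfsg.Agent.H795.RootConn Cfsg.Agent.H795.SetTor Cfsg.Agent.H129.TorusChar Cfsg.Agent.H129.TorusUntw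
  Cfsg.Agent.H129.WData Cfsg.Agent.H795.Reduce Cfsg.Agent.H795.LangT
  Cfsg.Agent.BpExc Cfsg.Agent.H210.EL

universe u

section pow

variable {k : Type u} [Field k] {m : ℕ}

theorem pow_val_add' [NeZero m] {ζ : k} (hζ : ζ ^ m = 1) (a b : ZMod m) :
    ζ ^ (a + b).val = ζ ^ a.val * ζ ^ b.val := by
  rw [← pow_add, ZMod.val_add]
  conv_rhs => rw [← Nat.mod_add_div (a.val + b.val) m, pow_add, pow_mul ζ m, hζ, one_pow, mul_one]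

theorem pow_val_cast' {ζ : k} (hζ : ζ ^ m = 1) (n : ℕ) (a : ZMod m) :
    ζ ^ ((n : ZMod m) * a).val = (ζ ^ a.val) ^ n := by
  rw [← pow_mul, ZMod.val_mul, ZMod.val_natCast]
  have h1 : (n % m * a.val) % m = (a.val * n) % m := by
    rw [Nat.mod_mul_mod, mul_comm]
  rw [h1]
  conv_rhs => rw [← Nat.mod_add_div (a.val * n) m, pow_add, pow_mul ζ m, hζ, one_pow, mul_one]

/-- the character `x ↦ ζ ^ (λ x)` -/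
noncomputable def chm {l : ℕ} (ζ : k) (a : Fin l → ZMod m) (x : Fin l → ℤ) : k := ζ ^ (lam a x).val

theorem isMC_chm [NeZero m] {l : ℕ} {ζ : k} (hζ : ζ ^ m = 1) (a : Fin l → ZMod m) : IsMC (chm ζ a) where
  zero := by
    unfold chm
    rw [lam_zero, ZMod.val_zero, pow_zero]
  add x y := by
    unfold chm
    rw [lam_add, pow_val_add' hζ]

theorem pow_val_inj [NeZero m] {ζ : k} (hζ : IsPrimitiveRoot ζ m) {a b : ZMod m} (h : ζ ^ a.val = ζ ^ b.val) :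
    a = b :=
  ZMod.val_injective m (hζ.pow_inj (ZMod.val_lt a) (ZMod.val_lt b) h)

end pow

theorem lam_add_left {l m : ℕ} (a b : Fin l → ZMod m) (x : Fin l → ℤ) : lam (a + b) x = lam a x + lam b x := by
  unfold lam
  rw [← Finset.sum_add_distrib]
  refine Finset.sum_congr rfl fun n _ => ?_
  rw [Pi.add_apply, mul_add]

theorem eigOK_add {l m : ℕ} {W : Mat l} {s : ZMod m} {a b : Fin l → ZMod m} (ha : H210.EL.EigOK W s a)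
    (hb : H210.EL.EigOK W s b) : H210.EL.EigOK W s (a + b) := by
  intro j
  simp only [Pi.add_apply, mul_add, Finset.sum_add_distrib]
  rw [ha j, hb j]

variable {D : ChevalleyDatum} {l : ℕ} {M : CoxeterMatrix (Fin l)} (hp : IsType D l M)

section torus

variable {k : Type u} [Field k]

/-- the matrix of an element of the torus -/
theorem torus_matrix {t : ↥(D.group k)} (ht : t ∈ TT D k) :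
    ((t : GL D.Idx k) : Matrix D.Idx D.Idx k) = Matrix.diagonal (Sum.elim (fun _ => (1 : k))
      (fun s : Fin D.nroots => cX hp t (vec D l s))) := by
  have ht' := ht
  rw [Subgroup.mem_subgroupOf] at ht'
  obtain ⟨c, hc, hmat, hact⟩ := Cfsg.Agent.H129.Tor.exists_c hp ht'
  rw [hmat]
  congr 1
  congr 1
  funext s
  rw [cX_vec hp ht s.2]
  symm
  apply ch_eq hp s.2 ht
  apply Subtype.ext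
  rw [Subgroup.coe_mul, Subgroup.coe_mul, Subgroup.coe_inv, coe_xc hp s.2, coe_xc hp s.2, hact s s.2, mul_one]

/-- **Conjugate elements of the torus have the same multiset of root values.** -/
theorem roots_eq_of_isConj {t t' : ↥(D.group k)} (ht : t ∈ TT D k) (ht' : t' ∈ TT D k) (h : IsConj t t') :
    Multiset.map (fun s : Fin D.nroots => cX hp t (vec D l s)) Finset.univ.val =
      Multiset.map (fun s : Fin D.nroots => cX hp t' (vec D l s)) Finset.univ.val := by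
  obtain ⟨g, hg⟩ := isConj_iff.1 h
  have h2 := charpoly_conj_GL (g : GL D.Idx k) (t : GL D.Idx k) (t' : GL D.Idx k) (congrArg Subtype.val hg)
  rw [torus_matrix hp ht, torus_matrix hp ht', Matrix.charpoly_diagonal, Matrix.charpoly_diagonal] at h2
  have h4 := congrArg Polynomial.roots h2
  rw [roots_prod_sub, roots_prod_sub, map_sum_elim, map_sum_elim] at h4
  exact (add_left_cancel h4).symm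

end torus

/-- eigenvectors of the Weyl group element with matrix `W`, eigenvalue `|F|`, modulo `m` -/
abbrev Eig (F : Type u) [Field F] [Fintype F] {l m : ℕ} (W : Mat l) (a : Fin l → ZMod m) : Prop :=
  H210.EL.EigOK W (Fintype.card F : ZMod m) a

/-- the multiset of root values -/
def rts (D : ChevalleyDatum) (l : ℕ) {m : ℕ} (a : Fin l → ZMod m) : Multiset (ZMod m) :=
  Multiset.map (fun s : Fin D.nroots => lam a (vec D l s)) Finset.univ.val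

include hp in
/-- **The torus of type `w`, elements of exponent `m`.** -/
theorem exists_frame {F : Type u} [Field F] [Fintype F] {m : ℕ} [NeZero m] (hm : (m : F) ≠ 0)
    {B : Fin l → Fin l → ℤ} (hB : InvC D l 1 B) {A : Mat l} (hA : ∀ i j, A i j = cartanOf D l i j)
    {Cw : List (Fin l × Mat l)} (hw : ChainOK A Cw) :
    ∃ X : (Fin l → ZMod m) → ↥(D.group F),
      (∀ a b, Eig F (hd Cw) a → Eig F (hd Cw) b → X (a + b) = X a * X b) ∧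
      (∀ a, Eig F (hd Cw) a → X a = 1 → a = 0) ∧
      (∀ Cv : List (Fin l × Mat l), ChainOK A Cv → CommOK (hd Cv) (hd Cw) → ∃ c : ↥(D.group F),
        ∀ a b, Eig F (hd Cw) a → Eig F (hd Cw) b → (∀ j, ∑ n, (hd Cv j n : ZMod m) * b n = a j) →
          c * X a * c⁻¹ = X b) ∧
      (∀ a b, Eig F (hd Cw) a → Eig F (hd Cw) b → IsConj (X a) (X b) → rts D l a = rts D l b) := by
  classical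
  obtain ⟨r, e', hr, hrF, hrk, he', hq, hk⟩ := exists_closure (F := F) rfl
  let k := AlgebraicClosure F
  let f : F →+* k := algebraMap F (AlgebraicClosure F)
  -- the root of unity
  have hpk : (m : k) ≠ 0 := by
    intro h
    apply hm
    apply f.injective
    rw [map_natCast, map_zero]
    exact h
  have : NeZero (m : k) := ⟨hpk⟩
  obtain ⟨ζ, hζ⟩ := HasEnoughRootsOfUnity.exists_primitiveRoot k m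
  have hζp : ζ ^ m = 1 := hζ.pow_eq_one
  -- the torus elements
  have hT : ∀ a : Fin l → ZMod m, ∃ t ∈ TT D k, ∀ x, cX hp t x = chm ζ a x := fun a =>
    exists_cX hp (k := k) hB one_ne_zero (isMC_chm hζp a) (fun i => ⟨_, pow_one _⟩)
  choose t ht hX using hT
  have htinj : ∀ {a b : Fin l → ZMod m}, t a = t b → a = b := by
    intro a b h
    funext i
    have h1 := hX a (sr i)
    rw [h, hX] at h1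
    unfold chm at h1
    rw [lam_sr, lam_sr] at h1
    exact (pow_val_inj hζ h1).symm
  -- the frame automorphism
  set σ := phi D k r e' with hσdef
  have hσ : IsFrob r e' σ := isFrob_phi
  have Fr0 : Fr M.toCoxeterSystem hp.isCartan (TT D k) (XX D l k) σ (AddEquiv.refl (Fin l → ℤ)) := fr_phi hp _
  have H := tow hp M.toCoxeterSystem hk r
  set w : M.Group := M.toCoxeterSystem.wordProd (Cw.map Prod.fst) with hwdef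
  have hwr := chain_rep hp M.toCoxeterSystem hA hw
  rw [← hwdef] at hwr
  obtain ⟨nw, hnw⟩ := exists_rp M.toCoxeterSystem H.nsys w
  obtain ⟨u, hu⟩ := lang_all hp M.toCoxeterSystem he' hσ Fr0 1 nw
  have hu' : nw = u⁻¹ * σ u := by
    rw [map_one, one_mul] at hu
    exact hu
  have Fr1 : Fr M.toCoxeterSystem hp.isCartan (TT D k) (XX D l k) (ct σ u)
      ((AddEquiv.refl (Fin l → ℤ)).trans (repAut M.toCoxeterSystem hp.isCartan w)) := by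
    have h1 := Fr.conj H (by rw [hu'] at hnw; exact hnw : Rp M.toCoxeterSystem H.nsys w (u⁻¹ * σ u))
    rw [TL_eq hp hk, XL_eq hp hk] at h1
    exact h1.mul Fr0
  have hσ1 : IsFrob r e' (ct σ u) := hσ.conj_mul _
  have hg1 : ∀ x, ((AddEquiv.refl (Fin l → ℤ)).trans (repAut M.toCoxeterSystem hp.isCartan w)) x =
      rep M.toCoxeterSystem hp.isCartan w x := fun x => rfl
  -- fixed
  have hfixt : ∀ {c : Fin l → ZMod m}, Eig F (hd Cw) c → ct σ u (t c) = t c := by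
    intro c hcw
    refine cX_inj hp ((Fr1.tor (t c)).2 (ht c)) (ht c) fun i => ?_
    obtain ⟨y, hy⟩ := ((AddEquiv.refl (Fin l → ℤ)).trans (repAut M.toCoxeterSystem hp.isCartan w)).surjective (sr i)
    rw [← hy, cX_sigma hp M.toCoxeterSystem hσ1 Fr1 (ht c), hX, hX, hg1]
    unfold chm
    rw [lam_rep hp hwr hcw, pow_val_cast' hζp, ← hq]
  -- back in the finite group
  have hback : ∀ {t : ↥(D.group k)}, ct σ u t = t → ∃ x : ↥(D.group F), emb hp.inList f x = u * t * u⁻¹ := by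
    intro t ht
    exact fix_range hp M.toCoxeterSystem f hq hB one_ne_zero (fun a => ⟨a, pow_one a⟩) (ct_fix.1 ht)
  have hinj := emb_injective hp.inList f
  have hXX : ∀ a : Fin l → ZMod m, ∃ x : ↥(D.group F), Eig F (hd Cw) a → emb hp.inList f x = u * t a * u⁻¹ := by
    intro a
    by_cases h : Eig F (hd Cw) a
    · obtain ⟨x, hx⟩ := hback (hfixt h)
      exact ⟨x, fun _ => hx⟩
    · exact ⟨1, fun h' => absurd h' h⟩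
  choose X hXe using hXX
  refine ⟨X, ?_, ?_, ?_, ?_⟩
  · intro a b ha hb
    apply hinj
    rw [map_mul, hXe _ (eigOK_add ha hb), hXe _ ha, hXe _ hb]
    have h1 : t (a + b) = t a * t b := by
      refine cX_inj hp (ht _) (mul_mem (ht a) (ht b)) fun i => ?_
      rw [cX_mul hp (ht a) (ht b), hX, hX, hX]
      unfold chm
      rw [lam_add_left, pow_val_add' hζp]
    rw [h1]
    group
  · intro a ha h1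
    have h2 := hXe a ha
    rw [h1, map_one] at h2
    have h3 : t a = 1 := by
      have h4 := congrArg (fun z => u⁻¹ * z * u) h2
      simp only [mul_one, inv_mul_cancel] at h4
      rw [h4]
      group
    have h5 : t (0 : Fin l → ZMod m) = 1 := by
      refine cX_inj hp (ht _) (one_mem _) fun i => ?_
      rw [hX, cX_one]
      unfold chm
      rw [lam_sr, Pi.zero_apply, ZMod.val_zero, pow_zero]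
    exact htinj (h3.trans h5.symm)
  · intro Cv hv hc
    set v : M.Group := M.toCoxeterSystem.wordProd (Cv.map Prod.fst) with hvdef
    have hvr := chain_rep hp M.toCoxeterSystem hA hv
    rw [← hvdef] at hvr
    have hcomm : ∀ x, rep M.toCoxeterSystem hp.isCartan v
        (((AddEquiv.refl (Fin l → ℤ)).trans (repAut M.toCoxeterSystem hp.isCartan w)) x) =
        ((AddEquiv.refl (Fin l → ℤ)).trans (repAut M.toCoxeterSystem hp.isCartan w))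
          (rep M.toCoxeterSystem hp.isCartan v x) := by
      intro x
      rw [hg1, hg1]
      have h1 := ext_sr ((rep M.toCoxeterSystem hp.isCartan v).toAddMonoidHom.comp
          (rep M.toCoxeterSystem hp.isCartan w).toAddMonoidHom)
        ((rep M.toCoxeterSystem hp.isCartan w).toAddMonoidHom.comp
          (rep M.toCoxeterSystem hp.isCartan v).toAddMonoidHom) (fun j => by
            show rep M.toCoxeterSystem hp.isCartan v (rep M.toCoxeterSystem hp.isCartan w (sr j)) =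
              rep M.toCoxeterSystem hp.isCartan w (rep M.toCoxeterSystem hp.isCartan v (sr j))
            funext m
            rw [H795.TorsData.rep_of_sr hp M.toCoxeterSystem hvr, H795.TorsData.rep_of_sr hp M.toCoxeterSystem hwr,
              hwr, hvr]
            exact (hc j m).symm) x
      exact h1
    obtain ⟨c', hc', hcf⟩ := exists_fixed_lift hp hk hB one_ne_zero he' hσ1 Fr1 hcomm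
    obtain ⟨c, hcx⟩ := hback hcf
    refine ⟨c, fun a b ha hb hab => ?_⟩
    apply hinj
    rw [map_mul, map_mul, map_inv, hcx, hXe a ha, hXe b hb]
    have hma := rp_conj_mem hp hk hc' (ht a)
    have h1 : c' * t a * c'⁻¹ = t b := by
      refine cX_inj hp hma (ht b) fun i => ?_
      obtain ⟨y', hy'⟩ := (repAut M.toCoxeterSystem hp.isCartan v).surjective (sr i)
      have hy'' : rep M.toCoxeterSystem hp.isCartan v y' = sr i := hy'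
      rw [← hy'', cX_rp' hp hk hc' (ht a), hX, hX]
      unfold chm
      have h2 : lam b (rep M.toCoxeterSystem hp.isCartan v y') = lam a y' := by
        have h3 := ext_sr ((lamHom b).comp (rep M.toCoxeterSystem hp.isCartan v).toAddMonoidHom) (lamHom a) (fun i => by
          show lam b (rep M.toCoxeterSystem hp.isCartan v (sr i)) = lam a (sr i)
          rw [hvr i, lam_sr]
          exact hab i) y'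
        exact h3
      rw [h2]
    rw [← h1]
    group
  · intro a b ha hb h
    have h1 : IsConj (t a) (t b) := by
      have h2 : IsConj (emb hp.inList f (X a)) (emb hp.inList f (X b)) := (emb hp.inList f).map_isConj h
      rw [hXe a ha, hXe b hb] at h2
      have h3 : ∀ z : ↥(D.group k), IsConj z (u * z * u⁻¹) := fun z => isConj_iff.2 ⟨u, rfl⟩
      exact (h3 _).trans (h2.trans (h3 _).symm)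
    have h2 := roots_eq_of_isConj hp (ht a) (ht b) h1
    simp only [hX] at h2
    have hjn : Function.Injective (fun c : ZMod m => ζ ^ c.val) := fun c d h => pow_val_inj hζ h
    apply Multiset.map_injective hjn
    unfold rts
    rw [Multiset.map_map, Multiset.map_map]
    exact h2

end Cfsg.Agent.H352.KE
end

private theorem dce_a088f9164f98 : _root_.True := by
  try have : _root_.True := by simp only [_root_.Cfsg.Agent.H129.TorusChar.cX.congr_simp]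
  exact _root_.True.intro
end

-- part: H682/KB/KMain
section
prune_inst 0x20000000200000000000000000000000000005000000000000a0000009010200000000000a0000000040200000000000000000000000000000000000000000000000000010000000000080000000000000000000000000000000000000000000000000000
set_option linter.all false
open scoped Cfsg.Agent.FastGrp
private noncomputable def lq2623ca974a {T : Sort _} (f :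
    type_of% (@_root_.List.cons.{0}) →
    type_of% (@_root_.List.nil.{0}) →
    type_of% (@_root_.Prod.mk.{0, 0}) →
    type_of% (@_root_.Bool.true) →
    type_of% (@_root_.Bool.false) →
    type_of% (@_root_.List.cons.{0} (Prod (Fin 8) (Cfsg.Agent.H129.WData.Mat 8))) →
    type_of% (@_root_.Cfsg.Agent.H942.E8Tab.R8) → T) : T :=
  f (@_root_.List.cons.{0}) (@_root_.List.nil.{0}) (@_root_.Prod.mk.{0, 0}) (@_root_.Bool.true) (@_root_.Bool.false) (@_root_.List.cons.{0} (Prod (Fin 8) (Cfsg.Agent.H129.WData.Mat 8))) (@_root_.Cfsg.Agent.H942.E8Tab.R8)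

-- part: H682/KB/Pair
section
/-!
# S4822: lower bounds for `k(B₀)` from commuting elements `x`, `y` of order `p ^ m`, `|S|_p = p ^ (2 m)` (helper682)

* `Pr p m x y c n` : `x`, `y` commute and have the order `p ^ m`, `c x c⁻¹ = x`, `c y c⁻¹ = y ^ n`;
* `rank_pair` : the order of `n` modulo `p` is at most `l(B₀(C(x)))`;
* `two_le_of_conj` : `2 ≤ l(B₀)`;
* `count` : `p + 3 ≤ 2 k(B₀)` from lines `⟨x a⟩`.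
-/

set_option autoImplicit false

open Cfsg Subgroup
open Cfsg.Agent.H508.KB

namespace Cfsg.Agent.H682.KB

universe u

/-- `x`, `y` commute and have the order `p ^ m`, `c x c⁻¹ = x`, `c y c⁻¹ = y ^ n` -/
structure Pr {S : Type u} [Group S] (p m : ℕ) (x y c : S) (n : ℕ) : Prop where
  ox : orderOf x = p ^ m
  oy : orderOf y = p ^ m
  xy : x * y = y * x
  cx : c * x = x * c
  cy : c * y * c⁻¹ = y ^ n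

theorem Pr.map {S : Type u} [Group S] {T : Type*} [Group T] (f : S ≃* T) {p m : ℕ} {x y c : S} {n : ℕ}
    (h : Pr p m x y c n) : Pr p m (f x) (f y) (f c) n where
  ox := by rw [MulEquiv.orderOf_eq, h.ox]
  oy := by rw [MulEquiv.orderOf_eq, h.oy]
  xy := by rw [← map_mul, h.xy, map_mul]
  cx := by rw [← map_mul, h.cx, map_mul]
  cy := by rw [← map_mul, ← map_inv, ← map_mul, h.cy, map_pow]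

variable {p : ℕ} [Fact p.Prime] {M : Ideal AlgInt}

theorem Pr.pow {S : Type u} [Group S] {m : ℕ} {x y c : S} {n : ℕ} (h : Pr p m x y c n) {i : ℕ} (hi : ¬ p ∣ i) :
    Pr p m (x ^ i) y c n where
  ox := by
    have hp : p.Prime := Fact.out
    have h1 : (orderOf x).Coprime i := by
      rw [h.ox]
      exact Nat.Coprime.pow_left _ ((Nat.Prime.coprime_iff_not_dvd hp).2 hi)
    rw [Nat.Coprime.orderOf_pow h1, h.ox]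
  oy := h.oy
  xy := (Commute.pow_left h.xy i)
  cx := (Commute.pow_right h.cx i)
  cy := h.cy

section

variable {S : Type u} [Group S] [Finite S]

/-- `2 ≤ l(B₀)` from an element acting on a `p`-element -/
theorem two_le_of_conj (hM : IsPModular p M) {m : ℕ} {y c : S} {n : ℕ} (hm : m ≠ 0) (hy : orderOf y = p ^ m)
    (hc : c * y * c⁻¹ = y ^ n) (hn : (n : ZMod p) ≠ 1) : 2 ≤ blockRank p (principalBlock M S) := by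
  have hp : p.Prime := Fact.out
  set a := (orderOf c).factorization p with ha
  have hc0 : orderOf c ≠ 0 := (orderOf_pos c).ne'
  have h1 : c ^ p ^ a * y * (c ^ p ^ a)⁻¹ = y ^ n ^ p ^ a := H973.KB.conj_pow_pow hc _
  have hpy : p ∣ orderOf y := by
    rw [hy]
    exact dvd_pow_self p hm
  refine H296.KB.two_le_rank hM (zpowers y) (IsPGroup.of_card (n := m) (by rw [Nat.card_zpowers, hy])) (c ^ p ^ a) ?_ ?_ y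
    (mem_zpowers y) ?_
  · intro h2
    have h3 : orderOf (c ^ p ^ a) ∣ orderOf c / p ^ a := by
      apply orderOf_dvd_of_pow_eq_one
      rw [← pow_mul, Nat.mul_div_cancel' (Nat.ordProj_dvd _ _), pow_orderOf_eq_one]
    exact Nat.not_dvd_ordCompl hp hc0 (h2.trans h3)
  · rintro z ⟨k, rfl⟩
    show c ^ p ^ a * y ^ k * (c ^ p ^ a)⁻¹ ∈ _
    rw [← conj_zpow, h1]
    exact Subgroup.zpow_mem _ (Subgroup.pow_mem _ (mem_zpowers y) _) _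
  · intro h2
    rw [h2, mul_inv_cancel_right] at h1
    have h3 : y ^ 1 = y ^ n ^ p ^ a := by rw [pow_one]; exact h1
    rw [pow_eq_pow_iff_modEq] at h3
    have h4 := (ZMod.natCast_eq_natCast_iff _ _ _).2 (h3.of_dvd hpy)
    rw [Nat.cast_one, Nat.cast_pow, ZMod.pow_card_pow] at h4
    exact hn h4.symm

/-- **The rank of the principal block of the centralizer of `x`.** -/
theorem rank_pair (hM : IsPModular p M) {m : ℕ} (hm : m ≠ 0) (hS : ¬ p ^ (2 * m + 1) ∣ Nat.card S) {x y c : S} {n : ℕ}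
    (h : Pr p m x y c n) :
    orderOf (n : ZMod p) ≤ blockRank p (principalBlock M ↥(centralizer ({x} : Set S))) := by
  classical
  have hp : p.Prime := Fact.out
  by_cases hn : (n : ZMod p) = 1
  · rw [hn, orderOf_one]
    exact H296.KB.one_le_rank hM
  set C := centralizer ({x} : Set S) with hC
  have hxC : x ∈ C := mem_centralizer_singleton_iff.2 rfl
  have hyC : y ∈ C := mem_centralizer_singleton_iff.2 h.xy.symm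
  have hcC : c ∈ C := mem_centralizer_singleton_iff.2 h.cx
  set x' : C := ⟨x, hxC⟩ with hx'
  set y' : C := ⟨y, hyC⟩ with hy'
  set c' : C := ⟨c, hcC⟩ with hc'
  have hcy' : c' * y' * c'⁻¹ = y' ^ n := Subtype.ext h.cy
  have hcen : ∀ g : C, g * x' = x' * g := fun g => Subtype.ext (mem_centralizer_singleton_iff.1 g.2)
  have hZn : (zpowers x').Normal := by
    refine ⟨fun z hz g => ?_⟩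
    obtain ⟨k, rfl⟩ := hz
    have h1 : g * x' ^ k * g⁻¹ = x' ^ k := by
      have h2 : Commute g x' := hcen g
      rw [(h2.zpow_right k).eq, mul_inv_cancel_right]
    show g * x' ^ k * g⁻¹ ∈ zpowers x'
    rw [h1]
    exact ⟨k, rfl⟩
  have hpm : 0 < p ^ m := pow_pos hp.pos _
  -- the order of `ȳ`
  have key : ∀ k : ℕ, y' ^ k ∈ zpowers x' → p ^ m ∣ k := by
    rintro k ⟨j, hj⟩
    have h1 : c' * y' ^ k * c'⁻¹ = y' ^ k := by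
      have h2 : Commute c' x' := hcen c'
      have h3 : Commute c' (y' ^ k) := by
        rw [← hj]
        exact h2.zpow_right j
      rw [h3.eq, mul_inv_cancel_right]
    have h2 : c' * y' ^ k * c'⁻¹ = y' ^ (n * k) := by
      rw [← conj_pow, hcy', ← pow_mul]
    rw [h2, pow_eq_pow_iff_modEq, Subgroup.orderOf_mk, h.oy] at h1
    have h3 : ((p ^ m : ℕ) : ℤ) ∣ ((n * k : ℕ) : ℤ) - (k : ℤ) := (Nat.modEq_iff_dvd.1 h1.symm)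
    have h4 : ((n * k : ℕ) : ℤ) - (k : ℤ) = (k : ℤ) * ((n : ℤ) - 1) := by push_cast; ring
    rw [h4] at h3
    have h5 : IsCoprime ((p ^ m : ℕ) : ℤ) ((n : ℤ) - 1) := by
      rw [Nat.cast_pow]
      apply IsCoprime.pow_left
      rw [Prime.coprime_iff_not_dvd (Nat.prime_iff_prime_int.1 hp)]
      intro h6
      apply hn
      have h7 := (ZMod.intCast_zmod_eq_zero_iff_dvd _ p).2 h6
      push_cast at h7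
      exact sub_eq_zero.1 h7
    exact Int.natCast_dvd_natCast.1 (h5.dvd_of_dvd_mul_right h3)
  set Q := C ⧸ zpowers x' with hQ
  set φ : C →* Q := QuotientGroup.mk' (zpowers x') with hφ
  have hφs : Function.Surjective φ := QuotientGroup.mk'_surjective _
  have hoy : orderOf (φ y') = p ^ m := by
    apply Nat.dvd_antisymm
    · apply orderOf_dvd_of_pow_eq_one
      rw [← map_pow]
      have h1 : y' ^ p ^ m = 1 := by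
        apply Subtype.ext
        rw [Subgroup.coe_pow, ← h.oy]
        exact pow_orderOf_eq_one y
      rw [h1, map_one]
    · apply key
      have h1 := pow_orderOf_eq_one (φ y')
      rw [← map_pow] at h1
      exact (QuotientGroup.eq_one_iff _).1 h1
  have hcq : φ c' * φ y' * (φ c')⁻¹ = φ y' ^ n := by
    rw [← map_inv, ← map_mul, ← map_mul, hcy', map_pow]
  have hcard : Nat.card C = Nat.card Q * p ^ m := by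
    rw [Subgroup.card_eq_card_quotient_mul_card_subgroup (zpowers x'), Nat.card_zpowers, Subgroup.orderOf_mk, h.ox]
  have hCS : Nat.card C ∣ Nat.card S := Subgroup.card_subgroup_dvd_card C
  have hPy : IsPGroup p (zpowers (φ y')) := IsPGroup.of_card (n := m) (by rw [Nat.card_zpowers, hoy])
  obtain ⟨P, hP⟩ := hPy.exists_le_sylow
  obtain ⟨k, hk⟩ := IsPGroup.iff_card.1 P.isPGroup'
  have hkm : k ≤ m := by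
    by_contra hlt
    apply hS
    refine (pow_dvd_pow p (show 2 * m + 1 ≤ k + m by omega)).trans ?_
    rw [pow_add, ← hk]
    refine (Nat.mul_dvd_mul_right (Subgroup.card_subgroup_dvd_card _) _).trans ?_
    rw [← hcard]
    exact hCS
  have hPe : (P : Subgroup Q) = zpowers (φ y') := by
    symm
    refine Subgroup.eq_of_le_of_card_ge hP ?_
    rw [Nat.card_zpowers, hoy, hk]
    exact Nat.pow_le_pow_right hp.pos hkm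
  have hcyc : IsCyclic (P : Subgroup Q) := by
    rw [hPe]
    infer_instance
  have hy1 : φ y' ≠ 1 := by
    intro h1
    rw [h1, orderOf_one] at hoy
    exact (Nat.one_lt_pow hm hp.one_lt).ne hoy
  exact (H973.KB.rank_cyclic hM P hcyc (φ y') (φ c') hy1 m hoy n hcq).trans (H296.KB.rank_quot_le hM φ hφs)

/-- `p - 1 ≤ e r`, `r` the number of `e`-th powers -/
theorem card_powers {e : ℕ} (he : e ≠ 0) :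
    p - 1 ≤ Nat.card (powMonoidHom e : (ZMod p)ˣ →* (ZMod p)ˣ).range * e := by
  have hp : p.Prime := Fact.out
  have : NeZero e := ⟨he⟩
  have h1 : Nat.card (powMonoidHom e : (ZMod p)ˣ →* (ZMod p)ˣ).ker ≤ e := by
    have h2 : (powMonoidHom e : (ZMod p)ˣ →* (ZMod p)ˣ).ker = rootsOfUnity e (ZMod p) := by
      ext u
      rw [MonoidHom.mem_ker, mem_rootsOfUnity, powMonoidHom_apply]
    rw [h2]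
    exact card_rootsOfUnity (ZMod p) e
  have h2 := Subgroup.card_mul_index (powMonoidHom e : (ZMod p)ˣ →* (ZMod p)ˣ).ker
  rw [Subgroup.index_ker, Nat.card_eq_fintype_card (α := (ZMod p)ˣ), ZMod.card_units p] at h2
  rw [← h2, mul_comm]
  exact Nat.mul_le_mul_left _ h1

/-- **The count.** -/
theorem count {ι : Type} [Fintype ι] (hM : IsPModular p M) {m e : ℕ} (hm : m ≠ 0) (he : e ≠ 0) (x : ι → S)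
    (hx : ∀ a, orderOf (x a) = p ^ m)
    (fus : ∀ a b (i j : ℕ), ¬ p ∣ i → ¬ p ∣ j → IsConj (x a ^ i) (x b ^ j) → a = b ∧ (i : ZMod p) ^ e = (j : ZMod p) ^ e)
    (l : ι → ℕ)
    (hl : ∀ a i, ¬ p ∣ i → l a ≤ blockRank p (principalBlock M ↥(centralizer ({x a ^ i} : Set S))))
    (h2 : 2 ≤ blockRank p (principalBlock M ↥(centralizer ({(1 : S)} : Set S)))) (hL : e ≤ 2 * ∑ a, l a) :
    p + 3 ≤ 2 * kB M S := by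
  classical
  have hp : p.Prime := Fact.out
  set H := (powMonoidHom e : (ZMod p)ˣ →* (ZMod p)ˣ).range with hH
  have hHf : Fintype H := Fintype.ofFinite H
  have hu : ∀ h : H, ∃ u : (ZMod p)ˣ, u ^ e = h := fun h => h.2
  choose u hue using hu
  have hval : ∀ h : H, (((u h : ZMod p).val : ℕ) : ZMod p) = u h := fun h => ZMod.natCast_zmod_val _
  have hnd : ∀ h : H, ¬ p ∣ (u h : ZMod p).val := by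
    intro h hd
    have h1 := (ZMod.natCast_eq_zero_iff _ p).2 hd
    rw [hval] at h1
    exact (u h).ne_zero h1
  let φ : Option (ι × H) → S := fun o => o.elim 1 fun z => x z.1 ^ (u z.2 : ZMod p).val
  have hpm : p ∣ p ^ m := dvd_pow_self p hm
  have h1ne : ∀ a (h : H), x a ^ (u h : ZMod p).val ≠ 1 := by
    intro a h h3
    have h4 := orderOf_dvd_of_pow_eq_one h3
    rw [hx] at h4
    exact hnd h (hpm.trans h4)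
  have hsep : ∀ o o', IsConj (φ o) (φ o') → o = o' := by
    rintro (_ | ⟨a, h⟩) (_ | ⟨b, h'⟩) hc
    · rfl
    · exact absurd (isConj_one_right.1 hc) (h1ne b h')
    · exact absurd (isConj_one_right.1 hc.symm) (h1ne a h)
    · obtain ⟨h3, h4⟩ := fus a b _ _ (hnd h) (hnd h') hc
      rw [hval, hval] at h4
      have h5 : (u h) ^ e = (u h') ^ e := Units.ext (by push_cast; exact h4)
      rw [hue, hue] at h5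
      rw [h3, Subtype.ext h5]
  have hinj : Function.Injective φ := fun o o' h => hsep o o' (h ▸ IsConj.refl _)
  have h3 := H296.KB.sum_le_kB (S := S) hM (Finset.univ.image φ) (by
    intro z hz
    obtain ⟨o, -, rfl⟩ := Finset.mem_image.1 hz
    rcases o with _ | ⟨a, h⟩
    · exact ⟨0, by rw [pow_zero]; exact orderOf_one⟩
    · have h4 : orderOf (x a ^ (u h : ZMod p).val) ∣ p ^ m := by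
        rw [← hx a]
        exact orderOf_pow_dvd _
      obtain ⟨k, -, hk⟩ := (Nat.dvd_prime_pow hp).1 h4
      exact ⟨k, hk⟩) (by
    intro z hz z' hz' hc
    obtain ⟨o, -, rfl⟩ := Finset.mem_image.1 hz
    obtain ⟨o', -, rfl⟩ := Finset.mem_image.1 hz'
    rw [hsep o o' hc])
  rw [Finset.sum_image fun o _ o' _ h => hinj h, Fintype.sum_option, Fintype.sum_prod_type] at h3
  have h4 : ∀ a, Nat.card H * l a ≤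
      ∑ h : H, blockRank p (principalBlock M ↥(centralizer ({φ (some (a, h))} : Set S))) := by
    intro a
    calc Nat.card H * l a = ∑ _h : H, l a := by
          rw [Finset.sum_const, Finset.card_univ, Nat.card_eq_fintype_card, smul_eq_mul]
      _ ≤ _ := Finset.sum_le_sum fun h _ => hl a _ (hnd h)
  have h5 : Nat.card H * ∑ a, l a ≤
      ∑ a, ∑ h : H, blockRank p (principalBlock M ↥(centralizer ({φ (some (a, h))} : Set S))) := by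
    rw [Finset.mul_sum]
    exact Finset.sum_le_sum fun a _ => h4 a
  have h6 : 2 + Nat.card H * ∑ a, l a ≤ kB M S := le_trans (Nat.add_le_add h2 h5) h3
  have h7 := card_powers (p := p) he
  rw [← hH] at h7
  have h8 : Nat.card H * e ≤ Nat.card H * (2 * ∑ a, l a) := Nat.mul_le_mul_left _ hL
  have h9 := hp.two_le
  have h10 : Nat.card H * (2 * ∑ a, l a) = 2 * (Nat.card H * ∑ a, l a) := by ring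
  omega

end

end Cfsg.Agent.H682.KB
end

-- part: H682/KB/Q4
section
/-!
# Arithmetic in `ℤ[x] / (x⁴ - P)` for computations with root values (helper682, S4822)

`P` of degree `≤ 3`, elements as quadruples of integers, `ev q` : the value at `q` (a homomorphism if `q⁴ = P(q)`).
-/

set_option autoImplicit false

namespace Cfsg.Agent.H682.KB

open Cfsg.Agent.H129.WData Cfsg.Agent.H210.EL Cfsg.Agent.H944.Tab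
open Cfsg.Agent.H944.RootVals (ms)
open Cfsg.Lie

/-- quadruples -/
abbrev Q4 := ℤ × ℤ × ℤ × ℤ

def add4 (u v : Q4) : Q4 := (u.1 + v.1, u.2.1 + v.2.1, u.2.2.1 + v.2.2.1, u.2.2.2 + v.2.2.2)

def sm4 (n : ℤ) (u : Q4) : Q4 := (n * u.1, n * u.2.1, n * u.2.2.1, n * u.2.2.2)

/-- multiplication by `x` -/
def mx (P u : Q4) : Q4 :=
  (u.2.2.2 * P.1, u.1 + u.2.2.2 * P.2.1, u.2.1 + u.2.2.2 * P.2.2.1, u.2.2.1 + u.2.2.2 * P.2.2.2)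

def mul4 (P u v : Q4) : Q4 :=
  add4 (sm4 u.1 v) (add4 (sm4 u.2.1 (mx P v)) (add4 (sm4 u.2.2.1 (mx P (mx P v))) (sm4 u.2.2.2 (mx P (mx P (mx P v))))))

/-- square and multiply -/
def pwl (P u : Q4) : List Bool → Q4 → Q4
  | [], a => a
  | false :: L, a => pwl P u L (mul4 P a a)
  | true :: L, a => pwl P u L (mul4 P u (mul4 P a a))

/-- the exponent -/
def bv : List Bool → ℕ → ℕ
  | [], n => n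
  | false :: L, n => bv L (2 * n)
  | true :: L, n => bv L (2 * n + 1)

def dot4 : List ℕ → List Q4 → Q4
  | a :: as, b :: bs => add4 (sm4 a b) (dot4 as bs)
  | _, _ => (0, 0, 0, 0)

/-- the power sum over a list of roots -/
def ps4 (P : Q4) (K : List Bool) (B : List Q4) : List (List ℕ) → Q4
  | [] => (0, 0, 0, 0)
  | r :: R => add4 (pwl P (dot4 r B) K (1, 0, 0, 0)) (ps4 P K B R)

section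

variable {R : Type*} [CommRing R] (q : R)

/-- the value at `q` -/
def ev (u : Q4) : R := (u.1 : R) + (u.2.1 : R) * q + (u.2.2.1 : R) * q ^ 2 + (u.2.2.2 : R) * q ^ 3

theorem ev_add (u v : Q4) : ev q (add4 u v) = ev q u + ev q v := by
  unfold ev add4
  push_cast
  ring

theorem ev_sm (n : ℤ) (u : Q4) : ev q (sm4 n u) = n * ev q u := by
  unfold ev sm4
  push_cast
  ring

variable {q}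

theorem ev_mx {P : Q4} (hq : q ^ 4 = ev q P) (u : Q4) : ev q (mx P u) = q * ev q u := by
  have h : q * ev q u = (u.1 : R) * q + (u.2.1 : R) * q ^ 2 + (u.2.2.1 : R) * q ^ 3 + (u.2.2.2 : R) * q ^ 4 := by
    unfold ev
    ring
  rw [h, hq]
  unfold ev mx
  push_cast
  ring

theorem ev_mul {P : Q4} (hq : q ^ 4 = ev q P) (u v : Q4) : ev q (mul4 P u v) = ev q u * ev q v := by
  unfold mul4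
  simp only [ev_add, ev_sm, ev_mx hq]
  rw [show ev q u * ev q v = ((u.1 : R) + (u.2.1 : R) * q + (u.2.2.1 : R) * q ^ 2 + (u.2.2.2 : R) * q ^ 3) * ev q v from rfl]
  ring

theorem ev_pwl {P : Q4} (hq : q ^ 4 = ev q P) (u : Q4) (K : List Bool) : ∀ (a : Q4) (n : ℕ), ev q a = ev q u ^ n →
    ev q (pwl P u K a) = ev q u ^ bv K n := by
  induction K with
  | nil => exact fun a n h => h
  | cons b K ih =>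
    intro a n h
    cases b
    · refine ih _ _ ?_
      rw [ev_mul hq, h]
      ring
    · refine ih _ _ ?_
      rw [ev_mul hq, ev_mul hq, h]
      ring

theorem ev_one : ev q (1, 0, 0, 0) = 1 := by
  unfold ev
  push_cast
  ring

theorem ev_zero : ev q (0, 0, 0, 0) = 0 := by
  unfold ev
  push_cast
  ring

theorem ev_int (n : ℤ) : ev q (n, 0, 0, 0) = n := by
  unfold ev
  push_cast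
  ring

/-- the vector with entries `B i (q)` -/
def vv (q : R) {l : ℕ} (B : List Q4) : Fin l → R := fun i => ev q (B.getD i (0, 0, 0, 0))

theorem ev_dot (l : ℕ) : ∀ (r : List ℕ) (B : List Q4), r.length ≤ l → ev q (dot4 r B) = dotF r (vv q B : Fin l → R) := by
  unfold dotF vv
  induction l with
  | zero =>
    intro r B hr
    have : r = [] := List.length_eq_zero_iff.1 (by omega)
    subst this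
    rw [Finset.univ_eq_empty, Finset.sum_empty]
    exact ev_zero
  | succ n ih =>
    intro r B hr
    rw [Fin.sum_univ_succ]
    cases r with
    | nil =>
      simp only [List.getD_nil, Nat.cast_zero, zero_mul, Finset.sum_const_zero, add_zero]
      exact ev_zero
    | cons a as =>
      cases B with
      | nil =>
        simp only [List.getD_nil, ev_zero, mul_zero, Finset.sum_const_zero, add_zero]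
        exact ev_zero
      | cons b bs =>
        rw [dot4, ev_add, ev_sm, ih as bs (by simpa using hr)]
        simp only [_root_.Int.cast_natCast, _root_.List.getD_eq_getElem?_getD, _root_.Fin.coe_ofNat_eq_mod, _root_.Nat.zero_mod, _root_.List.length_cons, _root_.lt_add_iff_pos_left, _root_.Order.lt_add_one_iff, _root_.zero_le, _root_.getElem?_pos, _root_.List.getElem_cons_zero, _root_.Option.getD_some, _root_.Fin.val_succ, _root_.List.getElem?_cons_succ]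

variable {D : ChevalleyDatum} {l : ℕ}

theorem ev_ps {P : Q4} (hq : q ^ 4 = ev q P) (K : List Bool) (B : List Q4) (L : List (List ℕ))
    (hL : ∀ r ∈ L, r.length ≤ l) :
    ev q (ps4 P K B L) = (L.map fun r => dotF r (vv q B : Fin l → R) ^ bv K 0).sum := by
  induction L with
  | nil => exact ev_zero
  | cons r L ih =>
    rw [ps4, ev_add, List.map_cons, List.sum_cons, ih fun s hs => hL s (List.mem_cons_of_mem _ hs),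
      ev_pwl hq _ K (1, 0, 0, 0) 0 (by rw [pow_zero]; exact ev_one), ev_dot l r B (hL r List.mem_cons_self)]

/-- **Power sums over the root values.** -/
theorem psum_eq {P : Q4} (hq : q ^ 4 = ev q P) {L : List (List ℕ)} (hL : chkTab D l L = true)
    (hl : ∀ r ∈ L, r.length ≤ l) (K : List Bool) (B : List Q4) (hK : Even (bv K 0)) :
    ((ms D l (vv q B : Fin l → R)).map fun x => x ^ bv K 0).sum = 2 * ev q (ps4 P K B L) := by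
  rw [sum_ms hL, ev_ps hq K B L hl]
  simp only [hK.neg_pow]
  rw [← List.sum_map_mul_left]
  congr 1
  refine List.map_congr_left fun r _ => ?_
  ring

theorem psum_smul (a : R) (v : Fin l → R) (k : ℕ) :
    ((ms D l (fun i => a * v i)).map fun x => x ^ k).sum = a ^ k * ((ms D l v).map fun x => x ^ k).sum := by
  unfold ms
  rw [Multiset.map_map, Multiset.map_map, ← Multiset.sum_map_mul_left]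
  congr 1
  refine Multiset.map_congr rfl fun s _ => ?_
  simp only [Function.comp_apply]
  rw [← mul_pow, Finset.mul_sum]
  congr 1
  exact Finset.sum_congr rfl fun i _ => by ring

/-- the eigenvector check -/
def EigQ (P : Q4) (W : Mat l) (s : Q4) (B : List Q4) : Prop := ∀ j : Fin l,
  (∑ n : Fin l, W j n * (B.getD n (0, 0, 0, 0)).1 = (mul4 P s (B.getD j (0, 0, 0, 0))).1) ∧
  (∑ n : Fin l, W j n * (B.getD n (0, 0, 0, 0)).2.1 = (mul4 P s (B.getD j (0, 0, 0, 0))).2.1) ∧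
  (∑ n : Fin l, W j n * (B.getD n (0, 0, 0, 0)).2.2.1 = (mul4 P s (B.getD j (0, 0, 0, 0))).2.2.1) ∧
  (∑ n : Fin l, W j n * (B.getD n (0, 0, 0, 0)).2.2.2 = (mul4 P s (B.getD j (0, 0, 0, 0))).2.2.2)

instance (P : Q4) (W : Mat l) (s : Q4) (B : List Q4) : Decidable (EigQ P W s B) := by
  unfold EigQ; infer_instance

theorem EigQ.eigOK {N : ℕ} {q : ZMod N} {P : Q4} (hq : q ^ 4 = ev q P) {W : Mat l} {s : Q4} {B : List Q4}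
    (h : EigQ P W s B) : EigOK W (ev q s) (vv q B : Fin l → ZMod N) := by
  intro j
  obtain ⟨h1, h2, h3, h4⟩ := h j
  show ∑ n : Fin l, (W j n : ZMod N) * ev q (B.getD n (0, 0, 0, 0)) = ev q s * ev q (B.getD j (0, 0, 0, 0))
  rw [← ev_mul hq]
  conv_rhs => rw [ev]
  rw [← h1, ← h2, ← h3, ← h4]
  push_cast
  rw [Finset.sum_mul, Finset.sum_mul, Finset.sum_mul, ← Finset.sum_add_distrib, ← Finset.sum_add_distrib,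
    ← Finset.sum_add_distrib]
  refine Finset.sum_congr rfl fun n _ => ?_
  unfold ev
  ring

end

end Cfsg.Agent.H682.KB
end

-- part: H682/KB/Tor
section
/-!
# Commuting elements of order `p ^ m` in Chevalley groups, with checks in `ℤ[x] / (x⁴ - P)` (helper682, S4822)
-/

set_option autoImplicit false
set_option linter.unusedSectionVars false

namespace Cfsg.Agent.H682.KB

open CoxeterSystem Cfsg Cfsg.Lie Cfsg.Lie.ChevalleyDatum Subgroup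
open Cfsg.Agent.ChevalleyStructure Cfsg.Agent.ChevalleyStructure.Elts Cfsg.Agent.ChevalleyStructure.CoxeterGeom
  Cfsg.Agent.ChevalleyStructure.CoxeterGeomTypes Cfsg.Agent.ChevalleyStructure.NPerm
open Cfsg.Agent.Tits.Roots Cfsg.Agent.Tits.Core Cfsg.Agent.Nodes Cfsg.Agent.Nodes.Reps Cfsg.Agent.Nodes.BNOf
  Cfsg.Agent.Nodes.RGDChev Cfsg.Agent.Nodes.Bruhat
open Cfsg.Agent.KFacts.RgdField Cfsg.Agent.KFacts.RgdChevCoord Cfsg.Agent.BpExc.TorCent Cfsg.Agent.BpExc.TorChev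
open Cfsg.Agent.H129.TorusChar Cfsg.Agent.H129.TorusUntw
  Cfsg.Agent.H129.WData Cfsg.Agent.BpExc Cfsg.Agent.H210.EL Cfsg.Agent.H352.KE Cfsg.Agent.H944.Tab
open Cfsg.Agent.H944.RootVals (ms)
open Cfsg.Agent.H508.KB

universe u v

theorem eigOK_smul {l m : ℕ} {W : Mat l} {s : ZMod m} {a : Fin l → ZMod m} (ha : EigOK W s a) (c : ZMod m) :
    EigOK W s (fun n => c * a n) := by
  intro j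
  have h := ha j
  calc ∑ n, (W j n : ZMod m) * (c * a n) = c * ∑ n, (W j n : ZMod m) * a n := by
        rw [Finset.mul_sum]
        exact Finset.sum_congr rfl fun n _ => by ring
    _ = s * (c * a j) := by rw [h]; ring

theorem eigOK_zero {l m : ℕ} {W : Mat l} {s : ZMod m} : EigOK W s (0 : Fin l → ZMod m) := by
  intro j
  simp only [_root_.Pi.zero_apply, _root_.MulZeroClass.mul_zero, _root_.Finset.sum_const_zero]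

/-! ### the model -/

section model

variable {G : Type v} [Group G] {l N : ℕ} [NeZero N] {W : Mat l} {s : ZMod N} {X : (Fin l → ZMod N) → G}

theorem X_zero (hX : ∀ a b, EigOK W s a → EigOK W s b → X (a + b) = X a * X b) : X 0 = 1 := by
  have h := hX 0 0 eigOK_zero eigOK_zero
  rw [add_zero] at h
  exact (mul_eq_left.1 h.symm)

theorem X_pow (hX : ∀ a b, EigOK W s a → EigOK W s b → X (a + b) = X a * X b) {a : Fin l → ZMod N}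
    (ha : EigOK W s a) (n : ℕ) : X (fun i => (n : ZMod N) * a i) = X a ^ n := by
  induction n with
  | zero =>
    rw [pow_zero, ← X_zero hX]
    congr 1
    funext i
    simp
  | succ n ih =>
    rw [pow_succ, ← ih, ← hX _ _ (eigOK_smul ha _) ha]
    congr 1
    funext i
    simp only [Pi.add_apply]
    push_cast
    ring

theorem X_order (hX : ∀ a b, EigOK W s a → EigOK W s b → X (a + b) = X a * X b)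
    (hX1 : ∀ a, EigOK W s a → X a = 1 → a = 0) {a : Fin l → ZMod N} (ha : EigOK W s a) (i : Fin l) (hi : a i = 1) :
    orderOf (X a) = N := by
  apply Nat.dvd_antisymm
  · apply orderOf_dvd_of_pow_eq_one
    rw [← X_pow hX ha, ← X_zero hX]
    congr 1
    funext j
    simp
  · have h1 := pow_orderOf_eq_one (X a)
    rw [← X_pow hX ha] at h1
    have h2 := congrFun (hX1 _ (eigOK_smul ha _) h1) i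
    rw [hi, mul_one, Pi.zero_apply] at h2
    exact (ZMod.natCast_eq_zero_iff _ _).1 h2

end model

theorem ev_x {R : Type*} [CommRing R] (q : R) : ev q (0, 1, 0, 0) = q := by
  unfold ev
  push_cast
  ring

variable {D : ChevalleyDatum} {l : ℕ} {M : CoxeterMatrix (Fin l)} (hp : IsType D l M)

include hp in
/-- **Commuting elements of order `p ^ m`** -/
theorem exists_prs {F : Type u} [Field F] [Fintype F] {p m : ℕ} [Fact p.Prime] (hpF : (p : F) ≠ 0)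
    {B₀ : Fin l → Fin l → ℤ} (hB : InvC D l 1 B₀) {A : Mat l} (hA : ∀ i j, A i j = cartanOf D l i j)
    {Cw : List (Fin l × Mat l)} (hw : ChainOK A Cw) {P : Q4}
    (hq : (Fintype.card F : ZMod (p ^ m)) ^ 4 = ev (Fintype.card F : ZMod (p ^ m)) P) {d : ℕ}
    (hqd : (Fintype.card F : ZMod (p ^ m)) ^ d = 1) {ι : Type} (Cv : ι → List (Fin l × Mat l))
    (hv : ∀ t, ChainOK A (Cv t)) (hc : ∀ t, CommOK (hd (Cv t)) (hd Cw)) (b a : ι → List Q4)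
    (eb : ∀ t, EigQ P (hd Cw) (0, 1, 0, 0) (b t)) (ea : ∀ t, EigQ P (hd Cw) (0, 1, 0, 0) (a t))
    (evb : ∀ t, EigQ P (hd (Cv t)) (1, 0, 0, 0) (b t)) (s : ι → Q4)
    (eva : ∀ t, EigQ P (hd (Cv t)) (s t) (a t)) (k k' : ι → ℕ)
    (hs : ∀ t, ev (Fintype.card F : ZMod (p ^ m)) (s t) = (Fintype.card F : ZMod (p ^ m)) ^ k t)
    (hk : ∀ t, k t + k' t = d) (ib : ∀ t, ∃ i : Fin l, (b t).getD i (0, 0, 0, 0) = (1, 0, 0, 0))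
    (ia : ∀ t, ∃ i : Fin l, (a t).getD i (0, 0, 0, 0) = (1, 0, 0, 0)) :
    ∃ x : ι → ↥(D.group F), (∀ t, ∃ y c, Pr p m (x t) y c (Fintype.card F ^ k' t)) ∧
      ∀ t t' (i j : ℕ), IsConj (x t ^ i) (x t' ^ j) →
        ms D l (fun n => (i : ZMod (p ^ m)) * vv (Fintype.card F : ZMod (p ^ m)) (b t) n) =
          ms D l (fun n => (j : ZMod (p ^ m)) * vv (Fintype.card F : ZMod (p ^ m)) (b t') n) := by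
  have hpp : p.Prime := Fact.out
  have : NeZero (p ^ m) := ⟨pow_ne_zero _ hpp.ne_zero⟩
  have hNF : ((p ^ m : ℕ) : F) ≠ 0 := by
    rw [Nat.cast_pow]
    exact pow_ne_zero _ hpF
  obtain ⟨X, hX, hX1, hXc, hXf⟩ := exists_frame (F := F) hp hNF hB hA hw
  set q : ZMod (p ^ m) := (Fintype.card F : ZMod (p ^ m)) with hqdef
  have eb' : ∀ t, EigOK (hd Cw) q (vv q (b t) : Fin l → ZMod (p ^ m)) := by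
    intro t
    have h := (eb t).eigOK hq
    rwa [ev_x] at h
  have ea' : ∀ t, EigOK (hd Cw) q (vv q (a t) : Fin l → ZMod (p ^ m)) := by
    intro t
    have h := (ea t).eigOK hq
    rwa [ev_x] at h
  refine ⟨fun t => X (vv q (b t)), fun t => ?_, fun t t' i j h => ?_⟩
  · obtain ⟨c, hc⟩ := hXc (Cv t) (hv t) (hc t)
    refine ⟨X (vv q (a t)), c, ?_, ?_, ?_, ?_, ?_⟩
    · obtain ⟨i, hi⟩ := ib t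
      exact X_order hX hX1 (eb' t) i (by unfold vv; rw [hi]; exact ev_one)
    · obtain ⟨i, hi⟩ := ia t
      exact X_order hX hX1 (ea' t) i (by unfold vv; rw [hi]; exact ev_one)
    · rw [← hX _ _ (eb' t) (ea' t), ← hX _ _ (ea' t) (eb' t), add_comm]
    · have h1 := hc (vv q (b t)) (vv q (b t)) (eb' t) (eb' t) (fun j => by
        have h2 := (evb t).eigOK hq j
        rwa [ev_one, one_mul] at h2)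
      rwa [mul_inv_eq_iff_eq_mul] at h1
    · have h1 := hc (vv q (a t)) (fun n => ((Fintype.card F ^ k' t : ℕ) : ZMod (p ^ m)) * vv q (a t) n) (ea' t)
        (eigOK_smul (ea' t) _) (fun j => by
          have h2 := eigOK_smul ((eva t).eigOK hq) ((Fintype.card F ^ k' t : ℕ) : ZMod (p ^ m)) j
          rw [h2, hs, Nat.cast_pow, ← hqdef, ← mul_assoc, ← pow_add, hk, hqd, one_mul])
      rw [h1, X_pow hX (ea' t)]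
  · have h1 : IsConj (X (fun n => (i : ZMod (p ^ m)) * vv q (b t) n)) (X (fun n => (j : ZMod (p ^ m)) * vv q (b t') n)) := by
      rw [X_pow hX (eb' t), X_pow hX (eb' t')]
      exact h
    exact hXf _ _ (eigOK_smul (eb' t) _) (eigOK_smul (eb' t') _) h1

/-! ### units of `ZMod (p ^ m)` -/

section units

variable {p m : ℕ} [Fact p.Prime] (hm : m ≠ 0)

include hm in
theorem isUnit_of_cast {z : ZMod (p ^ m)} (h : ZMod.castHom (dvd_pow_self p hm) (ZMod p) z ≠ 0) : IsUnit z := by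
  have hpp : p.Prime := Fact.out
  have : NeZero (p ^ m) := ⟨pow_ne_zero _ hpp.ne_zero⟩
  rw [← ZMod.natCast_zmod_val z] at h ⊢
  rw [ZMod.isUnit_iff_coprime]
  apply Nat.Coprime.pow_right
  rw [Nat.coprime_comm, Nat.Prime.coprime_iff_not_dvd hpp]
  intro h1
  apply h
  rw [map_natCast]
  exact (CharP.cast_eq_zero_iff (ZMod p) p _).2 h1

include hm in
theorem isUnit_int {n : ℤ} (h : ¬ (p : ℤ) ∣ n) : IsUnit (n : ZMod (p ^ m)) := by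
  apply isUnit_of_cast hm
  rw [map_intCast]
  intro h1
  exact h ((ZMod.intCast_zmod_eq_zero_iff_dvd n p).1 h1)

include hm in
/-- a certificate for a unit -/
theorem isUnit_ev {q : ZMod (p ^ m)} {P : Q4} (hq : q ^ 4 = ev q P) {u C : Q4} {n : ℤ}
    (h : mul4 P u C = (n, 0, 0, 0)) (hn : ¬ (p : ℤ) ∣ n) : IsUnit (ev q C) := by
  have h1 : ev q u * ev q C = n := by rw [← ev_mul hq, h, ev_int]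
  exact isUnit_of_mul_isUnit_right (h1 ▸ isUnit_int hm hn)

include hm in
theorem isUnit_two (hp2 : p ≠ 2) : IsUnit (2 : ZMod (p ^ m)) := by
  have hpp : p.Prime := Fact.out
  have h := isUnit_int (p := p) hm (n := 2) (by
    intro h1
    exact hp2 ((Nat.prime_dvd_prime_iff_eq hpp Nat.prime_two).1 (by exact_mod_cast h1)))
  exact_mod_cast h

/-- the `k`-th powers of `i` and `j` agree -/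
theorem pow_eq_of_ms {q : ZMod (p ^ m)} {P : Q4} (hq : q ^ 4 = ev q P) (hp2 : p ≠ 2) {L : List (List ℕ)}
    (hL : chkTab D l L = true) (hl : ∀ r ∈ L, r.length ≤ l) {K : List Bool} (hK : Even (bv K 0)) {B B' : List Q4}
    {i j : ℕ} (h : ms D l (fun n : Fin l => (i : ZMod (p ^ m)) * vv q B n) =
      ms D l (fun n : Fin l => (j : ZMod (p ^ m)) * vv q B' n)) :
    (i : ZMod (p ^ m)) ^ bv K 0 * ev q (ps4 P K B L) = (j : ZMod (p ^ m)) ^ bv K 0 * ev q (ps4 P K B' L) := by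
  by_cases hm : m = 0
  · subst hm
    exact Subsingleton.elim (α := ZMod 1) _ _
  have h1 : ((ms D l (fun n : Fin l => (i : ZMod (p ^ m)) * vv q B n)).map fun x => x ^ bv K 0).sum =
      ((ms D l (fun n : Fin l => (j : ZMod (p ^ m)) * vv q B' n)).map fun x => x ^ bv K 0).sum := by rw [h]
  rw [psum_smul, psum_smul, psum_eq hq hL hl K B hK, psum_eq hq hL hl K B' hK] at h1
  obtain ⟨u, hu⟩ := isUnit_two (p := p) hm hp2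
  rw [← hu] at h1
  have h2 : (u : ZMod (p ^ m)) * ((i : ZMod (p ^ m)) ^ bv K 0 * ev q (ps4 P K B L)) =
      (u : ZMod (p ^ m)) * ((j : ZMod (p ^ m)) ^ bv K 0 * ev q (ps4 P K B' L)) := by
    linear_combination h1
  exact (Units.mul_right_inj u).1 h2

end units

end Cfsg.Agent.H682.KB
end

-- part: H682/KB/Rel
section
/-!
# Relations modulo `p ^ m`, fusion from power sums, assembly (helper682, S4822)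
-/

set_option autoImplicit false
set_option linter.unusedSectionVars false

namespace Cfsg.Agent.H682.KB

open Cfsg Cfsg.Lie Subgroup
open Cfsg.Agent.H944.Tab
open Cfsg.Agent.H944.RootVals (ms)
open Cfsg.Agent.H508.KB

universe u v

variable {p : ℕ} [Fact p.Prime]

/-! ### `q⁴ = P(q)` -/

section rel

variable {m q : ℕ} (hm : m ≠ 0)

theorem qd_eq_one {d : ℕ} (hq : 0 < q) (h : p ^ m ∣ q ^ d - 1) : (q : ZMod (p ^ m)) ^ d = 1 := by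
  have h1 := (ZMod.natCast_eq_zero_iff _ _).2 h
  rw [Nat.cast_sub (Nat.one_le_pow _ _ hq), sub_eq_zero] at h1
  exact_mod_cast h1

include hm in
theorem eq_zero_of_mul {z w : ZMod (p ^ m)} (hz : ZMod.castHom (dvd_pow_self p hm) (ZMod p) z ≠ 0) (h : z * w = 0) :
    w = 0 := by
  obtain ⟨u, rfl⟩ := isUnit_of_cast hm hz
  exact (Units.mul_right_eq_zero u).1 h

theorem pow_ne_one {d : ℕ} {x : ZMod p} (hd : orderOf x = d) {k : ℕ} (hk : ¬ d ∣ k) : x ^ k ≠ 1 := by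
  intro h
  rw [← hd] at hk
  exact hk (orderOf_dvd_of_pow_eq_one h)

include hm in
theorem rel5 (hd : orderOf (q : ZMod p) = 5) (h : (q : ZMod (p ^ m)) ^ 5 = 1) :
    (q : ZMod (p ^ m)) ^ 4 = ev (q : ZMod (p ^ m)) (-1, -1, -1, -1) := by
  have h1 := pow_ne_one hd (k := 1) (by norm_num)
  have h2 := eq_zero_of_mul hm (z := (q : ZMod (p ^ m)) - 1)
    (w := (q : ZMod (p ^ m)) ^ 4 - ev (q : ZMod (p ^ m)) (-1, -1, -1, -1)) (by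
      rw [map_sub, map_natCast, map_one, sub_ne_zero]
      rwa [pow_one] at h1) (by
      unfold ev
      push_cast
      linear_combination h)
  exact sub_eq_zero.1 h2

include hm in
theorem rel8 (hd : orderOf (q : ZMod p) = 8) (h : (q : ZMod (p ^ m)) ^ 8 = 1) :
    (q : ZMod (p ^ m)) ^ 4 = ev (q : ZMod (p ^ m)) (-1, 0, 0, 0) := by
  have h1 := pow_ne_one hd (k := 4) (by norm_num)
  have h2 := eq_zero_of_mul hm (z := (q : ZMod (p ^ m)) ^ 4 - 1)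
    (w := (q : ZMod (p ^ m)) ^ 4 - ev (q : ZMod (p ^ m)) (-1, 0, 0, 0)) (by
      rw [map_sub, map_pow, map_natCast, map_one, sub_ne_zero]
      exact h1) (by
      unfold ev
      push_cast
      linear_combination h)
  exact sub_eq_zero.1 h2

include hm in
theorem rel10 (hd : orderOf (q : ZMod p) = 10) (h : (q : ZMod (p ^ m)) ^ 10 = 1) :
    (q : ZMod (p ^ m)) ^ 4 = ev (q : ZMod (p ^ m)) (-1, 1, -1, 1) := by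
  have h1 := pow_ne_one hd (k := 5) (by norm_num)
  have h2 := pow_ne_one hd (k := 2) (by norm_num)
  have h3 := eq_zero_of_mul hm (z := ((q : ZMod (p ^ m)) ^ 5 - 1) * ((q : ZMod (p ^ m)) + 1))
    (w := (q : ZMod (p ^ m)) ^ 4 - ev (q : ZMod (p ^ m)) (-1, 1, -1, 1)) (by
      rw [map_mul, map_sub, map_add, map_pow, map_natCast, map_one]
      refine mul_ne_zero (sub_ne_zero.2 h1) fun h4 => h2 ?_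
      rw [eq_neg_of_add_eq_zero_left h4]
      ring) (by
      unfold ev
      push_cast
      linear_combination h)
  exact sub_eq_zero.1 h3

include hm in
theorem rel12 (hd : orderOf (q : ZMod p) = 12) (h : (q : ZMod (p ^ m)) ^ 12 = 1) :
    (q : ZMod (p ^ m)) ^ 4 = ev (q : ZMod (p ^ m)) (-1, 0, 1, 0) := by
  have h1 := pow_ne_one hd (k := 6) (by norm_num)
  have h2 := pow_ne_one hd (k := 4) (by norm_num)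
  have h3 := eq_zero_of_mul hm (z := ((q : ZMod (p ^ m)) ^ 6 - 1) * ((q : ZMod (p ^ m)) ^ 2 + 1))
    (w := (q : ZMod (p ^ m)) ^ 4 - ev (q : ZMod (p ^ m)) (-1, 0, 1, 0)) (by
      rw [map_mul, map_sub, map_add, map_pow, map_pow, map_natCast, map_one]
      refine mul_ne_zero (sub_ne_zero.2 h1) fun h4 => h2 ?_
      have h5 := eq_neg_of_add_eq_zero_left h4
      calc (q : ZMod p) ^ 4 = ((q : ZMod p) ^ 2) ^ 2 := by ring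
        _ = 1 := by rw [h5]; ring) (by
      unfold ev
      push_cast
      linear_combination h)
  exact sub_eq_zero.1 h3

end rel

/-! ### fusion -/

section fus

variable {D : ChevalleyDatum} {l m : ℕ} (hm : m ≠ 0)

include hm in
theorem pow_eq_mod {q : ZMod (p ^ m)} {P : Q4} (hq : q ^ 4 = ev q P) (hp2 : p ≠ 2) {L : List (List ℕ)}
    (hL : chkTab D l L = true) (hl : ∀ r ∈ L, r.length ≤ l) {K : List Bool} (hK : Even (bv K 0)) {B : List Q4}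
    {i j : ℕ} (h : ms D l (fun n : Fin l => (i : ZMod (p ^ m)) * vv q B n) =
      ms D l (fun n : Fin l => (j : ZMod (p ^ m)) * vv q B n)) {u : Q4} {n : ℤ}
    (hu : mul4 P u (ps4 P K B L) = (n, 0, 0, 0)) (hn : ¬ p ∣ n.natAbs) :
    (i : ZMod p) ^ bv K 0 = (j : ZMod p) ^ bv K 0 := by
  have h1 := pow_eq_of_ms hq hp2 hL hl hK h
  obtain ⟨w, hw⟩ := isUnit_ev hm hq hu (by rwa [Int.natCast_dvd])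
  rw [← hw] at h1
  have h2 := congrArg (ZMod.castHom (dvd_pow_self p hm) (ZMod p)) ((Units.mul_left_inj w).1 h1)
  simpa only [map_pow, map_natCast] using h2

theorem pow_gcd_eq {a b : ZMod p} (hb : b ≠ 0) {k k' : ℕ} (h1 : a ^ k = b ^ k) (h2 : a ^ k' = b ^ k') :
    a ^ k.gcd k' = b ^ k.gcd k' := by
  have key : ∀ n, (a / b) ^ n = 1 ↔ a ^ n = b ^ n := by
    intro n
    rw [div_pow, div_eq_one_iff_eq (pow_ne_zero _ hb)]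
  rw [← key, ← orderOf_dvd_iff_pow_eq_one]
  exact Nat.dvd_gcd (orderOf_dvd_of_pow_eq_one ((key k).2 h1)) (orderOf_dvd_of_pow_eq_one ((key k').2 h2))

theorem dvd_cases {L : List ℕ} (hL : ∀ x ∈ L, x.Prime) (h : p ∣ L.prod) : p ∈ L := by
  have hp : p.Prime := Fact.out
  obtain ⟨x, hx, hd⟩ := (Prime.dvd_prod_iff (Nat.prime_iff.1 hp)).1 h
  rwa [(Nat.prime_dvd_prime_iff_eq hp (hL x hx)).1 hd]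

end fus

/-! ### assembly -/

section asm

variable {M : Ideal AlgInt}

theorem two_le_one {S : Type u} [Group S] [Finite S] (hM : IsPModular p M) {m : ℕ} (hm : m ≠ 0) {x y c : S} {n : ℕ}
    (h : Pr p m x y c n) (hn : (n : ZMod p) ≠ 1) :
    2 ≤ blockRank p (principalBlock M ↥(centralizer ({(1 : S)} : Set S))) := by
  have h1 : ∀ g : S, g ∈ centralizer ({(1 : S)} : Set S) := fun g =>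
    mem_centralizer_singleton_iff.2 (by rw [mul_one, one_mul])
  refine two_le_of_conj (y := ⟨y, h1 y⟩) (c := ⟨c, h1 c⟩) (n := n) hM hm ?_ (Subtype.ext h.cy) hn
  rw [Subgroup.orderOf_mk, h.oy]

/-- **The assembly.** -/
theorem kB_of_prs {G : Type v} [Group G] {S : Type u} [Group S] [Finite S] (f : G ≃* S) (hM : IsPModular p M)
    {m e : ℕ} (hm : m ≠ 0) (he : e ≠ 0) (hS : ¬ p ^ (2 * m + 1) ∣ Nat.card G) {ι : Type} [Fintype ι] (x : ι → G)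
    (n : ι → ℕ) (hx : ∀ t, ∃ y c, Pr p m (x t) y c (n t))
    (fus : ∀ a b (i j : ℕ), ¬ p ∣ i → ¬ p ∣ j → IsConj (x a ^ i) (x b ^ j) → a = b ∧ (i : ZMod p) ^ e = (j : ZMod p) ^ e)
    (hn : ∃ t, (n t : ZMod p) ≠ 1) (hL : e ≤ 2 * ∑ t, orderOf (n t : ZMod p)) : p + 3 ≤ 2 * kB M S := by
  have hG : Finite G := Finite.of_equiv S f.symm.toEquiv
  have hS' : ¬ p ^ (2 * m + 1) ∣ Nat.card S := by rwa [← Nat.card_congr f.toEquiv]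
  choose y c hpr using hx
  have hpr' : ∀ t, Pr p m (f (x t)) (f (y t)) (f (c t)) (n t) := fun t => (hpr t).map f
  refine count hM hm he (fun t => f (x t)) (fun t => (hpr' t).ox) (fun a b i j hi hj h => fus a b i j hi hj ?_)
    (fun t => orderOf (n t : ZMod p)) (fun t i hi => rank_pair hM hm hS' ((hpr' t).pow hi)) ?_ hL
  · have h1 := f.symm.toMonoidHom.map_isConj h
    simpa only [_root_.isConj_iff, _root_.MulEquiv.toMonoidHom_eq_coe, _root_.MonoidHom.coe_coe, _root_.map_pow, _root_.MulEquiv.symm_apply_apply] using h1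
  · obtain ⟨t, ht⟩ := hn
    exact two_le_one hM hm (hpr' t) ht

end asm

end Cfsg.Agent.H682.KB
end

-- part: H682/KB/Val
section
/-!
# The `p`-part of the order of `E₈(q)` (helper682, S4822)
-/

set_option autoImplicit false

open Cfsg Cfsg.Lie

namespace Cfsg.Agent.H682.KB

universe u

theorem val_factor {p q d i : ℕ} [Fact p.Prime] (hp : Odd p) (hq : 1 < q) (hd : orderOf (q : ZMod p) = d)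
    (hi : i ≠ 0) (hip : i < p * d) :
    padicValNat p (q ^ i - 1) = if d ∣ i then padicValNat p (q ^ d - 1) else 0 := by
  have hpp : p.Prime := Fact.out
  have key : ∀ j, p ∣ q ^ j - 1 ↔ d ∣ j := by
    intro j
    rw [← hd, orderOf_dvd_iff_pow_eq_one, ← CharP.cast_eq_zero_iff (ZMod p) p, Nat.cast_sub (Nat.one_le_pow _ _ (by omega)),
      sub_eq_zero]
    push_cast
    rfl
  have hd0 : d ≠ 0 := by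
    rintro rfl
    omega
  split_ifs with h
  · obtain ⟨k, rfl⟩ := h
    have hk : k ≠ 0 := by
      rintro rfl
      exact hi (Nat.mul_zero _)
    have h1 : p ∣ q ^ d - 1 := (key d).2 dvd_rfl
    have h2 : ¬ p ∣ q ^ d := by
      intro h3
      have h4 : p ∣ 1 := by
        have h5 := (Nat.dvd_sub h3 h1)
        rwa [Nat.sub_sub_self (Nat.one_le_pow _ _ (by omega))] at h5
      exact hpp.one_lt.ne' (Nat.dvd_one.1 h4)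
    have h3 := padicValNat.pow_sub_pow (p := p) (x := q ^ d) (y := 1) hp (Nat.one_lt_pow hd0 hq) h1 h2 (n := k) hk
    have h4 : padicValNat p k = 0 := by
      apply padicValNat.eq_zero_of_not_dvd
      intro h5
      have h6 := Nat.le_of_dvd (Nat.pos_of_ne_zero hk) h5
      have h7 : p * d ≤ d * k := by
        rw [mul_comm]
        exact Nat.mul_le_mul_left _ h6
      omega
    rw [one_pow, ← pow_mul, h4, add_zero] at h3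
    exact h3
  · exact padicValNat.eq_zero_of_not_dvd fun h1 => h ((key i).1 h1)

/-- `n ≠ 0` has the `p`-adic valuation `k` -/
def HV (p n k : ℕ) : Prop := n ≠ 0 ∧ padicValNat p n = k

theorem HV.mul {p n k n' k' : ℕ} [Fact p.Prime] (h : HV p n k) (h' : HV p n' k') : HV p (n * n') (k + k') :=
  ⟨mul_ne_zero h.1 h'.1, by rw [padicValNat.mul h.1 h'.1, h.2, h'.2]⟩

/-- **The `p`-part of `|E₈(q)|`**, `ord_p(q) ∈ {5, 8, 10, 12}`. -/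
theorem card_E8_not_dvd {F : Type u} [Field F] [Fintype F] {p : ℕ} [Fact p.Prime] (h11 : 11 ≤ p)
    (hd : orderOf (Fintype.card F : ZMod p) = 5 ∨ orderOf (Fintype.card F : ZMod p) = 8 ∨
      orderOf (Fintype.card F : ZMod p) = 10 ∨ orderOf (Fintype.card F : ZMod p) = 12) {m : ℕ}
    (hm : padicValNat p (Fintype.card F ^ orderOf (Fintype.card F : ZMod p) - 1) = m) :
    ¬ p ^ (2 * m + 1) ∣ Nat.card ↥(chevE8.group F) := by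
  have hpp : p.Prime := Fact.out
  have hq : 1 < Fintype.card F := Fintype.one_lt_card
  have hodd : Odd p := hpp.odd_of_ne_two (by omega)
  rw [Cfsg.Agent.S1065.result (F := F) rfl]
  set q := Fintype.card F with hqdef
  have h0 : ∀ i, i ≠ 0 → q ^ i - 1 ≠ 0 := by
    intro i hi
    have := Nat.one_lt_pow hi hq
    omega
  have hq0 : HV p (q ^ 120) 0 := by
    refine ⟨pow_ne_zero _ (by omega), ?_⟩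
    apply padicValNat.eq_zero_of_not_dvd
    intro h
    have h1 := hpp.dvd_of_dvd_pow h
    have h2 : (q : ZMod p) = 0 := (CharP.cast_eq_zero_iff (ZMod p) p q).2 h1
    rw [h2] at hd
    have h3 : orderOf (0 : ZMod p) = 0 := orderOf_zero (ZMod p)
    rw [h3] at hd
    omega
  have hv : ∀ (i : ℕ) (d : ℕ), orderOf (q : ZMod p) = d → 5 ≤ d → i ≠ 0 → i ≤ 30 →
      HV p (q ^ i - 1) (if d ∣ i then padicValNat p (q ^ d - 1) else 0) :=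
    fun i d hd hd5 hi hip => ⟨h0 i hi, val_factor hodd hq hd hi (by nlinarith only [h11, hd5, hip])⟩
  have hall : ∀ d, orderOf (q : ZMod p) = d → 5 ≤ d → HV p (q ^ 120 * (q ^ 2 - 1) * (q ^ 8 - 1) * (q ^ 12 - 1) *
      (q ^ 14 - 1) * (q ^ 18 - 1) * (q ^ 20 - 1) * (q ^ 24 - 1) * (q ^ 30 - 1)) _ := fun d hd hd5 =>
    (((((((hq0.mul (hv 2 d hd hd5 (by norm_num) (by norm_num))).mul (hv 8 d hd hd5 (by norm_num) (by norm_num))).mul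
      (hv 12 d hd hd5 (by norm_num) (by norm_num))).mul (hv 14 d hd hd5 (by norm_num) (by norm_num))).mul
      (hv 18 d hd hd5 (by norm_num) (by norm_num))).mul (hv 20 d hd hd5 (by norm_num) (by norm_num))).mul
      (hv 24 d hd hd5 (by norm_num) (by norm_num))).mul (hv 30 d hd hd5 (by norm_num) (by norm_num))
  have hfin : HV p (q ^ 120 * (q ^ 2 - 1) * (q ^ 8 - 1) * (q ^ 12 - 1) * (q ^ 14 - 1) * (q ^ 18 - 1) *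
      (q ^ 20 - 1) * (q ^ 24 - 1) * (q ^ 30 - 1)) (2 * m) := by
    rcases hd with h | h | h | h <;> rw [h] at hm
    · have h1 := hall 5 h (by norm_num)
      rw [hm] at h1
      have h2 := h1.2
      norm_num only [_root_.ite_false, _root_.add_zero, _root_.ite_true, _root_.zero_add] at h2
      exact ⟨h1.1, by rw [h2]; ring⟩
    · have h1 := hall 8 h (by norm_num)
      rw [hm] at h1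
      have h2 := h1.2
      norm_num only [_root_.ite_false, _root_.add_zero, _root_.ite_true, _root_.zero_add] at h2
      exact ⟨h1.1, by rw [h2]; ring⟩
    · have h1 := hall 10 h (by norm_num)
      rw [hm] at h1
      have h2 := h1.2
      norm_num only [_root_.ite_false, _root_.add_zero, _root_.ite_true, _root_.zero_add] at h2
      exact ⟨h1.1, by rw [h2]; ring⟩
    · have h1 := hall 12 h (by norm_num)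
      rw [hm] at h1
      have h2 := h1.2
      norm_num only [_root_.ite_false, _root_.add_zero, _root_.ite_true, _root_.zero_add] at h2
      exact ⟨h1.1, by rw [h2]; ring⟩
  rw [padicValNat_dvd_iff_le hfin.1, hfin.2]
  omega

end Cfsg.Agent.H682.KB
end

-- part: H682/KB/Data
section
/-!
# Elements of the Weyl group of type `E₈`, eigenvectors and power sums (helper682, S4822)

`d = 5, 8, 10, 12`: `w` with the characteristic polynomial `Φ_d²`, complex reflections `v` in the centralizer of `w`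
acting on the eigenspace of `w`, eigenvectors `b` (fixed by `v`) and `a`.
-/

set_option autoImplicit false
set_option maxRecDepth 100000
set_option maxHeartbeats 8000000

namespace Cfsg.Agent.H682.KB

open Cfsg Cfsg.Lie Cfsg.Agent.H129.WData Cfsg.Agent.H210.EL Cfsg.Agent.H944.Tab Cfsg.Agent.H942.E8Tab
open Cfsg.Agent.ChevalleyStructure.CoxeterGeom Cfsg.Agent.ChevalleyStructure.CoxeterGeomTypes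

/-- a matrix from a list of rows -/
def mt (L : List (List ℤ)) : Mat 8 := fun i j => (L.getD i []).getD j 0

/-- the Cartan matrix -/
def Am : Mat 8 := (beta% delta% lq2623ca974a fun a b _ _ _ _ _ =>
 mt (a (a 2<|a 0<|a (-1)<|a 0<|a 0<|a 0<|a 0<|a 0<|b)<|a (a 0<|a 2<|a 0<|a (-1)<|a 0<|a 0<|a 0<|a 0<|b)<|a (a (-1)<|a 0<|a 2<|a (-1)<|a 0<|a 0<|a 0<|a 0<|b)<|a (a 0<|a (-1)<|a (-1)<|a 2<|a (-1)<|a 0<|a 0<|a 0<|b)<|a (a 0<|a 0<|a 0<|a (-1)<|a 2<|a (-1)<|a 0<|a 0<|b)<|a (a 0<|a 0<|a 0<|a 0<|a (-1)<|a 2<|a (-1)<|a 0<|b)<|a (a 0<|a 0<|a 0<|a 0<|a 0<|a (-1)<|a 2<|a (-1)<|b)<|a (a 0<|a 0<|a 0<|a 0<|a 0<|a 0<|a (-1)<|a 2<|b)<|b))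

private noncomputable def _root_.Cfsg.Agent.LsF.f471b37_0 : {f // @Cfsg.Agent.H682.KB.mt = f} := ⟨_, by first | (delta Cfsg.Agent.H682.KB.mt; rewrite [Cfsg.Agent.LsF.getD_eq]; exact rfl) | exact rfl⟩
private noncomputable def _root_.Cfsg.Agent.LsF.f471b37_1 : {f // @Cfsg.Agent.H682.KB.Am = f} := ⟨_, by first | (delta Cfsg.Agent.H682.KB.Am; rewrite [Cfsg.Agent.LsF.f471b37_0.2, Cfsg.Agent.LsF.ineg_pat]; exact rfl) | exact rfl⟩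
private noncomputable def _root_.Cfsg.Agent.LsF.f471b37_2 : {f // @Cfsg.Lie.ChevalleyDatum.cartan = f} := ⟨_, by first | (delta Cfsg.Lie.ChevalleyDatum.cartan; rewrite [Cfsg.Agent.LsF.agetD_eq]; exact rfl) | exact rfl⟩
private noncomputable def _root_.Cfsg.Agent.LsF.f471b37_3 : {f // @Cfsg.Lie.ChevalleyDatum.simple = f} := ⟨_, by first | (delta Cfsg.Lie.ChevalleyDatum.simple; rewrite [Cfsg.Agent.LsF.agetD_eq]; exact rfl) | exact rfl⟩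
private noncomputable def _root_.Cfsg.Agent.LsF.f471b37_4 : {f // @Cfsg.Agent.ChevalleyStructure.CoxeterGeomTypes.cartanOf = f} := ⟨_, by first | (delta Cfsg.Agent.ChevalleyStructure.CoxeterGeomTypes.cartanOf; rewrite [Cfsg.Agent.LsF.f471b37_2.2, Cfsg.Agent.LsF.f471b37_3.2]; exact rfl) | exact rfl⟩
theorem hA : ∀ i j, Am i j = cartanOf chevE8 8 i j := by (refine of_decide_eq_true ?_; (try (rewrite [Cfsg.Agent.LsF.f471b37_1.2, Cfsg.Agent.LsF.f471b37_4.2, Cfsg.Agent.LsF.instIDecEq_eq, Cfsg.Agent.LsF.dForallFin_eq, Cfsg.Agent.LsF.decide_eq])); decide +kernel)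

namespace D5

/-- the element `w` -/
def cw : List (Fin 8 × Mat 8) := (beta% delta% lq2623ca974a fun a b c _ _ f _ =>
 (let h:=(let h:=(let h:=(f (c 5 (mt (a (a (-1)<|a 0<|a (-1)<|a (-1)<|a (-1)<|a (-1)<|a 0<|a 0<|b)<|a (a 0<|a (-1)<|a 0<|a (-1)<|a (-1)<|a (-1)<|a 0<|a 0<|b)<|a (a 1<|a 0<|a 0<|a 0<|a 0<|a 0<|a 0<|a 0<|b)<|a (a 0<|a 1<|a 1<|a 1<|a 1<|a 1<|a 0<|a 0<|b)<|a (a 0<|a 0<|a 0<|a 1<|a 0<|a 0<|a 0<|a 0<|b)<|a (a 0<|a 0<|a 0<|a 0<|a 1<|a 0<|a 0<|a 0<|b)<|a (a 0<|a 0<|a 0<|a 0<|a 0<|a 1<|a 1<|a 0<|b)<|a (a 0<|a 0<|a 0<|a 0<|a 0<|a 0<|a 0<|a 1<|b)<|b)))<|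
 f (c 4 (mt (a (a (-1)<|a 0<|a (-1)<|a (-1)<|a (-1)<|a 0<|a 0<|a 0<|b)<|a (a 0<|a (-1)<|a 0<|a (-1)<|a (-1)<|a 0<|a 0<|a 0<|b)<|a (a 1<|a 0<|a 0<|a 0<|a 0<|a 0<|a 0<|a 0<|b)<|a (a 0<|a 1<|a 1<|a 1<|a 1<|a 0<|a 0<|a 0<|b)<|a (a 0<|a 0<|a 0<|a 1<|a 0<|a 0<|a 0<|a 0<|b)<|a (a 0<|a 0<|a 0<|a 0<|a 1<|a 1<|a 0<|a 0<|b)<|a (a 0<|a 0<|a 0<|a 0<|a 0<|a 0<|a 1<|a 0<|b)<|a (a 0<|a 0<|a 0<|a 0<|a 0<|a 0<|a 0<|a 1<|b)<|b)))<|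
 f (c 3 (mt (a (a (-1)<|a 0<|a (-1)<|a (-1)<|a 0<|a 0<|a 0<|a 0<|b)<|a (a 0<|a (-1)<|a 0<|a (-1)<|a 0<|a 0<|a 0<|a 0<|b)<|a (a 1<|a 0<|a 0<|a 0<|a 0<|a 0<|a 0<|a 0<|b)<|a (a 0<|a 1<|a 1<|a 1<|a 0<|a 0<|a 0<|a 0<|b)<|a (a 0<|a 0<|a 0<|a 1<|a 1<|a 0<|a 0<|a 0<|b)<|a (a 0<|a 0<|a 0<|a 0<|a 0<|a 1<|a 0<|a 0<|b)<|a (a 0<|a 0<|a 0<|a 0<|a 0<|a 0<|a 1<|a 0<|b)<|a (a 0<|a 0<|a 0<|a 0<|a 0<|a 0<|a 0<|a 1<|b)<|b)))<|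
 f (c 1 (mt (a (a (-1)<|a 0<|a (-1)<|a 0<|a 0<|a 0<|a 0<|a 0<|b)<|a (a 0<|a (-1)<|a 0<|a 0<|a 0<|a 0<|a 0<|a 0<|b)<|a (a 1<|a 0<|a 0<|a 0<|a 0<|a 0<|a 0<|a 0<|b)<|a (a 0<|a 1<|a 1<|a 1<|a 0<|a 0<|a 0<|a 0<|b)<|a (a 0<|a 0<|a 0<|a 0<|a 1<|a 0<|a 0<|a 0<|b)<|a (a 0<|a 0<|a 0<|a 0<|a 0<|a 1<|a 0<|a 0<|b)<|a (a 0<|a 0<|a 0<|a 0<|a 0<|a 0<|a 1<|a 0<|b)<|a (a 0<|a 0<|a 0<|a 0<|a 0<|a 0<|a 0<|a 1<|b)<|b)))<|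
 f (c 2 (mt (a (a (-1)<|a 0<|a (-1)<|a 0<|a 0<|a 0<|a 0<|a 0<|b)<|a (a 0<|a 1<|a 0<|a 0<|a 0<|a 0<|a 0<|a 0<|b)<|a (a 1<|a 0<|a 0<|a 0<|a 0<|a 0<|a 0<|a 0<|b)<|a (a 0<|a 0<|a 1<|a 1<|a 0<|a 0<|a 0<|a 0<|b)<|a (a 0<|a 0<|a 0<|a 0<|a 1<|a 0<|a 0<|a 0<|b)<|a (a 0<|a 0<|a 0<|a 0<|a 0<|a 1<|a 0<|a 0<|b)<|a (a 0<|a 0<|a 0<|a 0<|a 0<|a 0<|a 1<|a 0<|b)<|a (a 0<|a 0<|a 0<|a 0<|a 0<|a 0<|a 0<|a 1<|b)<|b)))<|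
 f (c 0 (mt (a (a (-1)<|a 0<|a 0<|a 0<|a 0<|a 0<|a 0<|a 0<|b)<|a (a 0<|a 1<|a 0<|a 0<|a 0<|a 0<|a 0<|a 0<|b)<|a (a 1<|a 0<|a 1<|a 0<|a 0<|a 0<|a 0<|a 0<|b)<|a (a 0<|a 0<|a 0<|a 1<|a 0<|a 0<|a 0<|a 0<|b)<|a (a 0<|a 0<|a 0<|a 0<|a 1<|a 0<|a 0<|a 0<|b)<|a (a 0<|a 0<|a 0<|a 0<|a 0<|a 1<|a 0<|a 0<|b)<|a (a 0<|a 0<|a 0<|a 0<|a 0<|a 0<|a 1<|a 0<|b)<|a (a 0<|a 0<|a 0<|a 0<|a 0<|a 0<|a 0<|a 1<|b)<|b)))<|b);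
 (f (c 3 (mt (a (a (-1)<|a (-1)<|a (-1)<|a (-2)<|a (-1)<|a (-1)<|a (-1)<|a (-1)<|b)<|a (a 0<|a 0<|a (-1)<|a (-1)<|a (-1)<|a (-1)<|a (-1)<|a (-1)<|b)<|a (a 1<|a 0<|a 1<|a 1<|a 0<|a 0<|a 0<|a 0<|b)<|a (a 0<|a 1<|a 1<|a 1<|a 1<|a 1<|a 1<|a 1<|b)<|a (a 0<|a (-1)<|a (-1)<|a (-1)<|a 0<|a 0<|a 0<|a 0<|b)<|a (a 0<|a 1<|a 1<|a 2<|a 1<|a 0<|a 0<|a 0<|b)<|a (a 0<|a 0<|a 0<|a 0<|a 0<|a 1<|a 0<|a 0<|b)<|a (a 0<|a 0<|a 0<|a 0<|a 0<|a 0<|a 1<|a 0<|b)<|b)))<|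
 f (c 1 (mt (a (a (-1)<|a (-1)<|a (-1)<|a (-1)<|a (-1)<|a (-1)<|a (-1)<|a (-1)<|b)<|a (a 0<|a 0<|a (-1)<|a (-1)<|a (-1)<|a (-1)<|a (-1)<|a (-1)<|b)<|a (a 1<|a 0<|a 1<|a 0<|a 0<|a 0<|a 0<|a 0<|b)<|a (a 0<|a 1<|a 1<|a 2<|a 1<|a 1<|a 1<|a 1<|b)<|a (a 0<|a (-1)<|a (-1)<|a (-1)<|a 0<|a 0<|a 0<|a 0<|b)<|a (a 0<|a 1<|a 1<|a 1<|a 1<|a 0<|a 0<|a 0<|b)<|a (a 0<|a 0<|a 0<|a 0<|a 0<|a 1<|a 0<|a 0<|b)<|a (a 0<|a 0<|a 0<|a 0<|a 0<|a 0<|a 1<|a 0<|b)<|b)))<|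
 f (c 2 (mt (a (a (-1)<|a 0<|a (-1)<|a (-1)<|a (-1)<|a (-1)<|a (-1)<|a (-1)<|b)<|a (a 0<|a (-1)<|a (-1)<|a (-1)<|a (-1)<|a (-1)<|a (-1)<|a (-1)<|b)<|a (a 1<|a 0<|a 1<|a 0<|a 0<|a 0<|a 0<|a 0<|b)<|a (a 0<|a 1<|a 1<|a 2<|a 1<|a 1<|a 1<|a 1<|b)<|a (a 0<|a 0<|a (-1)<|a (-1)<|a 0<|a 0<|a 0<|a 0<|b)<|a (a 0<|a 0<|a 1<|a 1<|a 1<|a 0<|a 0<|a 0<|b)<|a (a 0<|a 0<|a 0<|a 0<|a 0<|a 1<|a 0<|a 0<|b)<|a (a 0<|a 0<|a 0<|a 0<|a 0<|a 0<|a 1<|a 0<|b)<|b)))<|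
 f (c 3 (mt (a (a (-1)<|a 0<|a (-1)<|a (-1)<|a (-1)<|a (-1)<|a (-1)<|a (-1)<|b)<|a (a 0<|a (-1)<|a 0<|a (-1)<|a (-1)<|a (-1)<|a (-1)<|a (-1)<|b)<|a (a 1<|a 0<|a 0<|a 0<|a 0<|a 0<|a 0<|a 0<|b)<|a (a 0<|a 1<|a 1<|a 2<|a 1<|a 1<|a 1<|a 1<|b)<|a (a 0<|a 0<|a 0<|a (-1)<|a 0<|a 0<|a 0<|a 0<|b)<|a (a 0<|a 0<|a 0<|a 1<|a 1<|a 0<|a 0<|a 0<|b)<|a (a 0<|a 0<|a 0<|a 0<|a 0<|a 1<|a 0<|a 0<|b)<|a (a 0<|a 0<|a 0<|a 0<|a 0<|a 0<|a 1<|a 0<|b)<|b)))<|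
 f (c 7 (mt (a (a (-1)<|a 0<|a (-1)<|a (-1)<|a (-1)<|a (-1)<|a (-1)<|a (-1)<|b)<|a (a 0<|a (-1)<|a 0<|a (-1)<|a (-1)<|a (-1)<|a (-1)<|a (-1)<|b)<|a (a 1<|a 0<|a 0<|a 0<|a 0<|a 0<|a 0<|a 0<|b)<|a (a 0<|a 1<|a 1<|a 1<|a 1<|a 1<|a 1<|a 1<|b)<|a (a 0<|a 0<|a 0<|a 1<|a 0<|a 0<|a 0<|a 0<|b)<|a (a 0<|a 0<|a 0<|a 0<|a 1<|a 0<|a 0<|a 0<|b)<|a (a 0<|a 0<|a 0<|a 0<|a 0<|a 1<|a 0<|a 0<|b)<|a (a 0<|a 0<|a 0<|a 0<|a 0<|a 0<|a 1<|a 0<|b)<|b)))<|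
 f (c 6 (mt (a (a (-1)<|a 0<|a (-1)<|a (-1)<|a (-1)<|a (-1)<|a (-1)<|a 0<|b)<|a (a 0<|a (-1)<|a 0<|a (-1)<|a (-1)<|a (-1)<|a (-1)<|a 0<|b)<|a (a 1<|a 0<|a 0<|a 0<|a 0<|a 0<|a 0<|a 0<|b)<|a (a 0<|a 1<|a 1<|a 1<|a 1<|a 1<|a 1<|a 0<|b)<|a (a 0<|a 0<|a 0<|a 1<|a 0<|a 0<|a 0<|a 0<|b)<|a (a 0<|a 0<|a 0<|a 0<|a 1<|a 0<|a 0<|a 0<|b)<|a (a 0<|a 0<|a 0<|a 0<|a 0<|a 1<|a 0<|a 0<|b)<|a (a 0<|a 0<|a 0<|a 0<|a 0<|a 0<|a 1<|a 1<|b)<|b)))<|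
 h));
 (let h:=(f (c 3 (mt (a (a 0<|a (-1)<|a (-1)<|a (-2)<|a (-2)<|a (-2)<|a (-2)<|a (-1)<|b)<|a (a (-1)<|a 0<|a (-1)<|a (-1)<|a (-1)<|a (-1)<|a (-1)<|a (-1)<|b)<|a (a 0<|a 0<|a 0<|a 0<|a 1<|a 1<|a 1<|a 0<|b)<|a (a 1<|a 1<|a 1<|a 2<|a 1<|a 1<|a 1<|a 1<|b)<|a (a (-1)<|a (-1)<|a (-1)<|a (-2)<|a (-1)<|a (-1)<|a (-1)<|a 0<|b)<|a (a 1<|a 1<|a 2<|a 2<|a 1<|a 1<|a 1<|a 0<|b)<|a (a 0<|a 0<|a 0<|a 1<|a 1<|a 0<|a 0<|a 0<|b)<|a (a 0<|a 0<|a 0<|a 0<|a 0<|a 1<|a 0<|a 0<|b)<|b)))<|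
 f (c 2 (mt (a (a 0<|a (-1)<|a (-1)<|a (-2)<|a (-2)<|a (-2)<|a (-2)<|a (-1)<|b)<|a (a (-1)<|a 0<|a (-1)<|a (-1)<|a (-1)<|a (-1)<|a (-1)<|a (-1)<|b)<|a (a 0<|a 0<|a 0<|a 1<|a 1<|a 1<|a 1<|a 0<|b)<|a (a 1<|a 1<|a 1<|a 1<|a 1<|a 1<|a 1<|a 1<|b)<|a (a (-1)<|a (-1)<|a (-1)<|a (-1)<|a (-1)<|a (-1)<|a (-1)<|a 0<|b)<|a (a 1<|a 1<|a 2<|a 2<|a 1<|a 1<|a 1<|a 0<|b)<|a (a 0<|a 0<|a 0<|a 0<|a 1<|a 0<|a 0<|a 0<|b)<|a (a 0<|a 0<|a 0<|a 0<|a 0<|a 1<|a 0<|a 0<|b)<|b)))<|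
 f (c 0 (mt (a (a 0<|a (-1)<|a (-1)<|a (-2)<|a (-2)<|a (-2)<|a (-2)<|a (-1)<|b)<|a (a (-1)<|a 0<|a (-1)<|a (-1)<|a (-1)<|a (-1)<|a (-1)<|a (-1)<|b)<|a (a 0<|a 0<|a 1<|a 1<|a 1<|a 1<|a 1<|a 0<|b)<|a (a 1<|a 1<|a 1<|a 1<|a 1<|a 1<|a 1<|a 1<|b)<|a (a (-1)<|a (-1)<|a (-1)<|a (-1)<|a (-1)<|a (-1)<|a (-1)<|a 0<|b)<|a (a 1<|a 1<|a 1<|a 2<|a 1<|a 1<|a 1<|a 0<|b)<|a (a 0<|a 0<|a 0<|a 0<|a 1<|a 0<|a 0<|a 0<|b)<|a (a 0<|a 0<|a 0<|a 0<|a 0<|a 1<|a 0<|a 0<|b)<|b)))<|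
 f (c 6 (mt (a (a (-1)<|a (-1)<|a (-1)<|a (-2)<|a (-2)<|a (-2)<|a (-2)<|a (-1)<|b)<|a (a 0<|a 0<|a (-1)<|a (-1)<|a (-1)<|a (-1)<|a (-1)<|a (-1)<|b)<|a (a 1<|a 0<|a 1<|a 1<|a 1<|a 1<|a 1<|a 0<|b)<|a (a 0<|a 1<|a 1<|a 1<|a 1<|a 1<|a 1<|a 1<|b)<|a (a 0<|a (-1)<|a (-1)<|a (-1)<|a (-1)<|a (-1)<|a (-1)<|a 0<|b)<|a (a 0<|a 1<|a 1<|a 2<|a 1<|a 1<|a 1<|a 0<|b)<|a (a 0<|a 0<|a 0<|a 0<|a 1<|a 0<|a 0<|a 0<|b)<|a (a 0<|a 0<|a 0<|a 0<|a 0<|a 1<|a 0<|a 0<|b)<|b)))<|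
 f (c 5 (mt (a (a (-1)<|a (-1)<|a (-1)<|a (-2)<|a (-2)<|a (-2)<|a (-1)<|a (-1)<|b)<|a (a 0<|a 0<|a (-1)<|a (-1)<|a (-1)<|a (-1)<|a (-1)<|a (-1)<|b)<|a (a 1<|a 0<|a 1<|a 1<|a 1<|a 1<|a 0<|a 0<|b)<|a (a 0<|a 1<|a 1<|a 1<|a 1<|a 1<|a 1<|a 1<|b)<|a (a 0<|a (-1)<|a (-1)<|a (-1)<|a (-1)<|a (-1)<|a 0<|a 0<|b)<|a (a 0<|a 1<|a 1<|a 2<|a 1<|a 1<|a 0<|a 0<|b)<|a (a 0<|a 0<|a 0<|a 0<|a 1<|a 0<|a 0<|a 0<|b)<|a (a 0<|a 0<|a 0<|a 0<|a 0<|a 1<|a 1<|a 0<|b)<|b)))<|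
 f (c 4 (mt (a (a (-1)<|a (-1)<|a (-1)<|a (-2)<|a (-2)<|a (-1)<|a (-1)<|a (-1)<|b)<|a (a 0<|a 0<|a (-1)<|a (-1)<|a (-1)<|a (-1)<|a (-1)<|a (-1)<|b)<|a (a 1<|a 0<|a 1<|a 1<|a 1<|a 0<|a 0<|a 0<|b)<|a (a 0<|a 1<|a 1<|a 1<|a 1<|a 1<|a 1<|a 1<|b)<|a (a 0<|a (-1)<|a (-1)<|a (-1)<|a (-1)<|a 0<|a 0<|a 0<|b)<|a (a 0<|a 1<|a 1<|a 2<|a 1<|a 0<|a 0<|a 0<|b)<|a (a 0<|a 0<|a 0<|a 0<|a 1<|a 1<|a 0<|a 0<|b)<|a (a 0<|a 0<|a 0<|a 0<|a 0<|a 0<|a 1<|a 0<|b)<|b)))<|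
 h);
 (f (c 2 (mt (a (a 0<|a (-1)<|a (-1)<|a (-2)<|a (-2)<|a (-2)<|a (-2)<|a (-1)<|b)<|a (a (-1)<|a (-1)<|a (-2)<|a (-2)<|a (-2)<|a (-1)<|a (-1)<|a (-1)<|b)<|a (a 0<|a 0<|a 0<|a 0<|a 0<|a 0<|a 1<|a 0<|b)<|a (a 1<|a 1<|a 2<|a 2<|a 2<|a 2<|a 1<|a 1<|b)<|a (a (-1)<|a (-1)<|a (-2)<|a (-2)<|a (-2)<|a (-2)<|a (-1)<|a 0<|b)<|a (a 1<|a 1<|a 2<|a 3<|a 3<|a 2<|a 1<|a 0<|b)<|a (a 0<|a 1<|a 0<|a 0<|a 0<|a 0<|a 0<|a 0<|b)<|a (a 0<|a 0<|a 1<|a 1<|a 0<|a 0<|a 0<|a 0<|b)<|b)))<|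
 f (c 4 (mt (a (a 0<|a (-1)<|a (-1)<|a (-2)<|a (-2)<|a (-2)<|a (-2)<|a (-1)<|b)<|a (a (-1)<|a (-1)<|a (-1)<|a (-2)<|a (-2)<|a (-1)<|a (-1)<|a (-1)<|b)<|a (a 0<|a 0<|a 0<|a 0<|a 0<|a 0<|a 1<|a 0<|b)<|a (a 1<|a 1<|a 1<|a 2<|a 2<|a 2<|a 1<|a 1<|b)<|a (a (-1)<|a (-1)<|a (-1)<|a (-2)<|a (-2)<|a (-2)<|a (-1)<|a 0<|b)<|a (a 1<|a 1<|a 2<|a 3<|a 3<|a 2<|a 1<|a 0<|b)<|a (a 0<|a 1<|a 0<|a 0<|a 0<|a 0<|a 0<|a 0<|b)<|a (a 0<|a 0<|a 0<|a 1<|a 0<|a 0<|a 0<|a 0<|b)<|b)))<|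
 f (c 3 (mt (a (a 0<|a (-1)<|a (-1)<|a (-2)<|a (-2)<|a (-2)<|a (-2)<|a (-1)<|b)<|a (a (-1)<|a (-1)<|a (-1)<|a (-2)<|a (-1)<|a (-1)<|a (-1)<|a (-1)<|b)<|a (a 0<|a 0<|a 0<|a 0<|a 0<|a 0<|a 1<|a 0<|b)<|a (a 1<|a 1<|a 1<|a 2<|a 2<|a 2<|a 1<|a 1<|b)<|a (a (-1)<|a (-1)<|a (-1)<|a (-2)<|a (-2)<|a (-2)<|a (-1)<|a 0<|b)<|a (a 1<|a 1<|a 2<|a 3<|a 2<|a 2<|a 1<|a 0<|b)<|a (a 0<|a 1<|a 0<|a 0<|a 0<|a 0<|a 0<|a 0<|b)<|a (a 0<|a 0<|a 0<|a 1<|a 1<|a 0<|a 0<|a 0<|b)<|b)))<|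
 f (c 1 (mt (a (a 0<|a (-1)<|a (-1)<|a (-2)<|a (-2)<|a (-2)<|a (-2)<|a (-1)<|b)<|a (a (-1)<|a (-1)<|a (-1)<|a (-1)<|a (-1)<|a (-1)<|a (-1)<|a (-1)<|b)<|a (a 0<|a 0<|a 0<|a 0<|a 0<|a 0<|a 1<|a 0<|b)<|a (a 1<|a 1<|a 1<|a 2<|a 2<|a 2<|a 1<|a 1<|b)<|a (a (-1)<|a (-1)<|a (-1)<|a (-2)<|a (-2)<|a (-2)<|a (-1)<|a 0<|b)<|a (a 1<|a 1<|a 2<|a 2<|a 2<|a 2<|a 1<|a 0<|b)<|a (a 0<|a 1<|a 0<|a 1<|a 0<|a 0<|a 0<|a 0<|b)<|a (a 0<|a 0<|a 0<|a 0<|a 1<|a 0<|a 0<|a 0<|b)<|b)))<|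
 f (c 5 (mt (a (a 0<|a (-1)<|a (-1)<|a (-2)<|a (-2)<|a (-2)<|a (-2)<|a (-1)<|b)<|a (a (-1)<|a 0<|a (-1)<|a (-1)<|a (-1)<|a (-1)<|a (-1)<|a (-1)<|b)<|a (a 0<|a 0<|a 0<|a 0<|a 0<|a 0<|a 1<|a 0<|b)<|a (a 1<|a 1<|a 1<|a 2<|a 2<|a 2<|a 1<|a 1<|b)<|a (a (-1)<|a (-1)<|a (-1)<|a (-2)<|a (-2)<|a (-2)<|a (-1)<|a 0<|b)<|a (a 1<|a 1<|a 2<|a 2<|a 2<|a 2<|a 1<|a 0<|b)<|a (a 0<|a 0<|a 0<|a 1<|a 0<|a 0<|a 0<|a 0<|b)<|a (a 0<|a 0<|a 0<|a 0<|a 1<|a 0<|a 0<|a 0<|b)<|b)))<|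
 f (c 4 (mt (a (a 0<|a (-1)<|a (-1)<|a (-2)<|a (-2)<|a (-2)<|a (-2)<|a (-1)<|b)<|a (a (-1)<|a 0<|a (-1)<|a (-1)<|a (-1)<|a (-1)<|a (-1)<|a (-1)<|b)<|a (a 0<|a 0<|a 0<|a 0<|a 0<|a 1<|a 1<|a 0<|b)<|a (a 1<|a 1<|a 1<|a 2<|a 2<|a 1<|a 1<|a 1<|b)<|a (a (-1)<|a (-1)<|a (-1)<|a (-2)<|a (-2)<|a (-1)<|a (-1)<|a 0<|b)<|a (a 1<|a 1<|a 2<|a 2<|a 2<|a 1<|a 1<|a 0<|b)<|a (a 0<|a 0<|a 0<|a 1<|a 0<|a 0<|a 0<|a 0<|b)<|a (a 0<|a 0<|a 0<|a 0<|a 1<|a 1<|a 0<|a 0<|b)<|b)))<|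
 h)));
 (let h:=(let h:=(f (c 4 (mt (a (a (-1)<|a (-1)<|a (-2)<|a (-3)<|a (-3)<|a (-2)<|a (-2)<|a (-1)<|b)<|a (a (-1)<|a (-2)<|a (-2)<|a (-3)<|a (-2)<|a (-1)<|a (-1)<|a (-1)<|b)<|a (a 0<|a 0<|a 0<|a 0<|a 0<|a 0<|a 1<|a 0<|b)<|a (a 1<|a 2<|a 2<|a 3<|a 3<|a 2<|a 1<|a 1<|b)<|a (a (-1)<|a (-2)<|a (-2)<|a (-3)<|a (-3)<|a (-2)<|a (-1)<|a 0<|b)<|a (a 1<|a 2<|a 2<|a 4<|a 3<|a 2<|a 1<|a 0<|b)<|a (a 0<|a 0<|a 1<|a 0<|a 0<|a 0<|a 0<|a 0<|b)<|a (a 1<|a 0<|a 0<|a 0<|a 0<|a 0<|a 0<|a 0<|b)<|b)))<|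
 f (c 3 (mt (a (a (-1)<|a (-1)<|a (-2)<|a (-3)<|a (-2)<|a (-2)<|a (-2)<|a (-1)<|b)<|a (a (-1)<|a (-2)<|a (-2)<|a (-3)<|a (-2)<|a (-1)<|a (-1)<|a (-1)<|b)<|a (a 0<|a 0<|a 0<|a 0<|a 0<|a 0<|a 1<|a 0<|b)<|a (a 1<|a 2<|a 2<|a 3<|a 2<|a 2<|a 1<|a 1<|b)<|a (a (-1)<|a (-2)<|a (-2)<|a (-3)<|a (-2)<|a (-2)<|a (-1)<|a 0<|b)<|a (a 1<|a 2<|a 2<|a 4<|a 3<|a 2<|a 1<|a 0<|b)<|a (a 0<|a 0<|a 1<|a 0<|a 0<|a 0<|a 0<|a 0<|b)<|a (a 1<|a 0<|a 0<|a 0<|a 0<|a 0<|a 0<|a 0<|b)<|b)))<|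
 f (c 1 (mt (a (a (-1)<|a (-1)<|a (-2)<|a (-2)<|a (-2)<|a (-2)<|a (-2)<|a (-1)<|b)<|a (a (-1)<|a (-2)<|a (-2)<|a (-3)<|a (-2)<|a (-1)<|a (-1)<|a (-1)<|b)<|a (a 0<|a 0<|a 0<|a 0<|a 0<|a 0<|a 1<|a 0<|b)<|a (a 1<|a 2<|a 2<|a 3<|a 2<|a 2<|a 1<|a 1<|b)<|a (a (-1)<|a (-2)<|a (-2)<|a (-3)<|a (-2)<|a (-2)<|a (-1)<|a 0<|b)<|a (a 1<|a 2<|a 2<|a 3<|a 3<|a 2<|a 1<|a 0<|b)<|a (a 0<|a 0<|a 1<|a 1<|a 0<|a 0<|a 0<|a 0<|b)<|a (a 1<|a 0<|a 0<|a 0<|a 0<|a 0<|a 0<|a 0<|b)<|b)))<|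
 f (c 2 (mt (a (a (-1)<|a (-1)<|a (-2)<|a (-2)<|a (-2)<|a (-2)<|a (-2)<|a (-1)<|b)<|a (a (-1)<|a (-1)<|a (-2)<|a (-3)<|a (-2)<|a (-1)<|a (-1)<|a (-1)<|b)<|a (a 0<|a 0<|a 0<|a 0<|a 0<|a 0<|a 1<|a 0<|b)<|a (a 1<|a 1<|a 2<|a 3<|a 2<|a 2<|a 1<|a 1<|b)<|a (a (-1)<|a (-1)<|a (-2)<|a (-3)<|a (-2)<|a (-2)<|a (-1)<|a 0<|b)<|a (a 1<|a 1<|a 2<|a 3<|a 3<|a 2<|a 1<|a 0<|b)<|a (a 0<|a 1<|a 1<|a 1<|a 0<|a 0<|a 0<|a 0<|b)<|a (a 1<|a 0<|a 0<|a 0<|a 0<|a 0<|a 0<|a 0<|b)<|b)))<|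
 f (c 0 (mt (a (a (-1)<|a (-1)<|a (-1)<|a (-2)<|a (-2)<|a (-2)<|a (-2)<|a (-1)<|b)<|a (a (-1)<|a (-1)<|a (-2)<|a (-3)<|a (-2)<|a (-1)<|a (-1)<|a (-1)<|b)<|a (a 0<|a 0<|a 0<|a 0<|a 0<|a 0<|a 1<|a 0<|b)<|a (a 1<|a 1<|a 2<|a 3<|a 2<|a 2<|a 1<|a 1<|b)<|a (a (-1)<|a (-1)<|a (-2)<|a (-3)<|a (-2)<|a (-2)<|a (-1)<|a 0<|b)<|a (a 1<|a 1<|a 2<|a 3<|a 3<|a 2<|a 1<|a 0<|b)<|a (a 0<|a 1<|a 0<|a 1<|a 0<|a 0<|a 0<|a 0<|b)<|a (a 1<|a 0<|a 1<|a 0<|a 0<|a 0<|a 0<|a 0<|b)<|b)))<|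
 f (c 3 (mt (a (a 0<|a (-1)<|a (-1)<|a (-2)<|a (-2)<|a (-2)<|a (-2)<|a (-1)<|b)<|a (a (-1)<|a (-1)<|a (-2)<|a (-3)<|a (-2)<|a (-1)<|a (-1)<|a (-1)<|b)<|a (a 0<|a 0<|a 0<|a 0<|a 0<|a 0<|a 1<|a 0<|b)<|a (a 1<|a 1<|a 2<|a 3<|a 2<|a 2<|a 1<|a 1<|b)<|a (a (-1)<|a (-1)<|a (-2)<|a (-3)<|a (-2)<|a (-2)<|a (-1)<|a 0<|b)<|a (a 1<|a 1<|a 2<|a 3<|a 3<|a 2<|a 1<|a 0<|b)<|a (a 0<|a 1<|a 0<|a 1<|a 0<|a 0<|a 0<|a 0<|b)<|a (a 0<|a 0<|a 1<|a 0<|a 0<|a 0<|a 0<|a 0<|b)<|b)))<|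
 h);
 (f (c 2 (mt (a (a (-1)<|a (-1)<|a (-2)<|a (-3)<|a (-3)<|a (-3)<|a (-2)<|a (-1)<|b)<|a (a (-1)<|a (-2)<|a (-3)<|a (-4)<|a (-3)<|a (-2)<|a (-2)<|a (-1)<|b)<|a (a 0<|a 0<|a 1<|a 1<|a 1<|a 1<|a 0<|a 0<|b)<|a (a 1<|a 2<|a 2<|a 3<|a 2<|a 2<|a 2<|a 1<|b)<|a (a (-1)<|a (-2)<|a (-2)<|a (-3)<|a (-2)<|a (-2)<|a (-1)<|a (-1)<|b)<|a (a 1<|a 2<|a 2<|a 3<|a 3<|a 2<|a 1<|a 1<|b)<|a (a 0<|a 0<|a 0<|a 1<|a 0<|a 0<|a 0<|a 0<|b)<|a (a 1<|a 0<|a 1<|a 0<|a 0<|a 0<|a 0<|a 0<|b)<|b)))<|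
 f (c 3 (mt (a (a (-1)<|a (-1)<|a (-2)<|a (-3)<|a (-3)<|a (-3)<|a (-2)<|a (-1)<|b)<|a (a (-1)<|a (-2)<|a (-2)<|a (-4)<|a (-3)<|a (-2)<|a (-2)<|a (-1)<|b)<|a (a 0<|a 0<|a 0<|a 1<|a 1<|a 1<|a 0<|a 0<|b)<|a (a 1<|a 2<|a 2<|a 3<|a 2<|a 2<|a 2<|a 1<|b)<|a (a (-1)<|a (-2)<|a (-2)<|a (-3)<|a (-2)<|a (-2)<|a (-1)<|a (-1)<|b)<|a (a 1<|a 2<|a 2<|a 3<|a 3<|a 2<|a 1<|a 1<|b)<|a (a 0<|a 0<|a 1<|a 1<|a 0<|a 0<|a 0<|a 0<|b)<|a (a 1<|a 0<|a 0<|a 0<|a 0<|a 0<|a 0<|a 0<|b)<|b)))<|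
 f (c 4 (mt (a (a (-1)<|a (-1)<|a (-2)<|a (-3)<|a (-3)<|a (-3)<|a (-2)<|a (-1)<|b)<|a (a (-1)<|a (-2)<|a (-2)<|a (-3)<|a (-3)<|a (-2)<|a (-2)<|a (-1)<|b)<|a (a 0<|a 0<|a 0<|a 0<|a 1<|a 1<|a 0<|a 0<|b)<|a (a 1<|a 2<|a 2<|a 3<|a 2<|a 2<|a 2<|a 1<|b)<|a (a (-1)<|a (-2)<|a (-2)<|a (-3)<|a (-2)<|a (-2)<|a (-1)<|a (-1)<|b)<|a (a 1<|a 2<|a 2<|a 4<|a 3<|a 2<|a 1<|a 1<|b)<|a (a 0<|a 0<|a 1<|a 0<|a 0<|a 0<|a 0<|a 0<|b)<|a (a 1<|a 0<|a 0<|a 0<|a 0<|a 0<|a 0<|a 0<|b)<|b)))<|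
 f (c 7 (mt (a (a (-1)<|a (-1)<|a (-2)<|a (-3)<|a (-3)<|a (-3)<|a (-2)<|a (-1)<|b)<|a (a (-1)<|a (-2)<|a (-2)<|a (-3)<|a (-2)<|a (-2)<|a (-2)<|a (-1)<|b)<|a (a 0<|a 0<|a 0<|a 0<|a 0<|a 1<|a 0<|a 0<|b)<|a (a 1<|a 2<|a 2<|a 3<|a 3<|a 2<|a 2<|a 1<|b)<|a (a (-1)<|a (-2)<|a (-2)<|a (-3)<|a (-3)<|a (-2)<|a (-1)<|a (-1)<|b)<|a (a 1<|a 2<|a 2<|a 4<|a 3<|a 2<|a 1<|a 1<|b)<|a (a 0<|a 0<|a 1<|a 0<|a 0<|a 0<|a 0<|a 0<|b)<|a (a 1<|a 0<|a 0<|a 0<|a 0<|a 0<|a 0<|a 0<|b)<|b)))<|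
 f (c 6 (mt (a (a (-1)<|a (-1)<|a (-2)<|a (-3)<|a (-3)<|a (-3)<|a (-2)<|a (-1)<|b)<|a (a (-1)<|a (-2)<|a (-2)<|a (-3)<|a (-2)<|a (-2)<|a (-2)<|a (-1)<|b)<|a (a 0<|a 0<|a 0<|a 0<|a 0<|a 1<|a 0<|a 0<|b)<|a (a 1<|a 2<|a 2<|a 3<|a 3<|a 2<|a 2<|a 1<|b)<|a (a (-1)<|a (-2)<|a (-2)<|a (-3)<|a (-3)<|a (-2)<|a (-1)<|a 0<|b)<|a (a 1<|a 2<|a 2<|a 4<|a 3<|a 2<|a 1<|a 0<|b)<|a (a 0<|a 0<|a 1<|a 0<|a 0<|a 0<|a 0<|a 0<|b)<|a (a 1<|a 0<|a 0<|a 0<|a 0<|a 0<|a 0<|a 0<|b)<|b)))<|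
 f (c 5 (mt (a (a (-1)<|a (-1)<|a (-2)<|a (-3)<|a (-3)<|a (-3)<|a (-2)<|a (-1)<|b)<|a (a (-1)<|a (-2)<|a (-2)<|a (-3)<|a (-2)<|a (-2)<|a (-1)<|a (-1)<|b)<|a (a 0<|a 0<|a 0<|a 0<|a 0<|a 1<|a 1<|a 0<|b)<|a (a 1<|a 2<|a 2<|a 3<|a 3<|a 2<|a 1<|a 1<|b)<|a (a (-1)<|a (-2)<|a (-2)<|a (-3)<|a (-3)<|a (-2)<|a (-1)<|a 0<|b)<|a (a 1<|a 2<|a 2<|a 4<|a 3<|a 2<|a 1<|a 0<|b)<|a (a 0<|a 0<|a 1<|a 0<|a 0<|a 0<|a 0<|a 0<|b)<|a (a 1<|a 0<|a 0<|a 0<|a 0<|a 0<|a 0<|a 0<|b)<|b)))<|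
 h));
 (let h:=(f (c 3 (mt (a (a (-1)<|a (-2)<|a (-2)<|a (-4)<|a (-4)<|a (-3)<|a (-2)<|a (-1)<|b)<|a (a (-1)<|a (-2)<|a (-3)<|a (-4)<|a (-3)<|a (-3)<|a (-2)<|a (-1)<|b)<|a (a 0<|a 1<|a 1<|a 2<|a 2<|a 1<|a 1<|a 0<|b)<|a (a 1<|a 1<|a 2<|a 3<|a 2<|a 2<|a 1<|a 1<|b)<|a (a (-1)<|a (-1)<|a (-2)<|a (-3)<|a (-2)<|a (-1)<|a (-1)<|a (-1)<|b)<|a (a 1<|a 1<|a 2<|a 2<|a 2<|a 1<|a 1<|a 1<|b)<|a (a 0<|a 1<|a 0<|a 1<|a 0<|a 0<|a 0<|a 0<|b)<|a (a 1<|a 0<|a 1<|a 1<|a 1<|a 1<|a 1<|a 0<|b)<|b)))<|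
 f (c 6 (mt (a (a (-1)<|a (-2)<|a (-2)<|a (-4)<|a (-4)<|a (-3)<|a (-2)<|a (-1)<|b)<|a (a (-1)<|a (-2)<|a (-3)<|a (-4)<|a (-3)<|a (-3)<|a (-2)<|a (-1)<|b)<|a (a 0<|a 1<|a 1<|a 2<|a 2<|a 1<|a 1<|a 0<|b)<|a (a 1<|a 1<|a 2<|a 2<|a 2<|a 2<|a 1<|a 1<|b)<|a (a (-1)<|a (-1)<|a (-2)<|a (-2)<|a (-2)<|a (-1)<|a (-1)<|a (-1)<|b)<|a (a 1<|a 1<|a 2<|a 3<|a 2<|a 1<|a 1<|a 1<|b)<|a (a 0<|a 1<|a 0<|a 0<|a 0<|a 0<|a 0<|a 0<|b)<|a (a 1<|a 0<|a 1<|a 1<|a 1<|a 1<|a 1<|a 0<|b)<|b)))<|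
 f (c 5 (mt (a (a (-1)<|a (-2)<|a (-2)<|a (-4)<|a (-4)<|a (-3)<|a (-2)<|a (-1)<|b)<|a (a (-1)<|a (-2)<|a (-3)<|a (-4)<|a (-3)<|a (-3)<|a (-2)<|a (-1)<|b)<|a (a 0<|a 1<|a 1<|a 2<|a 2<|a 1<|a 0<|a 0<|b)<|a (a 1<|a 1<|a 2<|a 2<|a 2<|a 2<|a 2<|a 1<|b)<|a (a (-1)<|a (-1)<|a (-2)<|a (-2)<|a (-2)<|a (-1)<|a (-1)<|a (-1)<|b)<|a (a 1<|a 1<|a 2<|a 3<|a 2<|a 1<|a 1<|a 1<|b)<|a (a 0<|a 1<|a 0<|a 0<|a 0<|a 0<|a 0<|a 0<|b)<|a (a 1<|a 0<|a 1<|a 1<|a 1<|a 1<|a 0<|a 0<|b)<|b)))<|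
 f (c 4 (mt (a (a (-1)<|a (-2)<|a (-2)<|a (-4)<|a (-4)<|a (-3)<|a (-2)<|a (-1)<|b)<|a (a (-1)<|a (-2)<|a (-3)<|a (-4)<|a (-3)<|a (-2)<|a (-2)<|a (-1)<|b)<|a (a 0<|a 1<|a 1<|a 2<|a 2<|a 1<|a 0<|a 0<|b)<|a (a 1<|a 1<|a 2<|a 2<|a 2<|a 2<|a 2<|a 1<|b)<|a (a (-1)<|a (-1)<|a (-2)<|a (-2)<|a (-2)<|a (-2)<|a (-1)<|a (-1)<|b)<|a (a 1<|a 1<|a 2<|a 3<|a 2<|a 2<|a 1<|a 1<|b)<|a (a 0<|a 1<|a 0<|a 0<|a 0<|a 0<|a 0<|a 0<|b)<|a (a 1<|a 0<|a 1<|a 1<|a 1<|a 0<|a 0<|a 0<|b)<|b)))<|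
 f (c 3 (mt (a (a (-1)<|a (-2)<|a (-2)<|a (-4)<|a (-3)<|a (-3)<|a (-2)<|a (-1)<|b)<|a (a (-1)<|a (-2)<|a (-3)<|a (-4)<|a (-3)<|a (-2)<|a (-2)<|a (-1)<|b)<|a (a 0<|a 1<|a 1<|a 2<|a 1<|a 1<|a 0<|a 0<|b)<|a (a 1<|a 1<|a 2<|a 2<|a 2<|a 2<|a 2<|a 1<|b)<|a (a (-1)<|a (-1)<|a (-2)<|a (-2)<|a (-2)<|a (-2)<|a (-1)<|a (-1)<|b)<|a (a 1<|a 1<|a 2<|a 3<|a 3<|a 2<|a 1<|a 1<|b)<|a (a 0<|a 1<|a 0<|a 0<|a 0<|a 0<|a 0<|a 0<|b)<|a (a 1<|a 0<|a 1<|a 1<|a 0<|a 0<|a 0<|a 0<|b)<|b)))<|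
 f (c 1 (mt (a (a (-1)<|a (-2)<|a (-2)<|a (-3)<|a (-3)<|a (-3)<|a (-2)<|a (-1)<|b)<|a (a (-1)<|a (-2)<|a (-3)<|a (-4)<|a (-3)<|a (-2)<|a (-2)<|a (-1)<|b)<|a (a 0<|a 1<|a 1<|a 1<|a 1<|a 1<|a 0<|a 0<|b)<|a (a 1<|a 1<|a 2<|a 3<|a 2<|a 2<|a 2<|a 1<|b)<|a (a (-1)<|a (-1)<|a (-2)<|a (-3)<|a (-2)<|a (-2)<|a (-1)<|a (-1)<|b)<|a (a 1<|a 1<|a 2<|a 3<|a 3<|a 2<|a 1<|a 1<|b)<|a (a 0<|a 1<|a 0<|a 1<|a 0<|a 0<|a 0<|a 0<|b)<|a (a 1<|a 0<|a 1<|a 0<|a 0<|a 0<|a 0<|a 0<|b)<|b)))<|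
 h);
 (a (c 3 (mt (a (a (-1)<|a (-2)<|a (-2)<|a (-3)<|a (-2)<|a (-2)<|a (-2)<|a (-1)<|b)<|a (a (-1)<|a (-2)<|a (-3)<|a (-4)<|a (-4)<|a (-3)<|a (-2)<|a (-1)<|b)<|a (a 0<|a 1<|a 0<|a 1<|a 1<|a 1<|a 1<|a 0<|b)<|a (a 1<|a 1<|a 2<|a 2<|a 2<|a 2<|a 1<|a 1<|b)<|a (a (-1)<|a (-1)<|a (-1)<|a (-2)<|a (-2)<|a (-2)<|a (-1)<|a (-1)<|b)<|a (a 1<|a 1<|a 1<|a 2<|a 2<|a 1<|a 1<|a 1<|b)<|a (a 0<|a 1<|a 1<|a 2<|a 1<|a 1<|a 0<|a 0<|b)<|a (a 1<|a 0<|a 1<|a 1<|a 1<|a 1<|a 1<|a 0<|b)<|b)))<|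
 a (c 2 (mt (a (a (-1)<|a (-2)<|a (-2)<|a (-3)<|a (-2)<|a (-2)<|a (-2)<|a (-1)<|b)<|a (a (-1)<|a (-2)<|a (-3)<|a (-5)<|a (-4)<|a (-3)<|a (-2)<|a (-1)<|b)<|a (a 0<|a 1<|a 0<|a 1<|a 1<|a 1<|a 1<|a 0<|b)<|a (a 1<|a 1<|a 2<|a 3<|a 2<|a 2<|a 1<|a 1<|b)<|a (a (-1)<|a (-1)<|a (-1)<|a (-2)<|a (-2)<|a (-2)<|a (-1)<|a (-1)<|b)<|a (a 1<|a 1<|a 1<|a 2<|a 2<|a 1<|a 1<|a 1<|b)<|a (a 0<|a 1<|a 1<|a 1<|a 1<|a 1<|a 0<|a 0<|b)<|a (a 1<|a 0<|a 1<|a 1<|a 1<|a 1<|a 1<|a 0<|b)<|b)))<|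
 a (c 4 (mt (a (a (-1)<|a (-2)<|a (-2)<|a (-3)<|a (-2)<|a (-2)<|a (-2)<|a (-1)<|b)<|a (a (-1)<|a (-2)<|a (-3)<|a (-5)<|a (-4)<|a (-3)<|a (-2)<|a (-1)<|b)<|a (a 0<|a 1<|a 1<|a 1<|a 1<|a 1<|a 1<|a 0<|b)<|a (a 1<|a 1<|a 2<|a 3<|a 2<|a 2<|a 1<|a 1<|b)<|a (a (-1)<|a (-1)<|a (-2)<|a (-2)<|a (-2)<|a (-2)<|a (-1)<|a (-1)<|b)<|a (a 1<|a 1<|a 2<|a 2<|a 2<|a 1<|a 1<|a 1<|b)<|a (a 0<|a 1<|a 0<|a 1<|a 1<|a 1<|a 0<|a 0<|b)<|a (a 1<|a 0<|a 1<|a 1<|a 1<|a 1<|a 1<|a 0<|b)<|b)))<|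
 a (c 3 (mt (a (a (-1)<|a (-2)<|a (-2)<|a (-3)<|a (-3)<|a (-2)<|a (-2)<|a (-1)<|b)<|a (a (-1)<|a (-2)<|a (-3)<|a (-5)<|a (-4)<|a (-3)<|a (-2)<|a (-1)<|b)<|a (a 0<|a 1<|a 1<|a 1<|a 1<|a 1<|a 1<|a 0<|b)<|a (a 1<|a 1<|a 2<|a 3<|a 3<|a 2<|a 1<|a 1<|b)<|a (a (-1)<|a (-1)<|a (-2)<|a (-2)<|a (-2)<|a (-2)<|a (-1)<|a (-1)<|b)<|a (a 1<|a 1<|a 2<|a 2<|a 1<|a 1<|a 1<|a 1<|b)<|a (a 0<|a 1<|a 0<|a 1<|a 1<|a 1<|a 0<|a 0<|b)<|a (a 1<|a 0<|a 1<|a 1<|a 1<|a 1<|a 1<|a 0<|b)<|b)))<|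
 a (c 5 (mt (a (a (-1)<|a (-2)<|a (-2)<|a (-4)<|a (-3)<|a (-2)<|a (-2)<|a (-1)<|b)<|a (a (-1)<|a (-2)<|a (-3)<|a (-4)<|a (-4)<|a (-3)<|a (-2)<|a (-1)<|b)<|a (a 0<|a 1<|a 1<|a 2<|a 1<|a 1<|a 1<|a 0<|b)<|a (a 1<|a 1<|a 2<|a 3<|a 3<|a 2<|a 1<|a 1<|b)<|a (a (-1)<|a (-1)<|a (-2)<|a (-3)<|a (-2)<|a (-2)<|a (-1)<|a (-1)<|b)<|a (a 1<|a 1<|a 2<|a 2<|a 1<|a 1<|a 1<|a 1<|b)<|a (a 0<|a 1<|a 0<|a 1<|a 1<|a 1<|a 0<|a 0<|b)<|a (a 1<|a 0<|a 1<|a 1<|a 1<|a 1<|a 1<|a 0<|b)<|b)))<|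
 a (c 4 (mt (a (a (-1)<|a (-2)<|a (-2)<|a (-4)<|a (-3)<|a (-3)<|a (-2)<|a (-1)<|b)<|a (a (-1)<|a (-2)<|a (-3)<|a (-4)<|a (-4)<|a (-3)<|a (-2)<|a (-1)<|b)<|a (a 0<|a 1<|a 1<|a 2<|a 1<|a 1<|a 1<|a 0<|b)<|a (a 1<|a 1<|a 2<|a 3<|a 3<|a 2<|a 1<|a 1<|b)<|a (a (-1)<|a (-1)<|a (-2)<|a (-3)<|a (-2)<|a (-1)<|a (-1)<|a (-1)<|b)<|a (a 1<|a 1<|a 2<|a 2<|a 1<|a 1<|a 1<|a 1<|b)<|a (a 0<|a 1<|a 0<|a 1<|a 1<|a 0<|a 0<|a 0<|b)<|a (a 1<|a 0<|a 1<|a 1<|a 1<|a 1<|a 1<|a 0<|b)<|b)))<|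
 h)))))

private noncomputable def _root_.Cfsg.Agent.LsF.f471b37_5 : {f // @Cfsg.Agent.H129.WData.hd = f} := ⟨_, by first | (delta Cfsg.Agent.H129.WData.hd; rewrite [Cfsg.Agent.LsF.dFinEq_eq, Cfsg.Agent.LsF.ite_eq]; (try delta Cfsg.Agent.H129.WData.hd.match_1); (try delta List.casesOn Prod.casesOn); exact rfl) | exact rfl⟩
theorem cw_ok : ChainOK Am cw :=
  H129.ChainF.ok H129.ChainF.i8 rfl rfl (by decide +kernel)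

/-- the reflection `v` -/
def cv : List (Fin 8 × Mat 8) := (beta% delta% lq2623ca974a fun a b c _ _ _ _ =>
 (a (c 4 (mt (a (a 1<|a 0<|a 1<|a 1<|a 1<|a 0<|a 0<|a 0<|b)<|a (a 0<|a 0<|a (-1)<|a (-1)<|a (-1)<|a (-1)<|a (-1)<|a 0<|b)<|a (a 0<|a 1<|a 0<|a 1<|a 1<|a 1<|a 1<|a 0<|b)<|a (a 0<|a (-1)<|a 0<|a (-1)<|a (-1)<|a 0<|a 0<|a 0<|b)<|a (a 0<|a 1<|a 1<|a 1<|a 1<|a 0<|a 0<|a 0<|b)<|a (a 0<|a 0<|a 0<|a 1<|a 1<|a 1<|a 0<|a 0<|b)<|a (a 0<|a 0<|a 0<|a 0<|a (-1)<|a (-1)<|a 0<|a 0<|b)<|a (a 0<|a 0<|a 0<|a 0<|a 1<|a 1<|a 1<|a 1<|b)<|b)))<|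
 a (c 3 (mt (a (a 1<|a 0<|a 1<|a 1<|a 0<|a 0<|a 0<|a 0<|b)<|a (a 0<|a 0<|a (-1)<|a (-1)<|a (-1)<|a (-1)<|a (-1)<|a 0<|b)<|a (a 0<|a 1<|a 0<|a 1<|a 1<|a 1<|a 1<|a 0<|b)<|a (a 0<|a (-1)<|a 0<|a (-1)<|a 0<|a 0<|a 0<|a 0<|b)<|a (a 0<|a 1<|a 1<|a 1<|a 0<|a 0<|a 0<|a 0<|b)<|a (a 0<|a 0<|a 0<|a 1<|a 1<|a 1<|a 0<|a 0<|b)<|a (a 0<|a 0<|a 0<|a 0<|a 0<|a (-1)<|a 0<|a 0<|b)<|a (a 0<|a 0<|a 0<|a 0<|a 0<|a 1<|a 1<|a 1<|b)<|b)))<|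
 a (c 1 (mt (a (a 1<|a 0<|a 1<|a 0<|a 0<|a 0<|a 0<|a 0<|b)<|a (a 0<|a 0<|a (-1)<|a (-1)<|a (-1)<|a (-1)<|a (-1)<|a 0<|b)<|a (a 0<|a 1<|a 0<|a 1<|a 1<|a 1<|a 1<|a 0<|b)<|a (a 0<|a (-1)<|a 0<|a 0<|a 0<|a 0<|a 0<|a 0<|b)<|a (a 0<|a 1<|a 1<|a 1<|a 0<|a 0<|a 0<|a 0<|b)<|a (a 0<|a 0<|a 0<|a 0<|a 1<|a 1<|a 0<|a 0<|b)<|a (a 0<|a 0<|a 0<|a 0<|a 0<|a (-1)<|a 0<|a 0<|b)<|a (a 0<|a 0<|a 0<|a 0<|a 0<|a 1<|a 1<|a 1<|b)<|b)))<|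
 a (c 2 (mt (a (a 1<|a 0<|a 1<|a 0<|a 0<|a 0<|a 0<|a 0<|b)<|a (a 0<|a (-1)<|a (-1)<|a (-1)<|a (-1)<|a (-1)<|a (-1)<|a 0<|b)<|a (a 0<|a 0<|a 0<|a 1<|a 1<|a 1<|a 1<|a 0<|b)<|a (a 0<|a 1<|a 0<|a 0<|a 0<|a 0<|a 0<|a 0<|b)<|a (a 0<|a 0<|a 1<|a 1<|a 0<|a 0<|a 0<|a 0<|b)<|a (a 0<|a 0<|a 0<|a 0<|a 1<|a 1<|a 0<|a 0<|b)<|a (a 0<|a 0<|a 0<|a 0<|a 0<|a (-1)<|a 0<|a 0<|b)<|a (a 0<|a 0<|a 0<|a 0<|a 0<|a 1<|a 1<|a 1<|b)<|b)))<|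
 a (c 5 (mt (a (a 1<|a 0<|a 0<|a 0<|a 0<|a 0<|a 0<|a 0<|b)<|a (a 0<|a (-1)<|a 0<|a (-1)<|a (-1)<|a (-1)<|a (-1)<|a 0<|b)<|a (a 0<|a 0<|a 1<|a 1<|a 1<|a 1<|a 1<|a 0<|b)<|a (a 0<|a 1<|a 0<|a 0<|a 0<|a 0<|a 0<|a 0<|b)<|a (a 0<|a 0<|a 0<|a 1<|a 0<|a 0<|a 0<|a 0<|b)<|a (a 0<|a 0<|a 0<|a 0<|a 1<|a 1<|a 0<|a 0<|b)<|a (a 0<|a 0<|a 0<|a 0<|a 0<|a (-1)<|a 0<|a 0<|b)<|a (a 0<|a 0<|a 0<|a 0<|a 0<|a 1<|a 1<|a 1<|b)<|b)))<|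
 a (c 6 (mt (a (a 1<|a 0<|a 0<|a 0<|a 0<|a 0<|a 0<|a 0<|b)<|a (a 0<|a (-1)<|a 0<|a (-1)<|a (-1)<|a (-1)<|a (-1)<|a 0<|b)<|a (a 0<|a 0<|a 1<|a 1<|a 1<|a 1<|a 1<|a 0<|b)<|a (a 0<|a 1<|a 0<|a 0<|a 0<|a 0<|a 0<|a 0<|b)<|a (a 0<|a 0<|a 0<|a 1<|a 0<|a 0<|a 0<|a 0<|b)<|a (a 0<|a 0<|a 0<|a 0<|a 1<|a 0<|a 0<|a 0<|b)<|a (a 0<|a 0<|a 0<|a 0<|a 0<|a 1<|a 0<|a 0<|b)<|a (a 0<|a 0<|a 0<|a 0<|a 0<|a 0<|a 1<|a 1<|b)<|b)))<|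
 a (c 5 (mt (a (a 1<|a 0<|a 0<|a 0<|a 0<|a 0<|a 0<|a 0<|b)<|a (a 0<|a (-1)<|a 0<|a (-1)<|a (-1)<|a (-1)<|a 0<|a 0<|b)<|a (a 0<|a 0<|a 1<|a 1<|a 1<|a 1<|a 0<|a 0<|b)<|a (a 0<|a 1<|a 0<|a 0<|a 0<|a 0<|a 0<|a 0<|b)<|a (a 0<|a 0<|a 0<|a 1<|a 0<|a 0<|a 0<|a 0<|b)<|a (a 0<|a 0<|a 0<|a 0<|a 1<|a 0<|a 0<|a 0<|b)<|a (a 0<|a 0<|a 0<|a 0<|a 0<|a 1<|a 1<|a 0<|b)<|a (a 0<|a 0<|a 0<|a 0<|a 0<|a 0<|a 0<|a 1<|b)<|b)))<|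
 a (c 4 (mt (a (a 1<|a 0<|a 0<|a 0<|a 0<|a 0<|a 0<|a 0<|b)<|a (a 0<|a (-1)<|a 0<|a (-1)<|a (-1)<|a 0<|a 0<|a 0<|b)<|a (a 0<|a 0<|a 1<|a 1<|a 1<|a 0<|a 0<|a 0<|b)<|a (a 0<|a 1<|a 0<|a 0<|a 0<|a 0<|a 0<|a 0<|b)<|a (a 0<|a 0<|a 0<|a 1<|a 0<|a 0<|a 0<|a 0<|b)<|a (a 0<|a 0<|a 0<|a 0<|a 1<|a 1<|a 0<|a 0<|b)<|a (a 0<|a 0<|a 0<|a 0<|a 0<|a 0<|a 1<|a 0<|b)<|a (a 0<|a 0<|a 0<|a 0<|a 0<|a 0<|a 0<|a 1<|b)<|b)))<|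
 a (c 3 (mt (a (a 1<|a 0<|a 0<|a 0<|a 0<|a 0<|a 0<|a 0<|b)<|a (a 0<|a (-1)<|a 0<|a (-1)<|a 0<|a 0<|a 0<|a 0<|b)<|a (a 0<|a 0<|a 1<|a 1<|a 0<|a 0<|a 0<|a 0<|b)<|a (a 0<|a 1<|a 0<|a 0<|a 0<|a 0<|a 0<|a 0<|b)<|a (a 0<|a 0<|a 0<|a 1<|a 1<|a 0<|a 0<|a 0<|b)<|a (a 0<|a 0<|a 0<|a 0<|a 0<|a 1<|a 0<|a 0<|b)<|a (a 0<|a 0<|a 0<|a 0<|a 0<|a 0<|a 1<|a 0<|b)<|a (a 0<|a 0<|a 0<|a 0<|a 0<|a 0<|a 0<|a 1<|b)<|b)))<|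
 a (c 1 (mt (a (a 1<|a 0<|a 0<|a 0<|a 0<|a 0<|a 0<|a 0<|b)<|a (a 0<|a (-1)<|a 0<|a 0<|a 0<|a 0<|a 0<|a 0<|b)<|a (a 0<|a 0<|a 1<|a 0<|a 0<|a 0<|a 0<|a 0<|b)<|a (a 0<|a 1<|a 0<|a 1<|a 0<|a 0<|a 0<|a 0<|b)<|a (a 0<|a 0<|a 0<|a 0<|a 1<|a 0<|a 0<|a 0<|b)<|a (a 0<|a 0<|a 0<|a 0<|a 0<|a 1<|a 0<|a 0<|b)<|a (a 0<|a 0<|a 0<|a 0<|a 0<|a 0<|a 1<|a 0<|b)<|a (a 0<|a 0<|a 0<|a 0<|a 0<|a 0<|a 0<|a 1<|b)<|b)))<|b))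

theorem cv_ok : ChainOK Am cv :=
  H129.ChainF.ok H129.ChainF.i8 rfl rfl (by decide +kernel)

theorem comm : CommOK (hd cv) (hd cw) := by decide +kernel

/-- the eigenvector `b`, fixed by `v` -/
def B : List Q4 := (beta% delta% lq2623ca974a fun a b c _ _ _ _ =>
 (a (c 1<|c 0<|c 0 0)<|a (c 0<|c 0<|c 0 (-1))<|a (c 0<|c 0<|c 0 0)<|a (c 0<|c 0<|c 0 1)<|a (c 0<|c 0<|c 0 (-1))<|a (c (-1)<|c 0<|c (-1) 0)<|a (c 1<|c 0<|c 1 1)<|a (c (-1)<|c (-1)<|c 0 (-1))<|b))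

/-- the eigenvector `a` -/
def A : List Q4 := (beta% delta% lq2623ca974a fun a b c _ _ _ _ =>
 (a (c 1<|c 1<|c 0 0)<|a (c 0<|c (-1)<|c (-1) 0)<|a (c 0<|c (-1)<|c 1 0)<|a (c (-1)<|c 0<|c (-1) (-1))<|a (c 0<|c 1<|c 1 1)<|a (c 1<|c 0<|c 0 0)<|a (c 0<|c 0<|c 0 1)<|a (c 0<|c 0<|c 0 (-1))<|b))

theorem eb : EigQ (-1, -1, -1, -1) (hd cw) (0, 1, 0, 0) B := by decide +kernel

theorem ea : EigQ (-1, -1, -1, -1) (hd cw) (0, 1, 0, 0) A := by decide +kernel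

theorem evb : EigQ (-1, -1, -1, -1) (hd cv) (1, 0, 0, 0) B := by decide +kernel

theorem eva : EigQ (-1, -1, -1, -1) (hd cv) (0, 1, 0, 0) A := by decide +kernel

theorem ib : ∃ i : Fin 8, B.getD i (0, 0, 0, 0) = (1, 0, 0, 0) := ⟨0, rfl⟩

theorem ia : ∃ i : Fin 8, A.getD i (0, 0, 0, 0) = (1, 0, 0, 0) := ⟨5, rfl⟩

private noncomputable def _root_.Cfsg.Agent.LsF.f471b37_8 : {f // @Cfsg.Agent.H682.KB.add4 = f} := ⟨_, by first | (delta Cfsg.Agent.H682.KB.add4; rewrite [Cfsg.Agent.LsF.iadd_pat]; exact rfl) | exact rfl⟩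
private noncomputable def _root_.Cfsg.Agent.LsF.f471b37_9 : {f // @Cfsg.Agent.H682.KB.sm4 = f} := ⟨_, by first | (delta Cfsg.Agent.H682.KB.sm4; rewrite [Cfsg.Agent.LsF.imul_pat]; exact rfl) | exact rfl⟩
private noncomputable def _root_.Cfsg.Agent.LsF.f471b37_10 : {f // @Cfsg.Agent.H682.KB.mx = f} := ⟨_, by first | (delta Cfsg.Agent.H682.KB.mx; rewrite [Cfsg.Agent.LsF.iadd_pat, Cfsg.Agent.LsF.imul_pat]; exact rfl) | exact rfl⟩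
private noncomputable def _root_.Cfsg.Agent.LsF.f471b37_11 : {f // @Cfsg.Agent.H682.KB.mul4 = f} := ⟨_, by first | (delta Cfsg.Agent.H682.KB.mul4; rewrite [Cfsg.Agent.LsF.f471b37_8.2, Cfsg.Agent.LsF.f471b37_9.2, Cfsg.Agent.LsF.f471b37_10.2]; exact rfl) | exact rfl⟩
private noncomputable def _root_.Cfsg.Agent.LsF.f471b37_12 : {f // @Cfsg.Agent.H682.KB.pwl = f} := ⟨_, by first | (delta Cfsg.Agent.H682.KB.pwl List.brecOn List.brecOn.go Cfsg.Agent.H682.KB.pwl._f; rewrite [Cfsg.Agent.LsF.f471b37_11.2]; (try delta Cfsg.Agent.H682.KB.pwl.match_1); (try delta List.casesOn Bool.casesOn); first | dsimp -zeta only | exact rfl) | exact rfl⟩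
private noncomputable def _root_.Cfsg.Agent.LsF.f471b37_13 : {f // @Cfsg.Agent.H682.KB.dot4 = f} := ⟨_, by first | (delta Cfsg.Agent.H682.KB.dot4 List.brecOn List.brecOn.go Cfsg.Agent.H682.KB.dot4._f; rewrite [Cfsg.Agent.LsF.f471b37_8.2, Cfsg.Agent.LsF.f471b37_9.2, Cfsg.Agent.LsF.icast_pat]; (try delta Cfsg.Agent.H682.KB.dot4.match_1); (try delta Cfsg.Agent.H682.KB.dot4._sparseCasesOn_1); first | dsimp -zeta only | exact rfl) | exact rfl⟩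
private noncomputable def _root_.Cfsg.Agent.LsF.f471b37_14 : {f // @Cfsg.Agent.H682.KB.ps4 = f} := ⟨_, by first | (delta Cfsg.Agent.H682.KB.ps4 List.brecOn List.brecOn.go Cfsg.Agent.H682.KB.ps4._f; rewrite [Cfsg.Agent.LsF.f471b37_8.2, Cfsg.Agent.LsF.f471b37_12.2, Cfsg.Agent.LsF.f471b37_13.2]; (try delta Cfsg.Agent.H682.KB.ps4.match_1); (try delta List.casesOn); first | dsimp -zeta only | exact rfl) | exact rfl⟩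
theorem ps20 : (beta% delta% lq2623ca974a fun a b c d e _ g =>
 ps4 (c (-1)<|c (-1)<|c (-1) (-1)) (a d<|a e<|a d<|a e<|a e<|b) B g :
 Cfsg.Agent.H682.KB.Q4) = (2300100, 0, 0, 0) := by (refine of_decide_eq_true ?_; (try (rewrite [Cfsg.Agent.LsF.f471b37_14.2, Cfsg.Agent.LsF.ineg_pat, Cfsg.Agent.LsF.dProdEq_eq, Cfsg.Agent.LsF.instIDecEq_eq, Cfsg.Agent.LsF.decide_eq])); decide +kernel)

theorem ct20 : (beta% delta% lq2623ca974a fun a b c d e _ g =>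
 mul4 (c (-1)<|c (-1)<|c (-1) (-1)) (c 1<|c 0<|c 0 0) (ps4 (c (-1)<|c (-1)<|c (-1) (-1)) (a d<|a e<|a d<|a e<|a e<|b) B g) :
 Cfsg.Agent.H682.KB.Q4) = (2300100, 0, 0, 0) := by
  rw [ps20]
  decide +kernel

theorem ps30 : (beta% delta% lq2623ca974a fun a b c d e _ g =>
 ps4 (c (-1)<|c (-1)<|c (-1) (-1)) (a d<|a d<|a d<|a d<|a e<|b) B g :
 Cfsg.Agent.H682.KB.Q4) = (-1144893750, 0, 0, 0) := by (refine of_decide_eq_true ?_; (try (rewrite [Cfsg.Agent.LsF.f471b37_14.2, Cfsg.Agent.LsF.ineg_pat, Cfsg.Agent.LsF.dProdEq_eq, Cfsg.Agent.LsF.instIDecEq_eq, Cfsg.Agent.LsF.decide_eq])); decide +kernel)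

theorem ct30 : (beta% delta% lq2623ca974a fun a b c d e _ g =>
 mul4 (c (-1)<|c (-1)<|c (-1) (-1)) (c (-1)<|c 0<|c 0 0) (ps4 (c (-1)<|c (-1)<|c (-1) (-1)) (a d<|a d<|a d<|a d<|a e<|b) B g) :
 Cfsg.Agent.H682.KB.Q4) = (1144893750, 0, 0, 0) := by
  rw [ps30]
  decide +kernel

theorem ps50 : (beta% delta% lq2623ca974a fun a b c d e _ g =>
 ps4 (c (-1)<|c (-1)<|c (-1) (-1)) (a d<|a d<|a e<|a e<|a d<|a e<|b) B g :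
 Cfsg.Agent.H682.KB.Q4) = (-457212665937500, 0, 0, 0) := by (refine of_decide_eq_true ?_; (try (rewrite [Cfsg.Agent.LsF.f471b37_14.2, Cfsg.Agent.LsF.ineg_pat, Cfsg.Agent.LsF.dProdEq_eq, Cfsg.Agent.LsF.instIDecEq_eq, Cfsg.Agent.LsF.decide_eq])); decide +kernel)

theorem ct50 : (beta% delta% lq2623ca974a fun a b c d e _ g =>
 mul4 (c (-1)<|c (-1)<|c (-1) (-1)) (c (-1)<|c 0<|c 0 0) (ps4 (c (-1)<|c (-1)<|c (-1) (-1)) (a d<|a d<|a e<|a e<|a d<|a e<|b) B g) :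
 Cfsg.Agent.H682.KB.Q4) = (457212665937500, 0, 0, 0) := by
  rw [ps50]
  decide +kernel

end D5

namespace D10

/-- the element `w` -/
def cw : List (Fin 8 × Mat 8) := (beta% delta% lq2623ca974a fun a b c _ _ _ _ =>
 (a (c 2 (mt (a (a 0<|a (-1)<|a (-1)<|a (-1)<|a (-1)<|a (-1)<|a (-1)<|a (-1)<|b)<|a (a 0<|a 0<|a 0<|a 0<|a 1<|a 0<|a 0<|a 0<|b)<|a (a 1<|a 2<|a 3<|a 4<|a 3<|a 2<|a 1<|a 1<|b)<|a (a (-1)<|a (-1)<|a (-2)<|a (-3)<|a (-3)<|a (-2)<|a (-1)<|a (-1)<|b)<|a (a 0<|a 0<|a 0<|a 1<|a 1<|a 1<|a 1<|a 1<|b)<|a (a 1<|a 1<|a 2<|a 2<|a 2<|a 2<|a 1<|a 0<|b)<|a (a 0<|a (-1)<|a (-1)<|a (-2)<|a (-2)<|a (-2)<|a (-1)<|a 0<|b)<|a (a 0<|a 1<|a 0<|a 1<|a 1<|a 1<|a 0<|a 0<|b)<|b)))<|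
 a (c 3 (mt (a (a 0<|a (-1)<|a 0<|a (-1)<|a (-1)<|a (-1)<|a (-1)<|a (-1)<|b)<|a (a 0<|a 0<|a 0<|a 0<|a 1<|a 0<|a 0<|a 0<|b)<|a (a 1<|a 2<|a 2<|a 4<|a 3<|a 2<|a 1<|a 1<|b)<|a (a (-1)<|a (-1)<|a (-2)<|a (-3)<|a (-3)<|a (-2)<|a (-1)<|a (-1)<|b)<|a (a 0<|a 0<|a 1<|a 1<|a 1<|a 1<|a 1<|a 1<|b)<|a (a 1<|a 1<|a 1<|a 2<|a 2<|a 2<|a 1<|a 0<|b)<|a (a 0<|a (-1)<|a (-1)<|a (-2)<|a (-2)<|a (-2)<|a (-1)<|a 0<|b)<|a (a 0<|a 1<|a 1<|a 1<|a 1<|a 1<|a 0<|a 0<|b)<|b)))<|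
 a (c 4 (mt (a (a 0<|a (-1)<|a 0<|a (-1)<|a (-1)<|a (-1)<|a (-1)<|a (-1)<|b)<|a (a 0<|a 0<|a 0<|a 1<|a 1<|a 0<|a 0<|a 0<|b)<|a (a 1<|a 2<|a 2<|a 3<|a 3<|a 2<|a 1<|a 1<|b)<|a (a (-1)<|a (-1)<|a (-2)<|a (-3)<|a (-3)<|a (-2)<|a (-1)<|a (-1)<|b)<|a (a 0<|a 0<|a 1<|a 1<|a 1<|a 1<|a 1<|a 1<|b)<|a (a 1<|a 1<|a 1<|a 2<|a 2<|a 2<|a 1<|a 0<|b)<|a (a 0<|a (-1)<|a (-1)<|a (-2)<|a (-2)<|a (-2)<|a (-1)<|a 0<|b)<|a (a 0<|a 1<|a 1<|a 2<|a 1<|a 1<|a 0<|a 0<|b)<|b)))<|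
 a (c 5 (mt (a (a 0<|a (-1)<|a 0<|a (-1)<|a (-1)<|a (-1)<|a (-1)<|a (-1)<|b)<|a (a 0<|a 0<|a 0<|a 1<|a 0<|a 0<|a 0<|a 0<|b)<|a (a 1<|a 2<|a 2<|a 3<|a 2<|a 2<|a 1<|a 1<|b)<|a (a (-1)<|a (-1)<|a (-2)<|a (-3)<|a (-2)<|a (-2)<|a (-1)<|a (-1)<|b)<|a (a 0<|a 0<|a 1<|a 1<|a 1<|a 1<|a 1<|a 1<|b)<|a (a 1<|a 1<|a 1<|a 2<|a 2<|a 2<|a 1<|a 0<|b)<|a (a 0<|a (-1)<|a (-1)<|a (-2)<|a (-2)<|a (-2)<|a (-1)<|a 0<|b)<|a (a 0<|a 1<|a 1<|a 2<|a 2<|a 1<|a 0<|a 0<|b)<|b)))<|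
 a (c 4 (mt (a (a 0<|a (-1)<|a 0<|a (-1)<|a (-1)<|a (-1)<|a (-1)<|a (-1)<|b)<|a (a 0<|a 0<|a 0<|a 1<|a 0<|a 0<|a 0<|a 0<|b)<|a (a 1<|a 2<|a 2<|a 3<|a 2<|a 1<|a 1<|a 1<|b)<|a (a (-1)<|a (-1)<|a (-2)<|a (-3)<|a (-2)<|a (-1)<|a (-1)<|a (-1)<|b)<|a (a 0<|a 0<|a 1<|a 1<|a 1<|a 1<|a 1<|a 1<|b)<|a (a 1<|a 1<|a 1<|a 2<|a 2<|a 1<|a 1<|a 0<|b)<|a (a 0<|a (-1)<|a (-1)<|a (-2)<|a (-2)<|a (-1)<|a (-1)<|a 0<|b)<|a (a 0<|a 1<|a 1<|a 2<|a 2<|a 1<|a 0<|a 0<|b)<|b)))<|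
 a (c 3 (mt (a (a 0<|a (-1)<|a 0<|a (-1)<|a (-1)<|a (-1)<|a (-1)<|a (-1)<|b)<|a (a 0<|a 0<|a 0<|a 1<|a 1<|a 0<|a 0<|a 0<|b)<|a (a 1<|a 2<|a 2<|a 3<|a 2<|a 1<|a 1<|a 1<|b)<|a (a (-1)<|a (-1)<|a (-2)<|a (-3)<|a (-2)<|a (-1)<|a (-1)<|a (-1)<|b)<|a (a 0<|a 0<|a 1<|a 1<|a 1<|a 1<|a 1<|a 1<|b)<|a (a 1<|a 1<|a 1<|a 2<|a 1<|a 1<|a 1<|a 0<|b)<|a (a 0<|a (-1)<|a (-1)<|a (-2)<|a (-1)<|a (-1)<|a (-1)<|a 0<|b)<|a (a 0<|a 1<|a 1<|a 2<|a 1<|a 1<|a 0<|a 0<|b)<|b)))<|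
 a (c 1 (mt (a (a 0<|a (-1)<|a 0<|a (-1)<|a (-1)<|a (-1)<|a (-1)<|a (-1)<|b)<|a (a 0<|a 0<|a 0<|a 0<|a 1<|a 0<|a 0<|a 0<|b)<|a (a 1<|a 2<|a 2<|a 3<|a 2<|a 1<|a 1<|a 1<|b)<|a (a (-1)<|a (-1)<|a (-2)<|a (-2)<|a (-2)<|a (-1)<|a (-1)<|a (-1)<|b)<|a (a 0<|a 0<|a 1<|a 1<|a 1<|a 1<|a 1<|a 1<|b)<|a (a 1<|a 1<|a 1<|a 1<|a 1<|a 1<|a 1<|a 0<|b)<|a (a 0<|a (-1)<|a (-1)<|a (-1)<|a (-1)<|a (-1)<|a (-1)<|a 0<|b)<|a (a 0<|a 1<|a 1<|a 1<|a 1<|a 1<|a 0<|a 0<|b)<|b)))<|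
 a (c 2 (mt (a (a 0<|a 0<|a 0<|a (-1)<|a (-1)<|a (-1)<|a (-1)<|a (-1)<|b)<|a (a 0<|a 0<|a 0<|a 0<|a 1<|a 0<|a 0<|a 0<|b)<|a (a 1<|a 1<|a 2<|a 3<|a 2<|a 1<|a 1<|a 1<|b)<|a (a (-1)<|a (-1)<|a (-2)<|a (-2)<|a (-2)<|a (-1)<|a (-1)<|a (-1)<|b)<|a (a 0<|a 1<|a 1<|a 1<|a 1<|a 1<|a 1<|a 1<|b)<|a (a 1<|a 0<|a 1<|a 1<|a 1<|a 1<|a 1<|a 0<|b)<|a (a 0<|a 0<|a (-1)<|a (-1)<|a (-1)<|a (-1)<|a (-1)<|a 0<|b)<|a (a 0<|a 0<|a 1<|a 1<|a 1<|a 1<|a 0<|a 0<|b)<|b)))<|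
 a (c 0 (mt (a (a 0<|a 0<|a (-1)<|a (-1)<|a (-1)<|a (-1)<|a (-1)<|a (-1)<|b)<|a (a 0<|a 0<|a 0<|a 0<|a 1<|a 0<|a 0<|a 0<|b)<|a (a 1<|a 1<|a 2<|a 3<|a 2<|a 1<|a 1<|a 1<|b)<|a (a (-1)<|a (-1)<|a (-1)<|a (-2)<|a (-2)<|a (-1)<|a (-1)<|a (-1)<|b)<|a (a 0<|a 1<|a 0<|a 1<|a 1<|a 1<|a 1<|a 1<|b)<|a (a 1<|a 0<|a 1<|a 1<|a 1<|a 1<|a 1<|a 0<|b)<|a (a 0<|a 0<|a 0<|a (-1)<|a (-1)<|a (-1)<|a (-1)<|a 0<|b)<|a (a 0<|a 0<|a 0<|a 1<|a 1<|a 1<|a 0<|a 0<|b)<|b)))<|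
 a (c 3 (mt (a (a (-1)<|a 0<|a (-1)<|a (-1)<|a (-1)<|a (-1)<|a (-1)<|a (-1)<|b)<|a (a 0<|a 0<|a 0<|a 0<|a 1<|a 0<|a 0<|a 0<|b)<|a (a 1<|a 1<|a 2<|a 3<|a 2<|a 1<|a 1<|a 1<|b)<|a (a 0<|a (-1)<|a (-1)<|a (-2)<|a (-2)<|a (-1)<|a (-1)<|a (-1)<|b)<|a (a 0<|a 1<|a 0<|a 1<|a 1<|a 1<|a 1<|a 1<|b)<|a (a 0<|a 0<|a 1<|a 1<|a 1<|a 1<|a 1<|a 0<|b)<|a (a 0<|a 0<|a 0<|a (-1)<|a (-1)<|a (-1)<|a (-1)<|a 0<|b)<|a (a 0<|a 0<|a 0<|a 1<|a 1<|a 1<|a 0<|a 0<|b)<|b)))<|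
 a (c 2 (mt (a (a (-1)<|a 0<|a (-1)<|a (-1)<|a (-1)<|a (-1)<|a (-1)<|a (-1)<|b)<|a (a 0<|a 0<|a 0<|a 1<|a 1<|a 0<|a 0<|a 0<|b)<|a (a 1<|a 1<|a 2<|a 2<|a 2<|a 1<|a 1<|a 1<|b)<|a (a 0<|a (-1)<|a (-1)<|a (-2)<|a (-2)<|a (-1)<|a (-1)<|a (-1)<|b)<|a (a 0<|a 1<|a 0<|a 1<|a 1<|a 1<|a 1<|a 1<|b)<|a (a 0<|a 0<|a 1<|a 1<|a 1<|a 1<|a 1<|a 0<|b)<|a (a 0<|a 0<|a 0<|a 0<|a (-1)<|a (-1)<|a (-1)<|a 0<|b)<|a (a 0<|a 0<|a 0<|a 0<|a 1<|a 1<|a 0<|a 0<|b)<|b)))<|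
 a (c 4 (mt (a (a (-1)<|a 0<|a (-1)<|a (-1)<|a (-1)<|a (-1)<|a (-1)<|a (-1)<|b)<|a (a 0<|a 0<|a 1<|a 1<|a 1<|a 0<|a 0<|a 0<|b)<|a (a 1<|a 1<|a 1<|a 2<|a 2<|a 1<|a 1<|a 1<|b)<|a (a 0<|a (-1)<|a (-1)<|a (-2)<|a (-2)<|a (-1)<|a (-1)<|a (-1)<|b)<|a (a 0<|a 1<|a 1<|a 1<|a 1<|a 1<|a 1<|a 1<|b)<|a (a 0<|a 0<|a 0<|a 1<|a 1<|a 1<|a 1<|a 0<|b)<|a (a 0<|a 0<|a 0<|a 0<|a (-1)<|a (-1)<|a (-1)<|a 0<|b)<|a (a 0<|a 0<|a 0<|a 0<|a 1<|a 1<|a 0<|a 0<|b)<|b)))<|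
 a (c 3 (mt (a (a (-1)<|a 0<|a (-1)<|a (-1)<|a (-1)<|a (-1)<|a (-1)<|a (-1)<|b)<|a (a 0<|a 0<|a 1<|a 1<|a 0<|a 0<|a 0<|a 0<|b)<|a (a 1<|a 1<|a 1<|a 2<|a 1<|a 1<|a 1<|a 1<|b)<|a (a 0<|a (-1)<|a (-1)<|a (-2)<|a (-1)<|a (-1)<|a (-1)<|a (-1)<|b)<|a (a 0<|a 1<|a 1<|a 1<|a 1<|a 1<|a 1<|a 1<|b)<|a (a 0<|a 0<|a 0<|a 1<|a 1<|a 1<|a 1<|a 0<|b)<|a (a 0<|a 0<|a 0<|a 0<|a 0<|a (-1)<|a (-1)<|a 0<|b)<|a (a 0<|a 0<|a 0<|a 0<|a 0<|a 1<|a 0<|a 0<|b)<|b)))<|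
 a (c 6 (mt (a (a (-1)<|a 0<|a (-1)<|a (-1)<|a (-1)<|a (-1)<|a (-1)<|a (-1)<|b)<|a (a 0<|a 0<|a 1<|a 0<|a 0<|a 0<|a 0<|a 0<|b)<|a (a 1<|a 1<|a 1<|a 1<|a 1<|a 1<|a 1<|a 1<|b)<|a (a 0<|a (-1)<|a (-1)<|a (-1)<|a (-1)<|a (-1)<|a (-1)<|a (-1)<|b)<|a (a 0<|a 1<|a 1<|a 2<|a 1<|a 1<|a 1<|a 1<|b)<|a (a 0<|a 0<|a 0<|a 0<|a 1<|a 1<|a 1<|a 0<|b)<|a (a 0<|a 0<|a 0<|a 0<|a 0<|a (-1)<|a (-1)<|a 0<|b)<|a (a 0<|a 0<|a 0<|a 0<|a 0<|a 1<|a 0<|a 0<|b)<|b)))<|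
 a (c 5 (mt (a (a (-1)<|a 0<|a (-1)<|a (-1)<|a (-1)<|a (-1)<|a (-1)<|a (-1)<|b)<|a (a 0<|a 0<|a 1<|a 0<|a 0<|a 0<|a 0<|a 0<|b)<|a (a 1<|a 1<|a 1<|a 1<|a 1<|a 1<|a 1<|a 1<|b)<|a (a 0<|a (-1)<|a (-1)<|a (-1)<|a (-1)<|a (-1)<|a (-1)<|a (-1)<|b)<|a (a 0<|a 1<|a 1<|a 2<|a 1<|a 1<|a 1<|a 1<|b)<|a (a 0<|a 0<|a 0<|a 0<|a 1<|a 1<|a 0<|a 0<|b)<|a (a 0<|a 0<|a 0<|a 0<|a 0<|a (-1)<|a 0<|a 0<|b)<|a (a 0<|a 0<|a 0<|a 0<|a 0<|a 1<|a 1<|a 0<|b)<|b)))<|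
 a (c 7 (mt (a (a (-1)<|a 0<|a (-1)<|a (-1)<|a (-1)<|a (-1)<|a (-1)<|a (-1)<|b)<|a (a 0<|a 0<|a 1<|a 0<|a 0<|a 0<|a 0<|a 0<|b)<|a (a 1<|a 1<|a 1<|a 1<|a 1<|a 1<|a 1<|a 1<|b)<|a (a 0<|a (-1)<|a (-1)<|a (-1)<|a (-1)<|a (-1)<|a (-1)<|a (-1)<|b)<|a (a 0<|a 1<|a 1<|a 2<|a 1<|a 1<|a 1<|a 1<|b)<|a (a 0<|a 0<|a 0<|a 0<|a 1<|a 0<|a 0<|a 0<|b)<|a (a 0<|a 0<|a 0<|a 0<|a 0<|a 1<|a 0<|a 0<|b)<|a (a 0<|a 0<|a 0<|a 0<|a 0<|a 0<|a 1<|a 0<|b)<|b)))<|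
 a (c 6 (mt (a (a (-1)<|a 0<|a (-1)<|a (-1)<|a (-1)<|a (-1)<|a (-1)<|a 0<|b)<|a (a 0<|a 0<|a 1<|a 0<|a 0<|a 0<|a 0<|a 0<|b)<|a (a 1<|a 1<|a 1<|a 1<|a 1<|a 1<|a 1<|a 0<|b)<|a (a 0<|a (-1)<|a (-1)<|a (-1)<|a (-1)<|a (-1)<|a (-1)<|a 0<|b)<|a (a 0<|a 1<|a 1<|a 2<|a 1<|a 1<|a 1<|a 0<|b)<|a (a 0<|a 0<|a 0<|a 0<|a 1<|a 0<|a 0<|a 0<|b)<|a (a 0<|a 0<|a 0<|a 0<|a 0<|a 1<|a 0<|a 0<|b)<|a (a 0<|a 0<|a 0<|a 0<|a 0<|a 0<|a 1<|a 1<|b)<|b)))<|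
 a (c 5 (mt (a (a (-1)<|a 0<|a (-1)<|a (-1)<|a (-1)<|a (-1)<|a 0<|a 0<|b)<|a (a 0<|a 0<|a 1<|a 0<|a 0<|a 0<|a 0<|a 0<|b)<|a (a 1<|a 1<|a 1<|a 1<|a 1<|a 1<|a 0<|a 0<|b)<|a (a 0<|a (-1)<|a (-1)<|a (-1)<|a (-1)<|a (-1)<|a 0<|a 0<|b)<|a (a 0<|a 1<|a 1<|a 2<|a 1<|a 1<|a 0<|a 0<|b)<|a (a 0<|a 0<|a 0<|a 0<|a 1<|a 0<|a 0<|a 0<|b)<|a (a 0<|a 0<|a 0<|a 0<|a 0<|a 1<|a 1<|a 0<|b)<|a (a 0<|a 0<|a 0<|a 0<|a 0<|a 0<|a 0<|a 1<|b)<|b)))<|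
 a (c 4 (mt (a (a (-1)<|a 0<|a (-1)<|a (-1)<|a (-1)<|a 0<|a 0<|a 0<|b)<|a (a 0<|a 0<|a 1<|a 0<|a 0<|a 0<|a 0<|a 0<|b)<|a (a 1<|a 1<|a 1<|a 1<|a 1<|a 0<|a 0<|a 0<|b)<|a (a 0<|a (-1)<|a (-1)<|a (-1)<|a (-1)<|a 0<|a 0<|a 0<|b)<|a (a 0<|a 1<|a 1<|a 2<|a 1<|a 0<|a 0<|a 0<|b)<|a (a 0<|a 0<|a 0<|a 0<|a 1<|a 1<|a 0<|a 0<|b)<|a (a 0<|a 0<|a 0<|a 0<|a 0<|a 0<|a 1<|a 0<|b)<|a (a 0<|a 0<|a 0<|a 0<|a 0<|a 0<|a 0<|a 1<|b)<|b)))<|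
 a (c 3 (mt (a (a (-1)<|a 0<|a (-1)<|a (-1)<|a 0<|a 0<|a 0<|a 0<|b)<|a (a 0<|a 0<|a 1<|a 0<|a 0<|a 0<|a 0<|a 0<|b)<|a (a 1<|a 1<|a 1<|a 1<|a 0<|a 0<|a 0<|a 0<|b)<|a (a 0<|a (-1)<|a (-1)<|a (-1)<|a 0<|a 0<|a 0<|a 0<|b)<|a (a 0<|a 1<|a 1<|a 2<|a 1<|a 0<|a 0<|a 0<|b)<|a (a 0<|a 0<|a 0<|a 0<|a 0<|a 1<|a 0<|a 0<|b)<|a (a 0<|a 0<|a 0<|a 0<|a 0<|a 0<|a 1<|a 0<|b)<|a (a 0<|a 0<|a 0<|a 0<|a 0<|a 0<|a 0<|a 1<|b)<|b)))<|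
 a (c 1 (mt (a (a (-1)<|a 0<|a (-1)<|a 0<|a 0<|a 0<|a 0<|a 0<|b)<|a (a 0<|a 0<|a 1<|a 1<|a 0<|a 0<|a 0<|a 0<|b)<|a (a 1<|a 1<|a 1<|a 1<|a 0<|a 0<|a 0<|a 0<|b)<|a (a 0<|a (-1)<|a (-1)<|a (-1)<|a 0<|a 0<|a 0<|a 0<|b)<|a (a 0<|a 1<|a 1<|a 1<|a 1<|a 0<|a 0<|a 0<|b)<|a (a 0<|a 0<|a 0<|a 0<|a 0<|a 1<|a 0<|a 0<|b)<|a (a 0<|a 0<|a 0<|a 0<|a 0<|a 0<|a 1<|a 0<|b)<|a (a 0<|a 0<|a 0<|a 0<|a 0<|a 0<|a 0<|a 1<|b)<|b)))<|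
 a (c 2 (mt (a (a (-1)<|a 0<|a (-1)<|a 0<|a 0<|a 0<|a 0<|a 0<|b)<|a (a 0<|a 1<|a 1<|a 1<|a 0<|a 0<|a 0<|a 0<|b)<|a (a 1<|a 0<|a 1<|a 1<|a 0<|a 0<|a 0<|a 0<|b)<|a (a 0<|a 0<|a (-1)<|a (-1)<|a 0<|a 0<|a 0<|a 0<|b)<|a (a 0<|a 0<|a 1<|a 1<|a 1<|a 0<|a 0<|a 0<|b)<|a (a 0<|a 0<|a 0<|a 0<|a 0<|a 1<|a 0<|a 0<|b)<|a (a 0<|a 0<|a 0<|a 0<|a 0<|a 0<|a 1<|a 0<|b)<|a (a 0<|a 0<|a 0<|a 0<|a 0<|a 0<|a 0<|a 1<|b)<|b)))<|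
 a (c 0 (mt (a (a (-1)<|a 0<|a 0<|a 0<|a 0<|a 0<|a 0<|a 0<|b)<|a (a 0<|a 1<|a 0<|a 1<|a 0<|a 0<|a 0<|a 0<|b)<|a (a 1<|a 0<|a 1<|a 1<|a 0<|a 0<|a 0<|a 0<|b)<|a (a 0<|a 0<|a 0<|a (-1)<|a 0<|a 0<|a 0<|a 0<|b)<|a (a 0<|a 0<|a 0<|a 1<|a 1<|a 0<|a 0<|a 0<|b)<|a (a 0<|a 0<|a 0<|a 0<|a 0<|a 1<|a 0<|a 0<|b)<|a (a 0<|a 0<|a 0<|a 0<|a 0<|a 0<|a 1<|a 0<|b)<|a (a 0<|a 0<|a 0<|a 0<|a 0<|a 0<|a 0<|a 1<|b)<|b)))<|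
 a (c 3 (mt (a (a 1<|a 0<|a 0<|a 0<|a 0<|a 0<|a 0<|a 0<|b)<|a (a 0<|a 1<|a 0<|a 1<|a 0<|a 0<|a 0<|a 0<|b)<|a (a 0<|a 0<|a 1<|a 1<|a 0<|a 0<|a 0<|a 0<|b)<|a (a 0<|a 0<|a 0<|a (-1)<|a 0<|a 0<|a 0<|a 0<|b)<|a (a 0<|a 0<|a 0<|a 1<|a 1<|a 0<|a 0<|a 0<|b)<|a (a 0<|a 0<|a 0<|a 0<|a 0<|a 1<|a 0<|a 0<|b)<|a (a 0<|a 0<|a 0<|a 0<|a 0<|a 0<|a 1<|a 0<|b)<|a (a 0<|a 0<|a 0<|a 0<|a 0<|a 0<|a 0<|a 1<|b)<|b)))<|b))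

private noncomputable def _root_.Cfsg.Agent.LsF.f471b37_15 : {f // @Cfsg.Agent.H682.KB.D10.cw = f} := ⟨_, by first | (delta Cfsg.Agent.H682.KB.D10.cw; rewrite [Cfsg.Agent.LsF.f471b37_0.2, Cfsg.Agent.LsF.ineg_pat]; exact rfl) | exact rfl⟩
theorem cw_ok : ChainOK Am cw :=
  H129.ChainF.ok H129.ChainF.i8 rfl rfl (by decide +kernel)

/-- the reflection `v` -/
def cv : List (Fin 8 × Mat 8) := (beta% delta% lq2623ca974a fun a b c _ _ _ _ =>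
 (a (c 3 (mt (a (a 1<|a 1<|a 1<|a 2<|a 2<|a 1<|a 1<|a 1<|b)<|a (a 0<|a 0<|a 1<|a 1<|a 1<|a 0<|a 0<|a 0<|b)<|a (a 0<|a (-1)<|a 0<|a (-1)<|a (-1)<|a 0<|a 0<|a 0<|b)<|a (a 0<|a 0<|a (-1)<|a (-1)<|a (-1)<|a (-1)<|a (-1)<|a (-1)<|b)<|a (a 0<|a 1<|a 1<|a 2<|a 1<|a 1<|a 1<|a 1<|b)<|a (a 0<|a 0<|a 0<|a 0<|a 1<|a 1<|a 0<|a 0<|b)<|a (a 0<|a 0<|a 0<|a 0<|a 0<|a 0<|a 1<|a 0<|b)<|a (a 0<|a 0<|a 0<|a (-1)<|a (-1)<|a (-1)<|a (-1)<|a 0<|b)<|b)))<|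
 a (c 4 (mt (a (a 1<|a 1<|a 1<|a 2<|a 2<|a 1<|a 1<|a 1<|b)<|a (a 0<|a 0<|a 1<|a 1<|a 1<|a 0<|a 0<|a 0<|b)<|a (a 0<|a (-1)<|a 0<|a (-1)<|a (-1)<|a 0<|a 0<|a 0<|b)<|a (a 0<|a 0<|a (-1)<|a (-1)<|a (-1)<|a (-1)<|a (-1)<|a (-1)<|b)<|a (a 0<|a 1<|a 1<|a 1<|a 1<|a 1<|a 1<|a 1<|b)<|a (a 0<|a 0<|a 0<|a 1<|a 1<|a 1<|a 0<|a 0<|b)<|a (a 0<|a 0<|a 0<|a 0<|a 0<|a 0<|a 1<|a 0<|b)<|a (a 0<|a 0<|a 0<|a 0<|a (-1)<|a (-1)<|a (-1)<|a 0<|b)<|b)))<|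
 a (c 3 (mt (a (a 1<|a 1<|a 1<|a 2<|a 1<|a 1<|a 1<|a 1<|b)<|a (a 0<|a 0<|a 1<|a 1<|a 0<|a 0<|a 0<|a 0<|b)<|a (a 0<|a (-1)<|a 0<|a (-1)<|a 0<|a 0<|a 0<|a 0<|b)<|a (a 0<|a 0<|a (-1)<|a (-1)<|a (-1)<|a (-1)<|a (-1)<|a (-1)<|b)<|a (a 0<|a 1<|a 1<|a 1<|a 1<|a 1<|a 1<|a 1<|b)<|a (a 0<|a 0<|a 0<|a 1<|a 1<|a 1<|a 0<|a 0<|b)<|a (a 0<|a 0<|a 0<|a 0<|a 0<|a 0<|a 1<|a 0<|b)<|a (a 0<|a 0<|a 0<|a 0<|a 0<|a (-1)<|a (-1)<|a 0<|b)<|b)))<|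
 a (c 1 (mt (a (a 1<|a 1<|a 1<|a 1<|a 1<|a 1<|a 1<|a 1<|b)<|a (a 0<|a 0<|a 1<|a 0<|a 0<|a 0<|a 0<|a 0<|b)<|a (a 0<|a (-1)<|a 0<|a 0<|a 0<|a 0<|a 0<|a 0<|b)<|a (a 0<|a 0<|a (-1)<|a (-1)<|a (-1)<|a (-1)<|a (-1)<|a (-1)<|b)<|a (a 0<|a 1<|a 1<|a 2<|a 1<|a 1<|a 1<|a 1<|b)<|a (a 0<|a 0<|a 0<|a 0<|a 1<|a 1<|a 0<|a 0<|b)<|a (a 0<|a 0<|a 0<|a 0<|a 0<|a 0<|a 1<|a 0<|b)<|a (a 0<|a 0<|a 0<|a 0<|a 0<|a (-1)<|a (-1)<|a 0<|b)<|b)))<|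
 a (c 5 (mt (a (a 1<|a 0<|a 1<|a 1<|a 1<|a 1<|a 1<|a 1<|b)<|a (a 0<|a 0<|a 1<|a 0<|a 0<|a 0<|a 0<|a 0<|b)<|a (a 0<|a 1<|a 0<|a 0<|a 0<|a 0<|a 0<|a 0<|b)<|a (a 0<|a (-1)<|a (-1)<|a (-1)<|a (-1)<|a (-1)<|a (-1)<|a (-1)<|b)<|a (a 0<|a 1<|a 1<|a 2<|a 1<|a 1<|a 1<|a 1<|b)<|a (a 0<|a 0<|a 0<|a 0<|a 1<|a 1<|a 0<|a 0<|b)<|a (a 0<|a 0<|a 0<|a 0<|a 0<|a 0<|a 1<|a 0<|b)<|a (a 0<|a 0<|a 0<|a 0<|a 0<|a (-1)<|a (-1)<|a 0<|b)<|b)))<|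
 a (c 6 (mt (a (a 1<|a 0<|a 1<|a 1<|a 1<|a 1<|a 1<|a 1<|b)<|a (a 0<|a 0<|a 1<|a 0<|a 0<|a 0<|a 0<|a 0<|b)<|a (a 0<|a 1<|a 0<|a 0<|a 0<|a 0<|a 0<|a 0<|b)<|a (a 0<|a (-1)<|a (-1)<|a (-1)<|a (-1)<|a (-1)<|a (-1)<|a (-1)<|b)<|a (a 0<|a 1<|a 1<|a 2<|a 1<|a 1<|a 1<|a 1<|b)<|a (a 0<|a 0<|a 0<|a 0<|a 1<|a 0<|a 0<|a 0<|b)<|a (a 0<|a 0<|a 0<|a 0<|a 0<|a 1<|a 1<|a 0<|b)<|a (a 0<|a 0<|a 0<|a 0<|a 0<|a 0<|a (-1)<|a 0<|b)<|b)))<|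
 a (c 7 (mt (a (a 1<|a 0<|a 1<|a 1<|a 1<|a 1<|a 1<|a 1<|b)<|a (a 0<|a 0<|a 1<|a 0<|a 0<|a 0<|a 0<|a 0<|b)<|a (a 0<|a 1<|a 0<|a 0<|a 0<|a 0<|a 0<|a 0<|b)<|a (a 0<|a (-1)<|a (-1)<|a (-1)<|a (-1)<|a (-1)<|a (-1)<|a (-1)<|b)<|a (a 0<|a 1<|a 1<|a 2<|a 1<|a 1<|a 1<|a 1<|b)<|a (a 0<|a 0<|a 0<|a 0<|a 1<|a 0<|a 0<|a 0<|b)<|a (a 0<|a 0<|a 0<|a 0<|a 0<|a 1<|a 0<|a 0<|b)<|a (a 0<|a 0<|a 0<|a 0<|a 0<|a 0<|a 1<|a 0<|b)<|b)))<|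
 a (c 6 (mt (a (a 1<|a 0<|a 1<|a 1<|a 1<|a 1<|a 1<|a 0<|b)<|a (a 0<|a 0<|a 1<|a 0<|a 0<|a 0<|a 0<|a 0<|b)<|a (a 0<|a 1<|a 0<|a 0<|a 0<|a 0<|a 0<|a 0<|b)<|a (a 0<|a (-1)<|a (-1)<|a (-1)<|a (-1)<|a (-1)<|a (-1)<|a 0<|b)<|a (a 0<|a 1<|a 1<|a 2<|a 1<|a 1<|a 1<|a 0<|b)<|a (a 0<|a 0<|a 0<|a 0<|a 1<|a 0<|a 0<|a 0<|b)<|a (a 0<|a 0<|a 0<|a 0<|a 0<|a 1<|a 0<|a 0<|b)<|a (a 0<|a 0<|a 0<|a 0<|a 0<|a 0<|a 1<|a 1<|b)<|b)))<|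
 a (c 5 (mt (a (a 1<|a 0<|a 1<|a 1<|a 1<|a 1<|a 0<|a 0<|b)<|a (a 0<|a 0<|a 1<|a 0<|a 0<|a 0<|a 0<|a 0<|b)<|a (a 0<|a 1<|a 0<|a 0<|a 0<|a 0<|a 0<|a 0<|b)<|a (a 0<|a (-1)<|a (-1)<|a (-1)<|a (-1)<|a (-1)<|a 0<|a 0<|b)<|a (a 0<|a 1<|a 1<|a 2<|a 1<|a 1<|a 0<|a 0<|b)<|a (a 0<|a 0<|a 0<|a 0<|a 1<|a 0<|a 0<|a 0<|b)<|a (a 0<|a 0<|a 0<|a 0<|a 0<|a 1<|a 1<|a 0<|b)<|a (a 0<|a 0<|a 0<|a 0<|a 0<|a 0<|a 0<|a 1<|b)<|b)))<|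
 a (c 4 (mt (a (a 1<|a 0<|a 1<|a 1<|a 1<|a 0<|a 0<|a 0<|b)<|a (a 0<|a 0<|a 1<|a 0<|a 0<|a 0<|a 0<|a 0<|b)<|a (a 0<|a 1<|a 0<|a 0<|a 0<|a 0<|a 0<|a 0<|b)<|a (a 0<|a (-1)<|a (-1)<|a (-1)<|a (-1)<|a 0<|a 0<|a 0<|b)<|a (a 0<|a 1<|a 1<|a 2<|a 1<|a 0<|a 0<|a 0<|b)<|a (a 0<|a 0<|a 0<|a 0<|a 1<|a 1<|a 0<|a 0<|b)<|a (a 0<|a 0<|a 0<|a 0<|a 0<|a 0<|a 1<|a 0<|b)<|a (a 0<|a 0<|a 0<|a 0<|a 0<|a 0<|a 0<|a 1<|b)<|b)))<|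
 a (c 3 (mt (a (a 1<|a 0<|a 1<|a 1<|a 0<|a 0<|a 0<|a 0<|b)<|a (a 0<|a 0<|a 1<|a 0<|a 0<|a 0<|a 0<|a 0<|b)<|a (a 0<|a 1<|a 0<|a 0<|a 0<|a 0<|a 0<|a 0<|b)<|a (a 0<|a (-1)<|a (-1)<|a (-1)<|a 0<|a 0<|a 0<|a 0<|b)<|a (a 0<|a 1<|a 1<|a 2<|a 1<|a 0<|a 0<|a 0<|b)<|a (a 0<|a 0<|a 0<|a 0<|a 0<|a 1<|a 0<|a 0<|b)<|a (a 0<|a 0<|a 0<|a 0<|a 0<|a 0<|a 1<|a 0<|b)<|a (a 0<|a 0<|a 0<|a 0<|a 0<|a 0<|a 0<|a 1<|b)<|b)))<|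
 a (c 1 (mt (a (a 1<|a 0<|a 1<|a 0<|a 0<|a 0<|a 0<|a 0<|b)<|a (a 0<|a 0<|a 1<|a 1<|a 0<|a 0<|a 0<|a 0<|b)<|a (a 0<|a 1<|a 0<|a 1<|a 0<|a 0<|a 0<|a 0<|b)<|a (a 0<|a (-1)<|a (-1)<|a (-1)<|a 0<|a 0<|a 0<|a 0<|b)<|a (a 0<|a 1<|a 1<|a 1<|a 1<|a 0<|a 0<|a 0<|b)<|a (a 0<|a 0<|a 0<|a 0<|a 0<|a 1<|a 0<|a 0<|b)<|a (a 0<|a 0<|a 0<|a 0<|a 0<|a 0<|a 1<|a 0<|b)<|a (a 0<|a 0<|a 0<|a 0<|a 0<|a 0<|a 0<|a 1<|b)<|b)))<|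
 a (c 2 (mt (a (a 1<|a 0<|a 1<|a 0<|a 0<|a 0<|a 0<|a 0<|b)<|a (a 0<|a 1<|a 1<|a 1<|a 0<|a 0<|a 0<|a 0<|b)<|a (a 0<|a 0<|a 0<|a 1<|a 0<|a 0<|a 0<|a 0<|b)<|a (a 0<|a 0<|a (-1)<|a (-1)<|a 0<|a 0<|a 0<|a 0<|b)<|a (a 0<|a 0<|a 1<|a 1<|a 1<|a 0<|a 0<|a 0<|b)<|a (a 0<|a 0<|a 0<|a 0<|a 0<|a 1<|a 0<|a 0<|b)<|a (a 0<|a 0<|a 0<|a 0<|a 0<|a 0<|a 1<|a 0<|b)<|a (a 0<|a 0<|a 0<|a 0<|a 0<|a 0<|a 0<|a 1<|b)<|b)))<|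
 a (c 3 (mt (a (a 1<|a 0<|a 0<|a 0<|a 0<|a 0<|a 0<|a 0<|b)<|a (a 0<|a 1<|a 0<|a 1<|a 0<|a 0<|a 0<|a 0<|b)<|a (a 0<|a 0<|a 1<|a 1<|a 0<|a 0<|a 0<|a 0<|b)<|a (a 0<|a 0<|a 0<|a (-1)<|a 0<|a 0<|a 0<|a 0<|b)<|a (a 0<|a 0<|a 0<|a 1<|a 1<|a 0<|a 0<|a 0<|b)<|a (a 0<|a 0<|a 0<|a 0<|a 0<|a 1<|a 0<|a 0<|b)<|a (a 0<|a 0<|a 0<|a 0<|a 0<|a 0<|a 1<|a 0<|b)<|a (a 0<|a 0<|a 0<|a 0<|a 0<|a 0<|a 0<|a 1<|b)<|b)))<|b))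

private noncomputable def _root_.Cfsg.Agent.LsF.f471b37_16 : {f // @Cfsg.Agent.H682.KB.D10.cv = f} := ⟨_, by first | (delta Cfsg.Agent.H682.KB.D10.cv; rewrite [Cfsg.Agent.LsF.f471b37_0.2, Cfsg.Agent.LsF.ineg_pat]; exact rfl) | exact rfl⟩
theorem cv_ok : ChainOK Am cv :=
  H129.ChainF.ok H129.ChainF.i8 rfl rfl (by decide +kernel)

theorem comm : CommOK (hd cv) (hd cw) := by (refine of_decide_eq_true ?_; (try (delta Cfsg.Agent.H210.EL.CommOK Cfsg.Agent.H210.EL.instDecCommOK; rewrite [Cfsg.Agent.LsF.sumF_pat, Cfsg.Agent.LsF.f471b37_5.2, Cfsg.Agent.LsF.f471b37_16.2, Cfsg.Agent.LsF.f471b37_15.2, Cfsg.Agent.LsF.iadd_pat, Cfsg.Agent.LsF.imul_pat, Cfsg.Agent.LsF.iACM_eq, Cfsg.Agent.LsF.instIDecEq_eq, Cfsg.Agent.LsF.dForallFin_eq, Cfsg.Agent.LsF.decide_eq])); decide +kernel)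

/-- the eigenvector `b`, fixed by `v` -/
def B : List Q4 := (beta% delta% lq2623ca974a fun a b c _ _ _ _ =>
 (a (c (-1)<|c 1<|c (-1) 1)<|a (c 0<|c 0<|c 0 0)<|a (c 1<|c 0<|c 0 0)<|a (c (-1)<|c 0<|c 0 0)<|a (c 0<|c 0<|c 0 0)<|a (c 1<|c 0<|c 1 (-1))<|a (c 0<|c (-1)<|c 0 1)<|a (c 0<|c 1<|c (-1) 0)<|b))

/-- the eigenvector `a` -/
def A : List Q4 := (beta% delta% lq2623ca974a fun a b c _ _ _ _ =>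
 (a (c 1<|c 0<|c 0 0)<|a (c 1<|c (-1)<|c (-1) 1)<|a (c (-1)<|c 1<|c (-1) 1)<|a (c 0<|c (-1)<|c 2 (-1))<|a (c (-1)<|c 2<|c (-2) 0)<|a (c 1<|c (-1)<|c 1 0)<|a (c 0<|c 0<|c 0 0)<|a (c 0<|c (-1)<|c 1 (-1))<|b))

theorem eb : EigQ (-1, 1, -1, 1) (hd cw) (0, 1, 0, 0) B := by decide +kernel

theorem ea : EigQ (-1, 1, -1, 1) (hd cw) (0, 1, 0, 0) A := by decide +kernel

theorem evb : EigQ (-1, 1, -1, 1) (hd cv) (1, 0, 0, 0) B := by decide +kernel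

theorem eva : EigQ (-1, 1, -1, 1) (hd cv) (0, 0, 0, -1) A := by decide +kernel

theorem ib : ∃ i : Fin 8, B.getD i (0, 0, 0, 0) = (1, 0, 0, 0) := ⟨2, rfl⟩

theorem ia : ∃ i : Fin 8, A.getD i (0, 0, 0, 0) = (1, 0, 0, 0) := ⟨0, rfl⟩

theorem ps20 : (beta% delta% lq2623ca974a fun a b c d e _ g =>
 ps4 (c (-1)<|c 1<|c (-1) 1) (a d<|a e<|a d<|a e<|a e<|b) B g :
 Cfsg.Agent.H682.KB.Q4) = (2300100, 0, 0, 0) := by (refine of_decide_eq_true ?_; (try (rewrite [Cfsg.Agent.LsF.f471b37_14.2, Cfsg.Agent.LsF.ineg_pat, Cfsg.Agent.LsF.dProdEq_eq, Cfsg.Agent.LsF.instIDecEq_eq, Cfsg.Agent.LsF.decide_eq])); decide +kernel)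

theorem ct20 : (beta% delta% lq2623ca974a fun a b c d e _ g =>
 mul4 (c (-1)<|c 1<|c (-1) 1) (c 1<|c 0<|c 0 0) (ps4 (c (-1)<|c 1<|c (-1) 1) (a d<|a e<|a d<|a e<|a e<|b) B g) :
 Cfsg.Agent.H682.KB.Q4) = (2300100, 0, 0, 0) := by
  rw [ps20]
  decide +kernel

theorem ps30 : (beta% delta% lq2623ca974a fun a b c d e _ g =>
 ps4 (c (-1)<|c 1<|c (-1) 1) (a d<|a d<|a d<|a d<|a e<|b) B g :
 Cfsg.Agent.H682.KB.Q4) = (-1144893750, 0, 0, 0) := by (refine of_decide_eq_true ?_; (try (rewrite [Cfsg.Agent.LsF.f471b37_14.2, Cfsg.Agent.LsF.ineg_pat, Cfsg.Agent.LsF.dProdEq_eq, Cfsg.Agent.LsF.instIDecEq_eq, Cfsg.Agent.LsF.decide_eq])); decide +kernel)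

theorem ct30 : (beta% delta% lq2623ca974a fun a b c d e _ g =>
 mul4 (c (-1)<|c 1<|c (-1) 1) (c (-1)<|c 0<|c 0 0) (ps4 (c (-1)<|c 1<|c (-1) 1) (a d<|a d<|a d<|a d<|a e<|b) B g) :
 Cfsg.Agent.H682.KB.Q4) = (1144893750, 0, 0, 0) := by
  rw [ps30]
  decide +kernel

theorem ps50 : (beta% delta% lq2623ca974a fun a b c d e _ g =>
 ps4 (c (-1)<|c 1<|c (-1) 1) (a d<|a d<|a e<|a e<|a d<|a e<|b) B g :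
 Cfsg.Agent.H682.KB.Q4) = (-457212665937500, 0, 0, 0) := by (refine of_decide_eq_true ?_; (try (rewrite [Cfsg.Agent.LsF.f471b37_14.2, Cfsg.Agent.LsF.ineg_pat, Cfsg.Agent.LsF.dProdEq_eq, Cfsg.Agent.LsF.instIDecEq_eq, Cfsg.Agent.LsF.decide_eq])); decide +kernel)

theorem ct50 : (beta% delta% lq2623ca974a fun a b c d e _ g =>
 mul4 (c (-1)<|c 1<|c (-1) 1) (c (-1)<|c 0<|c 0 0) (ps4 (c (-1)<|c 1<|c (-1) 1) (a d<|a d<|a e<|a e<|a d<|a e<|b) B g) :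
 Cfsg.Agent.H682.KB.Q4) = (457212665937500, 0, 0, 0) := by
  rw [ps50]
  decide +kernel

end D10

namespace D8

/-- the element `w` -/
def cw : List (Fin 8 × Mat 8) := (beta% delta% lq2623ca974a fun a b c _ _ _ _ =>
 (a (c 1 (mt (a (a (-1)<|a (-1)<|a (-2)<|a (-3)<|a (-3)<|a (-2)<|a (-1)<|a (-1)<|b)<|a (a 0<|a 1<|a 0<|a 1<|a 1<|a 0<|a 0<|a 0<|b)<|a (a 0<|a (-1)<|a (-1)<|a (-1)<|a 0<|a 0<|a 0<|a 0<|b)<|a (a 0<|a 0<|a 1<|a 0<|a 0<|a 0<|a 0<|a 0<|b)<|a (a 0<|a 0<|a 0<|a 1<|a 0<|a 0<|a 0<|a 0<|b)<|a (a 1<|a 1<|a 1<|a 1<|a 1<|a 1<|a 1<|a 1<|b)<|a (a 0<|a 0<|a 0<|a 0<|a 0<|a 0<|a (-1)<|a (-1)<|b)<|a (a 0<|a 1<|a 1<|a 2<|a 2<|a 2<|a 2<|a 1<|b)<|b)))<|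
 a (c 3 (mt (a (a (-1)<|a (-2)<|a (-2)<|a (-3)<|a (-3)<|a (-2)<|a (-1)<|a (-1)<|b)<|a (a 0<|a 0<|a 0<|a 1<|a 1<|a 0<|a 0<|a 0<|b)<|a (a 0<|a 0<|a (-1)<|a (-1)<|a 0<|a 0<|a 0<|a 0<|b)<|a (a 0<|a 0<|a 1<|a 0<|a 0<|a 0<|a 0<|a 0<|b)<|a (a 0<|a 1<|a 0<|a 1<|a 0<|a 0<|a 0<|a 0<|b)<|a (a 1<|a 0<|a 1<|a 1<|a 1<|a 1<|a 1<|a 1<|b)<|a (a 0<|a 0<|a 0<|a 0<|a 0<|a 0<|a (-1)<|a (-1)<|b)<|a (a 0<|a 1<|a 1<|a 2<|a 2<|a 2<|a 2<|a 1<|b)<|b)))<|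
 a (c 2 (mt (a (a (-1)<|a (-2)<|a (-2)<|a (-4)<|a (-3)<|a (-2)<|a (-1)<|a (-1)<|b)<|a (a 0<|a 0<|a 0<|a 0<|a 1<|a 0<|a 0<|a 0<|b)<|a (a 0<|a 0<|a (-1)<|a 0<|a 0<|a 0<|a 0<|a 0<|b)<|a (a 0<|a 0<|a 1<|a 1<|a 0<|a 0<|a 0<|a 0<|b)<|a (a 0<|a 1<|a 0<|a 0<|a 0<|a 0<|a 0<|a 0<|b)<|a (a 1<|a 0<|a 1<|a 1<|a 1<|a 1<|a 1<|a 1<|b)<|a (a 0<|a 0<|a 0<|a 0<|a 0<|a 0<|a (-1)<|a (-1)<|b)<|a (a 0<|a 1<|a 1<|a 2<|a 2<|a 2<|a 2<|a 1<|b)<|b)))<|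
 a (c 5 (mt (a (a (-1)<|a (-2)<|a (-3)<|a (-4)<|a (-3)<|a (-2)<|a (-1)<|a (-1)<|b)<|a (a 0<|a 0<|a 0<|a 0<|a 1<|a 0<|a 0<|a 0<|b)<|a (a 0<|a 0<|a 1<|a 0<|a 0<|a 0<|a 0<|a 0<|b)<|a (a 0<|a 0<|a 0<|a 1<|a 0<|a 0<|a 0<|a 0<|b)<|a (a 0<|a 1<|a 0<|a 0<|a 0<|a 0<|a 0<|a 0<|b)<|a (a 1<|a 0<|a 1<|a 1<|a 1<|a 1<|a 1<|a 1<|b)<|a (a 0<|a 0<|a 0<|a 0<|a 0<|a 0<|a (-1)<|a (-1)<|b)<|a (a 0<|a 1<|a 1<|a 2<|a 2<|a 2<|a 2<|a 1<|b)<|b)))<|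
 a (c 4 (mt (a (a (-1)<|a (-2)<|a (-3)<|a (-4)<|a (-3)<|a (-2)<|a (-1)<|a (-1)<|b)<|a (a 0<|a 0<|a 0<|a 0<|a 1<|a 1<|a 0<|a 0<|b)<|a (a 0<|a 0<|a 1<|a 0<|a 0<|a 0<|a 0<|a 0<|b)<|a (a 0<|a 0<|a 0<|a 1<|a 0<|a 0<|a 0<|a 0<|b)<|a (a 0<|a 1<|a 0<|a 0<|a 0<|a 0<|a 0<|a 0<|b)<|a (a 1<|a 0<|a 1<|a 1<|a 1<|a 1<|a 1<|a 1<|b)<|a (a 0<|a 0<|a 0<|a 0<|a 0<|a (-1)<|a (-1)<|a (-1)<|b)<|a (a 0<|a 1<|a 1<|a 2<|a 2<|a 2<|a 2<|a 1<|b)<|b)))<|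
 a (c 3 (mt (a (a (-1)<|a (-2)<|a (-3)<|a (-4)<|a (-3)<|a (-2)<|a (-1)<|a (-1)<|b)<|a (a 0<|a 0<|a 0<|a 0<|a 0<|a 1<|a 0<|a 0<|b)<|a (a 0<|a 0<|a 1<|a 0<|a 0<|a 0<|a 0<|a 0<|b)<|a (a 0<|a 0<|a 0<|a 1<|a 1<|a 0<|a 0<|a 0<|b)<|a (a 0<|a 1<|a 0<|a 0<|a 0<|a 0<|a 0<|a 0<|b)<|a (a 1<|a 0<|a 1<|a 1<|a 1<|a 1<|a 1<|a 1<|b)<|a (a 0<|a 0<|a 0<|a 0<|a (-1)<|a (-1)<|a (-1)<|a (-1)<|b)<|a (a 0<|a 1<|a 1<|a 2<|a 2<|a 2<|a 2<|a 1<|b)<|b)))<|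
 a (c 1 (mt (a (a (-1)<|a (-2)<|a (-3)<|a (-4)<|a (-3)<|a (-2)<|a (-1)<|a (-1)<|b)<|a (a 0<|a 0<|a 0<|a 0<|a 0<|a 1<|a 0<|a 0<|b)<|a (a 0<|a 0<|a 1<|a 1<|a 0<|a 0<|a 0<|a 0<|b)<|a (a 0<|a 0<|a 0<|a 0<|a 1<|a 0<|a 0<|a 0<|b)<|a (a 0<|a 1<|a 0<|a 1<|a 0<|a 0<|a 0<|a 0<|b)<|a (a 1<|a 0<|a 1<|a 1<|a 1<|a 1<|a 1<|a 1<|b)<|a (a 0<|a 0<|a 0<|a (-1)<|a (-1)<|a (-1)<|a (-1)<|a (-1)<|b)<|a (a 0<|a 1<|a 1<|a 2<|a 2<|a 2<|a 2<|a 1<|b)<|b)))<|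
 a (c 2 (mt (a (a (-1)<|a (-2)<|a (-3)<|a (-4)<|a (-3)<|a (-2)<|a (-1)<|a (-1)<|b)<|a (a 0<|a 0<|a 0<|a 0<|a 0<|a 1<|a 0<|a 0<|b)<|a (a 0<|a 1<|a 1<|a 1<|a 0<|a 0<|a 0<|a 0<|b)<|a (a 0<|a 0<|a 0<|a 0<|a 1<|a 0<|a 0<|a 0<|b)<|a (a 0<|a 0<|a 0<|a 1<|a 0<|a 0<|a 0<|a 0<|b)<|a (a 1<|a 1<|a 1<|a 1<|a 1<|a 1<|a 1<|a 1<|b)<|a (a 0<|a (-1)<|a 0<|a (-1)<|a (-1)<|a (-1)<|a (-1)<|a (-1)<|b)<|a (a 0<|a 1<|a 1<|a 2<|a 2<|a 2<|a 2<|a 1<|b)<|b)))<|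
 a (c 3 (mt (a (a (-1)<|a (-2)<|a (-2)<|a (-4)<|a (-3)<|a (-2)<|a (-1)<|a (-1)<|b)<|a (a 0<|a 0<|a 0<|a 0<|a 0<|a 1<|a 0<|a 0<|b)<|a (a 0<|a 1<|a 0<|a 1<|a 0<|a 0<|a 0<|a 0<|b)<|a (a 0<|a 0<|a 0<|a 0<|a 1<|a 0<|a 0<|a 0<|b)<|a (a 0<|a 0<|a 1<|a 1<|a 0<|a 0<|a 0<|a 0<|b)<|a (a 1<|a 1<|a 1<|a 1<|a 1<|a 1<|a 1<|a 1<|b)<|a (a 0<|a (-1)<|a (-1)<|a (-1)<|a (-1)<|a (-1)<|a (-1)<|a (-1)<|b)<|a (a 0<|a 1<|a 1<|a 2<|a 2<|a 2<|a 2<|a 1<|b)<|b)))<|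
 a (c 4 (mt (a (a (-1)<|a (-2)<|a (-2)<|a (-3)<|a (-3)<|a (-2)<|a (-1)<|a (-1)<|b)<|a (a 0<|a 0<|a 0<|a 0<|a 0<|a 1<|a 0<|a 0<|b)<|a (a 0<|a 1<|a 0<|a 0<|a 0<|a 0<|a 0<|a 0<|b)<|a (a 0<|a 0<|a 0<|a 1<|a 1<|a 0<|a 0<|a 0<|b)<|a (a 0<|a 0<|a 1<|a 0<|a 0<|a 0<|a 0<|a 0<|b)<|a (a 1<|a 1<|a 1<|a 2<|a 1<|a 1<|a 1<|a 1<|b)<|a (a 0<|a (-1)<|a (-1)<|a (-2)<|a (-1)<|a (-1)<|a (-1)<|a (-1)<|b)<|a (a 0<|a 1<|a 1<|a 2<|a 2<|a 2<|a 2<|a 1<|b)<|b)))<|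
 a (c 5 (mt (a (a (-1)<|a (-2)<|a (-2)<|a (-3)<|a (-2)<|a (-2)<|a (-1)<|a (-1)<|b)<|a (a 0<|a 0<|a 0<|a 0<|a 1<|a 1<|a 0<|a 0<|b)<|a (a 0<|a 1<|a 0<|a 0<|a 0<|a 0<|a 0<|a 0<|b)<|a (a 0<|a 0<|a 0<|a 1<|a 0<|a 0<|a 0<|a 0<|b)<|a (a 0<|a 0<|a 1<|a 0<|a 0<|a 0<|a 0<|a 0<|b)<|a (a 1<|a 1<|a 1<|a 2<|a 2<|a 1<|a 1<|a 1<|b)<|a (a 0<|a (-1)<|a (-1)<|a (-2)<|a (-2)<|a (-1)<|a (-1)<|a (-1)<|b)<|a (a 0<|a 1<|a 1<|a 2<|a 2<|a 2<|a 2<|a 1<|b)<|b)))<|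
 a (c 7 (mt (a (a (-1)<|a (-2)<|a (-2)<|a (-3)<|a (-2)<|a (-1)<|a (-1)<|a (-1)<|b)<|a (a 0<|a 0<|a 0<|a 0<|a 1<|a 0<|a 0<|a 0<|b)<|a (a 0<|a 1<|a 0<|a 0<|a 0<|a 0<|a 0<|a 0<|b)<|a (a 0<|a 0<|a 0<|a 1<|a 0<|a 0<|a 0<|a 0<|b)<|a (a 0<|a 0<|a 1<|a 0<|a 0<|a 0<|a 0<|a 0<|b)<|a (a 1<|a 1<|a 1<|a 2<|a 2<|a 2<|a 1<|a 1<|b)<|a (a 0<|a (-1)<|a (-1)<|a (-2)<|a (-2)<|a (-2)<|a (-1)<|a (-1)<|b)<|a (a 0<|a 1<|a 1<|a 2<|a 2<|a 2<|a 2<|a 1<|b)<|b)))<|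
 a (c 6 (mt (a (a (-1)<|a (-2)<|a (-2)<|a (-3)<|a (-2)<|a (-1)<|a (-1)<|a 0<|b)<|a (a 0<|a 0<|a 0<|a 0<|a 1<|a 0<|a 0<|a 0<|b)<|a (a 0<|a 1<|a 0<|a 0<|a 0<|a 0<|a 0<|a 0<|b)<|a (a 0<|a 0<|a 0<|a 1<|a 0<|a 0<|a 0<|a 0<|b)<|a (a 0<|a 0<|a 1<|a 0<|a 0<|a 0<|a 0<|a 0<|b)<|a (a 1<|a 1<|a 1<|a 2<|a 2<|a 2<|a 1<|a 0<|b)<|a (a 0<|a (-1)<|a (-1)<|a (-2)<|a (-2)<|a (-2)<|a (-1)<|a 0<|b)<|a (a 0<|a 1<|a 1<|a 2<|a 2<|a 2<|a 2<|a 1<|b)<|b)))<|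
 a (c 5 (mt (a (a (-1)<|a (-2)<|a (-2)<|a (-3)<|a (-2)<|a (-1)<|a 0<|a 0<|b)<|a (a 0<|a 0<|a 0<|a 0<|a 1<|a 0<|a 0<|a 0<|b)<|a (a 0<|a 1<|a 0<|a 0<|a 0<|a 0<|a 0<|a 0<|b)<|a (a 0<|a 0<|a 0<|a 1<|a 0<|a 0<|a 0<|a 0<|b)<|a (a 0<|a 0<|a 1<|a 0<|a 0<|a 0<|a 0<|a 0<|b)<|a (a 1<|a 1<|a 1<|a 2<|a 2<|a 2<|a 1<|a 0<|b)<|a (a 0<|a (-1)<|a (-1)<|a (-2)<|a (-2)<|a (-2)<|a (-1)<|a 0<|b)<|a (a 0<|a 1<|a 1<|a 2<|a 2<|a 2<|a 1<|a 1<|b)<|b)))<|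
 a (c 4 (mt (a (a (-1)<|a (-2)<|a (-2)<|a (-3)<|a (-2)<|a (-1)<|a 0<|a 0<|b)<|a (a 0<|a 0<|a 0<|a 0<|a 1<|a 1<|a 0<|a 0<|b)<|a (a 0<|a 1<|a 0<|a 0<|a 0<|a 0<|a 0<|a 0<|b)<|a (a 0<|a 0<|a 0<|a 1<|a 0<|a 0<|a 0<|a 0<|b)<|a (a 0<|a 0<|a 1<|a 0<|a 0<|a 0<|a 0<|a 0<|b)<|a (a 1<|a 1<|a 1<|a 2<|a 2<|a 1<|a 1<|a 0<|b)<|a (a 0<|a (-1)<|a (-1)<|a (-2)<|a (-2)<|a (-1)<|a (-1)<|a 0<|b)<|a (a 0<|a 1<|a 1<|a 2<|a 2<|a 1<|a 1<|a 1<|b)<|b)))<|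
 a (c 3 (mt (a (a (-1)<|a (-2)<|a (-2)<|a (-3)<|a (-2)<|a (-1)<|a 0<|a 0<|b)<|a (a 0<|a 0<|a 0<|a 0<|a 0<|a 1<|a 0<|a 0<|b)<|a (a 0<|a 1<|a 0<|a 0<|a 0<|a 0<|a 0<|a 0<|b)<|a (a 0<|a 0<|a 0<|a 1<|a 1<|a 0<|a 0<|a 0<|b)<|a (a 0<|a 0<|a 1<|a 0<|a 0<|a 0<|a 0<|a 0<|b)<|a (a 1<|a 1<|a 1<|a 2<|a 1<|a 1<|a 1<|a 0<|b)<|a (a 0<|a (-1)<|a (-1)<|a (-2)<|a (-1)<|a (-1)<|a (-1)<|a 0<|b)<|a (a 0<|a 1<|a 1<|a 2<|a 1<|a 1<|a 1<|a 1<|b)<|b)))<|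
 a (c 1 (mt (a (a (-1)<|a (-2)<|a (-2)<|a (-3)<|a (-2)<|a (-1)<|a 0<|a 0<|b)<|a (a 0<|a 0<|a 0<|a 0<|a 0<|a 1<|a 0<|a 0<|b)<|a (a 0<|a 1<|a 0<|a 1<|a 0<|a 0<|a 0<|a 0<|b)<|a (a 0<|a 0<|a 0<|a 0<|a 1<|a 0<|a 0<|a 0<|b)<|a (a 0<|a 0<|a 1<|a 1<|a 0<|a 0<|a 0<|a 0<|b)<|a (a 1<|a 1<|a 1<|a 1<|a 1<|a 1<|a 1<|a 0<|b)<|a (a 0<|a (-1)<|a (-1)<|a (-1)<|a (-1)<|a (-1)<|a (-1)<|a 0<|b)<|a (a 0<|a 1<|a 1<|a 1<|a 1<|a 1<|a 1<|a 1<|b)<|b)))<|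
 a (c 2 (mt (a (a (-1)<|a (-1)<|a (-2)<|a (-3)<|a (-2)<|a (-1)<|a 0<|a 0<|b)<|a (a 0<|a 0<|a 0<|a 0<|a 0<|a 1<|a 0<|a 0<|b)<|a (a 0<|a 0<|a 0<|a 1<|a 0<|a 0<|a 0<|a 0<|b)<|a (a 0<|a 0<|a 0<|a 0<|a 1<|a 0<|a 0<|a 0<|b)<|a (a 0<|a 1<|a 1<|a 1<|a 0<|a 0<|a 0<|a 0<|b)<|a (a 1<|a 0<|a 1<|a 1<|a 1<|a 1<|a 1<|a 0<|b)<|a (a 0<|a 0<|a (-1)<|a (-1)<|a (-1)<|a (-1)<|a (-1)<|a 0<|b)<|a (a 0<|a 0<|a 1<|a 1<|a 1<|a 1<|a 1<|a 1<|b)<|b)))<|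
 a (c 0 (mt (a (a (-1)<|a (-1)<|a (-2)<|a (-3)<|a (-2)<|a (-1)<|a 0<|a 0<|b)<|a (a 0<|a 0<|a 0<|a 0<|a 0<|a 1<|a 0<|a 0<|b)<|a (a 0<|a 0<|a 1<|a 1<|a 0<|a 0<|a 0<|a 0<|b)<|a (a 0<|a 0<|a 0<|a 0<|a 1<|a 0<|a 0<|a 0<|b)<|a (a 0<|a 1<|a 0<|a 1<|a 0<|a 0<|a 0<|a 0<|b)<|a (a 1<|a 0<|a 1<|a 1<|a 1<|a 1<|a 1<|a 0<|b)<|a (a 0<|a 0<|a 0<|a (-1)<|a (-1)<|a (-1)<|a (-1)<|a 0<|b)<|a (a 0<|a 0<|a 0<|a 1<|a 1<|a 1<|a 1<|a 1<|b)<|b)))<|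
 a (c 3 (mt (a (a (-1)<|a (-1)<|a (-2)<|a (-3)<|a (-2)<|a (-1)<|a 0<|a 0<|b)<|a (a 0<|a 0<|a 0<|a 0<|a 0<|a 1<|a 0<|a 0<|b)<|a (a 1<|a 0<|a 1<|a 1<|a 0<|a 0<|a 0<|a 0<|b)<|a (a 0<|a 0<|a 0<|a 0<|a 1<|a 0<|a 0<|a 0<|b)<|a (a 0<|a 1<|a 0<|a 1<|a 0<|a 0<|a 0<|a 0<|b)<|a (a 0<|a 0<|a 1<|a 1<|a 1<|a 1<|a 1<|a 0<|b)<|a (a 0<|a 0<|a 0<|a (-1)<|a (-1)<|a (-1)<|a (-1)<|a 0<|b)<|a (a 0<|a 0<|a 0<|a 1<|a 1<|a 1<|a 1<|a 1<|b)<|b)))<|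
 a (c 2 (mt (a (a (-1)<|a (-1)<|a (-2)<|a (-2)<|a (-2)<|a (-1)<|a 0<|a 0<|b)<|a (a 0<|a 0<|a 0<|a 0<|a 0<|a 1<|a 0<|a 0<|b)<|a (a 1<|a 0<|a 1<|a 0<|a 0<|a 0<|a 0<|a 0<|b)<|a (a 0<|a 0<|a 0<|a 1<|a 1<|a 0<|a 0<|a 0<|b)<|a (a 0<|a 1<|a 0<|a 0<|a 0<|a 0<|a 0<|a 0<|b)<|a (a 0<|a 0<|a 1<|a 1<|a 1<|a 1<|a 1<|a 0<|b)<|a (a 0<|a 0<|a 0<|a 0<|a (-1)<|a (-1)<|a (-1)<|a 0<|b)<|a (a 0<|a 0<|a 0<|a 0<|a 1<|a 1<|a 1<|a 1<|b)<|b)))<|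
 a (c 4 (mt (a (a (-1)<|a (-1)<|a (-1)<|a (-2)<|a (-2)<|a (-1)<|a 0<|a 0<|b)<|a (a 0<|a 0<|a 0<|a 0<|a 0<|a 1<|a 0<|a 0<|b)<|a (a 1<|a 0<|a 0<|a 0<|a 0<|a 0<|a 0<|a 0<|b)<|a (a 0<|a 0<|a 1<|a 1<|a 1<|a 0<|a 0<|a 0<|b)<|a (a 0<|a 1<|a 0<|a 0<|a 0<|a 0<|a 0<|a 0<|b)<|a (a 0<|a 0<|a 0<|a 1<|a 1<|a 1<|a 1<|a 0<|b)<|a (a 0<|a 0<|a 0<|a 0<|a (-1)<|a (-1)<|a (-1)<|a 0<|b)<|a (a 0<|a 0<|a 0<|a 0<|a 1<|a 1<|a 1<|a 1<|b)<|b)))<|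
 a (c 3 (mt (a (a (-1)<|a (-1)<|a (-1)<|a (-2)<|a (-1)<|a (-1)<|a 0<|a 0<|b)<|a (a 0<|a 0<|a 0<|a 0<|a 1<|a 1<|a 0<|a 0<|b)<|a (a 1<|a 0<|a 0<|a 0<|a 0<|a 0<|a 0<|a 0<|b)<|a (a 0<|a 0<|a 1<|a 1<|a 0<|a 0<|a 0<|a 0<|b)<|a (a 0<|a 1<|a 0<|a 0<|a 0<|a 0<|a 0<|a 0<|b)<|a (a 0<|a 0<|a 0<|a 1<|a 1<|a 1<|a 1<|a 0<|b)<|a (a 0<|a 0<|a 0<|a 0<|a 0<|a (-1)<|a (-1)<|a 0<|b)<|a (a 0<|a 0<|a 0<|a 0<|a 0<|a 1<|a 1<|a 1<|b)<|b)))<|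
 a (c 1 (mt (a (a (-1)<|a (-1)<|a (-1)<|a (-1)<|a (-1)<|a (-1)<|a 0<|a 0<|b)<|a (a 0<|a 0<|a 0<|a 1<|a 1<|a 1<|a 0<|a 0<|b)<|a (a 1<|a 0<|a 0<|a 0<|a 0<|a 0<|a 0<|a 0<|b)<|a (a 0<|a 0<|a 1<|a 0<|a 0<|a 0<|a 0<|a 0<|b)<|a (a 0<|a 1<|a 0<|a 1<|a 0<|a 0<|a 0<|a 0<|b)<|a (a 0<|a 0<|a 0<|a 0<|a 1<|a 1<|a 1<|a 0<|b)<|a (a 0<|a 0<|a 0<|a 0<|a 0<|a (-1)<|a (-1)<|a 0<|b)<|a (a 0<|a 0<|a 0<|a 0<|a 0<|a 1<|a 1<|a 1<|b)<|b)))<|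
 a (c 5 (mt (a (a (-1)<|a 0<|a (-1)<|a (-1)<|a (-1)<|a (-1)<|a 0<|a 0<|b)<|a (a 0<|a 1<|a 0<|a 1<|a 1<|a 1<|a 0<|a 0<|b)<|a (a 1<|a 0<|a 0<|a 0<|a 0<|a 0<|a 0<|a 0<|b)<|a (a 0<|a 0<|a 1<|a 0<|a 0<|a 0<|a 0<|a 0<|b)<|a (a 0<|a 0<|a 0<|a 1<|a 0<|a 0<|a 0<|a 0<|b)<|a (a 0<|a 0<|a 0<|a 0<|a 1<|a 1<|a 1<|a 0<|b)<|a (a 0<|a 0<|a 0<|a 0<|a 0<|a (-1)<|a (-1)<|a 0<|b)<|a (a 0<|a 0<|a 0<|a 0<|a 0<|a 1<|a 1<|a 1<|b)<|b)))<|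
 a (c 4 (mt (a (a (-1)<|a 0<|a (-1)<|a (-1)<|a (-1)<|a 0<|a 0<|a 0<|b)<|a (a 0<|a 1<|a 0<|a 1<|a 1<|a 0<|a 0<|a 0<|b)<|a (a 1<|a 0<|a 0<|a 0<|a 0<|a 0<|a 0<|a 0<|b)<|a (a 0<|a 0<|a 1<|a 0<|a 0<|a 0<|a 0<|a 0<|b)<|a (a 0<|a 0<|a 0<|a 1<|a 0<|a 0<|a 0<|a 0<|b)<|a (a 0<|a 0<|a 0<|a 0<|a 1<|a 1<|a 1<|a 0<|b)<|a (a 0<|a 0<|a 0<|a 0<|a 0<|a 0<|a (-1)<|a 0<|b)<|a (a 0<|a 0<|a 0<|a 0<|a 0<|a 0<|a 1<|a 1<|b)<|b)))<|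
 a (c 3 (mt (a (a (-1)<|a 0<|a (-1)<|a (-1)<|a 0<|a 0<|a 0<|a 0<|b)<|a (a 0<|a 1<|a 0<|a 1<|a 0<|a 0<|a 0<|a 0<|b)<|a (a 1<|a 0<|a 0<|a 0<|a 0<|a 0<|a 0<|a 0<|b)<|a (a 0<|a 0<|a 1<|a 0<|a 0<|a 0<|a 0<|a 0<|b)<|a (a 0<|a 0<|a 0<|a 1<|a 1<|a 0<|a 0<|a 0<|b)<|a (a 0<|a 0<|a 0<|a 0<|a 0<|a 1<|a 1<|a 0<|b)<|a (a 0<|a 0<|a 0<|a 0<|a 0<|a 0<|a (-1)<|a 0<|b)<|a (a 0<|a 0<|a 0<|a 0<|a 0<|a 0<|a 1<|a 1<|b)<|b)))<|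
 a (c 2 (mt (a (a (-1)<|a 0<|a (-1)<|a 0<|a 0<|a 0<|a 0<|a 0<|b)<|a (a 0<|a 1<|a 0<|a 0<|a 0<|a 0<|a 0<|a 0<|b)<|a (a 1<|a 0<|a 0<|a 0<|a 0<|a 0<|a 0<|a 0<|b)<|a (a 0<|a 0<|a 1<|a 1<|a 0<|a 0<|a 0<|a 0<|b)<|a (a 0<|a 0<|a 0<|a 0<|a 1<|a 0<|a 0<|a 0<|b)<|a (a 0<|a 0<|a 0<|a 0<|a 0<|a 1<|a 1<|a 0<|b)<|a (a 0<|a 0<|a 0<|a 0<|a 0<|a 0<|a (-1)<|a 0<|b)<|a (a 0<|a 0<|a 0<|a 0<|a 0<|a 0<|a 1<|a 1<|b)<|b)))<|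
 a (c 0 (mt (a (a (-1)<|a 0<|a 0<|a 0<|a 0<|a 0<|a 0<|a 0<|b)<|a (a 0<|a 1<|a 0<|a 0<|a 0<|a 0<|a 0<|a 0<|b)<|a (a 1<|a 0<|a 1<|a 0<|a 0<|a 0<|a 0<|a 0<|b)<|a (a 0<|a 0<|a 0<|a 1<|a 0<|a 0<|a 0<|a 0<|b)<|a (a 0<|a 0<|a 0<|a 0<|a 1<|a 0<|a 0<|a 0<|b)<|a (a 0<|a 0<|a 0<|a 0<|a 0<|a 1<|a 1<|a 0<|b)<|a (a 0<|a 0<|a 0<|a 0<|a 0<|a 0<|a (-1)<|a 0<|b)<|a (a 0<|a 0<|a 0<|a 0<|a 0<|a 0<|a 1<|a 1<|b)<|b)))<|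
 a (c 6 (mt (a (a 1<|a 0<|a 0<|a 0<|a 0<|a 0<|a 0<|a 0<|b)<|a (a 0<|a 1<|a 0<|a 0<|a 0<|a 0<|a 0<|a 0<|b)<|a (a 0<|a 0<|a 1<|a 0<|a 0<|a 0<|a 0<|a 0<|b)<|a (a 0<|a 0<|a 0<|a 1<|a 0<|a 0<|a 0<|a 0<|b)<|a (a 0<|a 0<|a 0<|a 0<|a 1<|a 0<|a 0<|a 0<|b)<|a (a 0<|a 0<|a 0<|a 0<|a 0<|a 1<|a 1<|a 0<|b)<|a (a 0<|a 0<|a 0<|a 0<|a 0<|a 0<|a (-1)<|a 0<|b)<|a (a 0<|a 0<|a 0<|a 0<|a 0<|a 0<|a 1<|a 1<|b)<|b)))<|b))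

private noncomputable def _root_.Cfsg.Agent.LsF.f471b37_17 : {f // @Cfsg.Agent.H682.KB.D8.cw = f} := ⟨_, by first | (delta Cfsg.Agent.H682.KB.D8.cw; rewrite [Cfsg.Agent.LsF.f471b37_0.2, Cfsg.Agent.LsF.ineg_pat]; exact rfl) | exact rfl⟩
theorem cw_ok : ChainOK Am cw :=
  H129.ChainF.ok H129.ChainF.i8 rfl rfl (by decide +kernel)

/-- the reflection `v` -/
def cv : List (Fin 8 × Mat 8) := (beta% delta% lq2623ca974a fun a b c _ _ _ _ =>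
 (a (c 2 (mt (a (a 1<|a 0<|a 1<|a 1<|a 0<|a 0<|a 0<|a 0<|b)<|a (a 0<|a (-1)<|a (-1)<|a (-2)<|a (-1)<|a 0<|a 0<|a 0<|b)<|a (a 0<|a 0<|a 0<|a 0<|a 1<|a 0<|a 0<|a 0<|b)<|a (a 0<|a 1<|a 1<|a 1<|a 0<|a 0<|a 0<|a 0<|b)<|a (a 0<|a 0<|a (-1)<|a 0<|a 0<|a 0<|a 0<|a 0<|b)<|a (a 0<|a 0<|a 1<|a 1<|a 1<|a 1<|a 0<|a 0<|b)<|a (a 0<|a 0<|a 0<|a 0<|a 0<|a 0<|a 1<|a 0<|b)<|a (a 0<|a 0<|a 0<|a 0<|a 0<|a 0<|a 0<|a 1<|b)<|b)))<|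
 a (c 3 (mt (a (a 1<|a 0<|a 1<|a 1<|a 0<|a 0<|a 0<|a 0<|b)<|a (a 0<|a (-1)<|a (-1)<|a (-2)<|a (-1)<|a 0<|a 0<|a 0<|b)<|a (a 0<|a 0<|a 0<|a 0<|a 1<|a 0<|a 0<|a 0<|b)<|a (a 0<|a 1<|a 0<|a 1<|a 0<|a 0<|a 0<|a 0<|b)<|a (a 0<|a 0<|a 1<|a 0<|a 0<|a 0<|a 0<|a 0<|b)<|a (a 0<|a 0<|a 0<|a 1<|a 1<|a 1<|a 0<|a 0<|b)<|a (a 0<|a 0<|a 0<|a 0<|a 0<|a 0<|a 1<|a 0<|b)<|a (a 0<|a 0<|a 0<|a 0<|a 0<|a 0<|a 0<|a 1<|b)<|b)))<|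
 a (c 2 (mt (a (a 1<|a 0<|a 1<|a 0<|a 0<|a 0<|a 0<|a 0<|b)<|a (a 0<|a (-1)<|a (-1)<|a (-1)<|a (-1)<|a 0<|a 0<|a 0<|b)<|a (a 0<|a 0<|a 0<|a 1<|a 1<|a 0<|a 0<|a 0<|b)<|a (a 0<|a 1<|a 0<|a 0<|a 0<|a 0<|a 0<|a 0<|b)<|a (a 0<|a 0<|a 1<|a 1<|a 0<|a 0<|a 0<|a 0<|b)<|a (a 0<|a 0<|a 0<|a 0<|a 1<|a 1<|a 0<|a 0<|b)<|a (a 0<|a 0<|a 0<|a 0<|a 0<|a 0<|a 1<|a 0<|b)<|a (a 0<|a 0<|a 0<|a 0<|a 0<|a 0<|a 0<|a 1<|b)<|b)))<|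
 a (c 4 (mt (a (a 1<|a 0<|a 0<|a 0<|a 0<|a 0<|a 0<|a 0<|b)<|a (a 0<|a (-1)<|a 0<|a (-1)<|a (-1)<|a 0<|a 0<|a 0<|b)<|a (a 0<|a 0<|a 1<|a 1<|a 1<|a 0<|a 0<|a 0<|b)<|a (a 0<|a 1<|a 0<|a 0<|a 0<|a 0<|a 0<|a 0<|b)<|a (a 0<|a 0<|a 0<|a 1<|a 0<|a 0<|a 0<|a 0<|b)<|a (a 0<|a 0<|a 0<|a 0<|a 1<|a 1<|a 0<|a 0<|b)<|a (a 0<|a 0<|a 0<|a 0<|a 0<|a 0<|a 1<|a 0<|b)<|a (a 0<|a 0<|a 0<|a 0<|a 0<|a 0<|a 0<|a 1<|b)<|b)))<|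
 a (c 3 (mt (a (a 1<|a 0<|a 0<|a 0<|a 0<|a 0<|a 0<|a 0<|b)<|a (a 0<|a (-1)<|a 0<|a (-1)<|a 0<|a 0<|a 0<|a 0<|b)<|a (a 0<|a 0<|a 1<|a 1<|a 0<|a 0<|a 0<|a 0<|b)<|a (a 0<|a 1<|a 0<|a 0<|a 0<|a 0<|a 0<|a 0<|b)<|a (a 0<|a 0<|a 0<|a 1<|a 1<|a 0<|a 0<|a 0<|b)<|a (a 0<|a 0<|a 0<|a 0<|a 0<|a 1<|a 0<|a 0<|b)<|a (a 0<|a 0<|a 0<|a 0<|a 0<|a 0<|a 1<|a 0<|b)<|a (a 0<|a 0<|a 0<|a 0<|a 0<|a 0<|a 0<|a 1<|b)<|b)))<|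
 a (c 1 (mt (a (a 1<|a 0<|a 0<|a 0<|a 0<|a 0<|a 0<|a 0<|b)<|a (a 0<|a (-1)<|a 0<|a 0<|a 0<|a 0<|a 0<|a 0<|b)<|a (a 0<|a 0<|a 1<|a 0<|a 0<|a 0<|a 0<|a 0<|b)<|a (a 0<|a 1<|a 0<|a 1<|a 0<|a 0<|a 0<|a 0<|b)<|a (a 0<|a 0<|a 0<|a 0<|a 1<|a 0<|a 0<|a 0<|b)<|a (a 0<|a 0<|a 0<|a 0<|a 0<|a 1<|a 0<|a 0<|b)<|a (a 0<|a 0<|a 0<|a 0<|a 0<|a 0<|a 1<|a 0<|b)<|a (a 0<|a 0<|a 0<|a 0<|a 0<|a 0<|a 0<|a 1<|b)<|b)))<|b))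

theorem cv_ok : ChainOK Am cv :=
  H129.ChainF.ok H129.ChainF.i8 rfl rfl (by decide +kernel)

private noncomputable def _root_.Cfsg.Agent.LsF.f471b37_18 : {f // @Cfsg.Agent.H682.KB.D8.cv = f} := ⟨_, by first | (delta Cfsg.Agent.H682.KB.D8.cv; rewrite [Cfsg.Agent.LsF.f471b37_0.2, Cfsg.Agent.LsF.ineg_pat]; exact rfl) | exact rfl⟩
theorem comm : CommOK (hd cv) (hd cw) := by (refine of_decide_eq_true ?_; (try (delta Cfsg.Agent.H210.EL.CommOK Cfsg.Agent.H210.EL.instDecCommOK; rewrite [Cfsg.Agent.LsF.sumF_pat, Cfsg.Agent.LsF.f471b37_5.2, Cfsg.Agent.LsF.f471b37_18.2, Cfsg.Agent.LsF.f471b37_17.2, Cfsg.Agent.LsF.iadd_pat, Cfsg.Agent.LsF.imul_pat, Cfsg.Agent.LsF.iACM_eq, Cfsg.Agent.LsF.instIDecEq_eq, Cfsg.Agent.LsF.dForallFin_eq, Cfsg.Agent.LsF.decide_eq])); decide +kernel)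

/-- the eigenvector `b`, fixed by `v` -/
def B : List Q4 := (beta% delta% lq2623ca974a fun a b c _ _ _ _ =>
 (a (c (-1)<|c 0<|c 0 1)<|a (c 0<|c 0<|c 0 0)<|a (c 0<|c 0<|c 0 0)<|a (c 0<|c 0<|c 0 0)<|a (c 0<|c 0<|c 0 0)<|a (c 1<|c 0<|c 0 0)<|a (c (-1)<|c 0<|c 1 0)<|a (c 1<|c 1<|c (-1) (-1))<|b))

/-- the eigenvector `a` -/
def A : List Q4 := (beta% delta% lq2623ca974a fun a b c _ _ _ _ =>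
 (a (c 0<|c 0<|c 1 (-1))<|a (c 0<|c 1<|c 0 1)<|a (c 0<|c 1<|c (-2) 1)<|a (c 1<|c (-2)<|c 1 0)<|a (c (-2)<|c 1<|c 0 (-1))<|a (c 1<|c 0<|c 0 0)<|a (c 0<|c 0<|c 0 0)<|a (c 0<|c 0<|c 0 0)<|b))

theorem eb : EigQ (-1, 0, 0, 0) (hd cw) (0, 1, 0, 0) B := by decide +kernel

theorem ea : EigQ (-1, 0, 0, 0) (hd cw) (0, 1, 0, 0) A := by decide +kernel

theorem evb : EigQ (-1, 0, 0, 0) (hd cv) (1, 0, 0, 0) B := by decide +kernel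

theorem eva : EigQ (-1, 0, 0, 0) (hd cv) (0, 0, -1, 0) A := by decide +kernel

theorem ib : ∃ i : Fin 8, B.getD i (0, 0, 0, 0) = (1, 0, 0, 0) := ⟨5, rfl⟩

theorem ia : ∃ i : Fin 8, A.getD i (0, 0, 0, 0) = (1, 0, 0, 0) := ⟨5, rfl⟩

theorem ps8 : ps4 (-1, 0, 0, 0) [true, false, false, false] B R8 = (48960, 34560, 0, -34560) := by (refine of_decide_eq_true ?_; (try (rewrite [Cfsg.Agent.LsF.f471b37_14.2, Cfsg.Agent.LsF.ineg_pat, Cfsg.Agent.LsF.dProdEq_eq, Cfsg.Agent.LsF.instIDecEq_eq, Cfsg.Agent.LsF.decide_eq])); decide +kernel)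

theorem ct8 : (beta% delta% lq2623ca974a fun a b c d e _ g =>
 mul4 (c (-1)<|c 0<|c 0 0) (c 17<|c (-12)<|c 0 12) (ps4 (c (-1)<|c 0<|c 0 0) (a d<|a e<|a e<|a e<|b) B g) :
 Cfsg.Agent.H682.KB.Q4) = (2880, 0, 0, 0) := by
  rw [ps8]
  decide +kernel

end D8

namespace D12

/-- the element `w` -/
def cw : List (Fin 8 × Mat 8) := (beta% delta% lq2623ca974a fun a b c _ _ _ _ =>
 (a (c 2 (mt (a (a 0<|a (-1)<|a (-1)<|a (-1)<|a 0<|a 0<|a 0<|a 0<|b)<|a (a 0<|a 0<|a 1<|a 1<|a 1<|a 1<|a 1<|a 0<|b)<|a (a 1<|a 2<|a 2<|a 3<|a 2<|a 2<|a 1<|a 0<|b)<|a (a (-1)<|a (-1)<|a (-2)<|a (-3)<|a (-2)<|a (-2)<|a (-1)<|a 0<|b)<|a (a 0<|a 0<|a 0<|a 1<|a 0<|a 0<|a 0<|a 0<|b)<|a (a 1<|a 1<|a 2<|a 2<|a 2<|a 2<|a 1<|a 1<|b)<|a (a 0<|a (-1)<|a (-1)<|a (-2)<|a (-2)<|a (-2)<|a (-1)<|a (-1)<|b)<|a (a 0<|a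 1<|a 1<|a 2<|a 2<|a 1<|a 0<|a 0<|b)<|b)))<|
 a (c 3 (mt (a (a 0<|a (-1)<|a 0<|a (-1)<|a 0<|a 0<|a 0<|a 0<|b)<|a (a 0<|a 0<|a 0<|a 1<|a 1<|a 1<|a 1<|a 0<|b)<|a (a 1<|a 2<|a 2<|a 3<|a 2<|a 2<|a 1<|a 0<|b)<|a (a (-1)<|a (-1)<|a (-2)<|a (-3)<|a (-2)<|a (-2)<|a (-1)<|a 0<|b)<|a (a 0<|a 0<|a 1<|a 1<|a 0<|a 0<|a 0<|a 0<|b)<|a (a 1<|a 1<|a 1<|a 2<|a 2<|a 2<|a 1<|a 1<|b)<|a (a 0<|a (-1)<|a (-1)<|a (-2)<|a (-2)<|a (-2)<|a (-1)<|a (-1)<|b)<|a (a 0<|a 1<|a 1<|a 2<|a 2<|a 1<|a 0<|a 0<|b)<|b)))<|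
 a (c 1 (mt (a (a 0<|a (-1)<|a 0<|a 0<|a 0<|a 0<|a 0<|a 0<|b)<|a (a 0<|a 0<|a 0<|a 0<|a 1<|a 1<|a 1<|a 0<|b)<|a (a 1<|a 2<|a 2<|a 3<|a 2<|a 2<|a 1<|a 0<|b)<|a (a (-1)<|a (-1)<|a (-2)<|a (-2)<|a (-2)<|a (-2)<|a (-1)<|a 0<|b)<|a (a 0<|a 0<|a 1<|a 0<|a 0<|a 0<|a 0<|a 0<|b)<|a (a 1<|a 1<|a 1<|a 2<|a 2<|a 2<|a 1<|a 1<|b)<|a (a 0<|a (-1)<|a (-1)<|a (-2)<|a (-2)<|a (-2)<|a (-1)<|a (-1)<|b)<|a (a 0<|a 1<|a 1<|a 2<|a 2<|a 1<|a 0<|a 0<|b)<|b)))<|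
 a (c 5 (mt (a (a 0<|a 1<|a 0<|a 0<|a 0<|a 0<|a 0<|a 0<|b)<|a (a 0<|a 0<|a 0<|a 0<|a 1<|a 1<|a 1<|a 0<|b)<|a (a 1<|a 1<|a 2<|a 3<|a 2<|a 2<|a 1<|a 0<|b)<|a (a (-1)<|a (-1)<|a (-2)<|a (-2)<|a (-2)<|a (-2)<|a (-1)<|a 0<|b)<|a (a 0<|a 0<|a 1<|a 0<|a 0<|a 0<|a 0<|a 0<|b)<|a (a 1<|a 1<|a 1<|a 2<|a 2<|a 2<|a 1<|a 1<|b)<|a (a 0<|a (-1)<|a (-1)<|a (-2)<|a (-2)<|a (-2)<|a (-1)<|a (-1)<|b)<|a (a 0<|a 1<|a 1<|a 2<|a 2<|a 1<|a 0<|a 0<|b)<|b)))<|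
 a (c 4 (mt (a (a 0<|a 1<|a 0<|a 0<|a 0<|a 0<|a 0<|a 0<|b)<|a (a 0<|a 0<|a 0<|a 0<|a 1<|a 1<|a 1<|a 0<|b)<|a (a 1<|a 1<|a 2<|a 3<|a 2<|a 1<|a 1<|a 0<|b)<|a (a (-1)<|a (-1)<|a (-2)<|a (-2)<|a (-2)<|a (-1)<|a (-1)<|a 0<|b)<|a (a 0<|a 0<|a 1<|a 0<|a 0<|a 0<|a 0<|a 0<|b)<|a (a 1<|a 1<|a 1<|a 2<|a 2<|a 1<|a 1<|a 1<|b)<|a (a 0<|a (-1)<|a (-1)<|a (-2)<|a (-2)<|a (-1)<|a (-1)<|a (-1)<|b)<|a (a 0<|a 1<|a 1<|a 2<|a 2<|a 1<|a 0<|a 0<|b)<|b)))<|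
 a (c 3 (mt (a (a 0<|a 1<|a 0<|a 0<|a 0<|a 0<|a 0<|a 0<|b)<|a (a 0<|a 0<|a 0<|a 0<|a 0<|a 1<|a 1<|a 0<|b)<|a (a 1<|a 1<|a 2<|a 3<|a 2<|a 1<|a 1<|a 0<|b)<|a (a (-1)<|a (-1)<|a (-2)<|a (-2)<|a (-1)<|a (-1)<|a (-1)<|a 0<|b)<|a (a 0<|a 0<|a 1<|a 0<|a 0<|a 0<|a 0<|a 0<|b)<|a (a 1<|a 1<|a 1<|a 2<|a 1<|a 1<|a 1<|a 1<|b)<|a (a 0<|a (-1)<|a (-1)<|a (-2)<|a (-1)<|a (-1)<|a (-1)<|a (-1)<|b)<|a (a 0<|a 1<|a 1<|a 2<|a 1<|a 1<|a 0<|a 0<|b)<|b)))<|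
 a (c 1 (mt (a (a 0<|a 1<|a 0<|a 1<|a 0<|a 0<|a 0<|a 0<|b)<|a (a 0<|a 0<|a 0<|a 0<|a 0<|a 1<|a 1<|a 0<|b)<|a (a 1<|a 1<|a 2<|a 2<|a 2<|a 1<|a 1<|a 0<|b)<|a (a (-1)<|a (-1)<|a (-2)<|a (-2)<|a (-1)<|a (-1)<|a (-1)<|a 0<|b)<|a (a 0<|a 0<|a 1<|a 1<|a 0<|a 0<|a 0<|a 0<|b)<|a (a 1<|a 1<|a 1<|a 1<|a 1<|a 1<|a 1<|a 1<|b)<|a (a 0<|a (-1)<|a (-1)<|a (-1)<|a (-1)<|a (-1)<|a (-1)<|a (-1)<|b)<|a (a 0<|a 1<|a 1<|a 1<|a 1<|a 1<|a 0<|a 0<|b)<|b)))<|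
 a (c 2 (mt (a (a 0<|a 0<|a 0<|a 1<|a 0<|a 0<|a 0<|a 0<|b)<|a (a 0<|a 0<|a 0<|a 0<|a 0<|a 1<|a 1<|a 0<|b)<|a (a 1<|a 1<|a 2<|a 2<|a 2<|a 1<|a 1<|a 0<|b)<|a (a (-1)<|a (-1)<|a (-2)<|a (-2)<|a (-1)<|a (-1)<|a (-1)<|a 0<|b)<|a (a 0<|a 1<|a 1<|a 1<|a 0<|a 0<|a 0<|a 0<|b)<|a (a 1<|a 0<|a 1<|a 1<|a 1<|a 1<|a 1<|a 1<|b)<|a (a 0<|a 0<|a (-1)<|a (-1)<|a (-1)<|a (-1)<|a (-1)<|a (-1)<|b)<|a (a 0<|a 0<|a 1<|a 1<|a 1<|a 1<|a 0<|a 0<|b)<|b)))<|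
 a (c 0 (mt (a (a 0<|a 0<|a 1<|a 1<|a 0<|a 0<|a 0<|a 0<|b)<|a (a 0<|a 0<|a 0<|a 0<|a 0<|a 1<|a 1<|a 0<|b)<|a (a 1<|a 1<|a 1<|a 2<|a 2<|a 1<|a 1<|a 0<|b)<|a (a (-1)<|a (-1)<|a (-1)<|a (-2)<|a (-1)<|a (-1)<|a (-1)<|a 0<|b)<|a (a 0<|a 1<|a 0<|a 1<|a 0<|a 0<|a 0<|a 0<|b)<|a (a 1<|a 0<|a 1<|a 1<|a 1<|a 1<|a 1<|a 1<|b)<|a (a 0<|a 0<|a 0<|a (-1)<|a (-1)<|a (-1)<|a (-1)<|a (-1)<|b)<|a (a 0<|a 0<|a 0<|a 1<|a 1<|a 1<|a 0<|a 0<|b)<|b)))<|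
 a (c 3 (mt (a (a 1<|a 0<|a 1<|a 1<|a 0<|a 0<|a 0<|a 0<|b)<|a (a 0<|a 0<|a 0<|a 0<|a 0<|a 1<|a 1<|a 0<|b)<|a (a 0<|a 1<|a 1<|a 2<|a 2<|a 1<|a 1<|a 0<|b)<|a (a 0<|a (-1)<|a (-1)<|a (-2)<|a (-1)<|a (-1)<|a (-1)<|a 0<|b)<|a (a 0<|a 1<|a 0<|a 1<|a 0<|a 0<|a 0<|a 0<|b)<|a (a 0<|a 0<|a 1<|a 1<|a 1<|a 1<|a 1<|a 1<|b)<|a (a 0<|a 0<|a 0<|a (-1)<|a (-1)<|a (-1)<|a (-1)<|a (-1)<|b)<|a (a 0<|a 0<|a 0<|a 1<|a 1<|a 1<|a 0<|a 0<|b)<|b)))<|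
 a (c 2 (mt (a (a 1<|a 0<|a 1<|a 0<|a 0<|a 0<|a 0<|a 0<|b)<|a (a 0<|a 0<|a 0<|a 0<|a 0<|a 1<|a 1<|a 0<|b)<|a (a 0<|a 1<|a 1<|a 2<|a 2<|a 1<|a 1<|a 0<|b)<|a (a 0<|a (-1)<|a (-1)<|a (-1)<|a (-1)<|a (-1)<|a (-1)<|a 0<|b)<|a (a 0<|a 1<|a 0<|a 0<|a 0<|a 0<|a 0<|a 0<|b)<|a (a 0<|a 0<|a 1<|a 1<|a 1<|a 1<|a 1<|a 1<|b)<|a (a 0<|a 0<|a 0<|a 0<|a (-1)<|a (-1)<|a (-1)<|a (-1)<|b)<|a (a 0<|a 0<|a 0<|a 0<|a 1<|a 1<|a 0<|a 0<|b)<|b)))<|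
 a (c 4 (mt (a (a 1<|a 0<|a 0<|a 0<|a 0<|a 0<|a 0<|a 0<|b)<|a (a 0<|a 0<|a 0<|a 0<|a 0<|a 1<|a 1<|a 0<|b)<|a (a 0<|a 1<|a 1<|a 2<|a 2<|a 1<|a 1<|a 0<|b)<|a (a 0<|a (-1)<|a 0<|a (-1)<|a (-1)<|a (-1)<|a (-1)<|a 0<|b)<|a (a 0<|a 1<|a 0<|a 0<|a 0<|a 0<|a 0<|a 0<|b)<|a (a 0<|a 0<|a 0<|a 1<|a 1<|a 1<|a 1<|a 1<|b)<|a (a 0<|a 0<|a 0<|a 0<|a (-1)<|a (-1)<|a (-1)<|a (-1)<|b)<|a (a 0<|a 0<|a 0<|a 0<|a 1<|a 1<|a 0<|a 0<|b)<|b)))<|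
 a (c 3 (mt (a (a 1<|a 0<|a 0<|a 0<|a 0<|a 0<|a 0<|a 0<|b)<|a (a 0<|a 0<|a 0<|a 0<|a 1<|a 1<|a 1<|a 0<|b)<|a (a 0<|a 1<|a 1<|a 2<|a 1<|a 1<|a 1<|a 0<|b)<|a (a 0<|a (-1)<|a 0<|a (-1)<|a (-1)<|a (-1)<|a (-1)<|a 0<|b)<|a (a 0<|a 1<|a 0<|a 0<|a 0<|a 0<|a 0<|a 0<|b)<|a (a 0<|a 0<|a 0<|a 1<|a 1<|a 1<|a 1<|a 1<|b)<|a (a 0<|a 0<|a 0<|a 0<|a 0<|a (-1)<|a (-1)<|a (-1)<|b)<|a (a 0<|a 0<|a 0<|a 0<|a 0<|a 1<|a 0<|a 0<|b)<|b)))<|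
 a (c 1 (mt (a (a 1<|a 0<|a 0<|a 0<|a 0<|a 0<|a 0<|a 0<|b)<|a (a 0<|a 0<|a 0<|a 1<|a 1<|a 1<|a 1<|a 0<|b)<|a (a 0<|a 1<|a 1<|a 1<|a 1<|a 1<|a 1<|a 0<|b)<|a (a 0<|a (-1)<|a 0<|a (-1)<|a (-1)<|a (-1)<|a (-1)<|a 0<|b)<|a (a 0<|a 1<|a 0<|a 1<|a 0<|a 0<|a 0<|a 0<|b)<|a (a 0<|a 0<|a 0<|a 0<|a 1<|a 1<|a 1<|a 1<|b)<|a (a 0<|a 0<|a 0<|a 0<|a 0<|a (-1)<|a (-1)<|a (-1)<|b)<|a (a 0<|a 0<|a 0<|a 0<|a 0<|a 1<|a 0<|a 0<|b)<|b)))<|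
 a (c 6 (mt (a (a 1<|a 0<|a 0<|a 0<|a 0<|a 0<|a 0<|a 0<|b)<|a (a 0<|a 1<|a 0<|a 1<|a 1<|a 1<|a 1<|a 0<|b)<|a (a 0<|a 0<|a 1<|a 1<|a 1<|a 1<|a 1<|a 0<|b)<|a (a 0<|a 0<|a 0<|a (-1)<|a (-1)<|a (-1)<|a (-1)<|a 0<|b)<|a (a 0<|a 0<|a 0<|a 1<|a 0<|a 0<|a 0<|a 0<|b)<|a (a 0<|a 0<|a 0<|a 0<|a 1<|a 1<|a 1<|a 1<|b)<|a (a 0<|a 0<|a 0<|a 0<|a 0<|a (-1)<|a (-1)<|a (-1)<|b)<|a (a 0<|a 0<|a 0<|a 0<|a 0<|a 1<|a 0<|a 0<|b)<|b)))<|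
 a (c 5 (mt (a (a 1<|a 0<|a 0<|a 0<|a 0<|a 0<|a 0<|a 0<|b)<|a (a 0<|a 1<|a 0<|a 1<|a 1<|a 1<|a 0<|a 0<|b)<|a (a 0<|a 0<|a 1<|a 1<|a 1<|a 1<|a 0<|a 0<|b)<|a (a 0<|a 0<|a 0<|a (-1)<|a (-1)<|a (-1)<|a 0<|a 0<|b)<|a (a 0<|a 0<|a 0<|a 1<|a 0<|a 0<|a 0<|a 0<|b)<|a (a 0<|a 0<|a 0<|a 0<|a 1<|a 1<|a 1<|a 1<|b)<|a (a 0<|a 0<|a 0<|a 0<|a 0<|a (-1)<|a (-1)<|a (-1)<|b)<|a (a 0<|a 0<|a 0<|a 0<|a 0<|a 1<|a 1<|a 0<|b)<|b)))<|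
 a (c 4 (mt (a (a 1<|a 0<|a 0<|a 0<|a 0<|a 0<|a 0<|a 0<|b)<|a (a 0<|a 1<|a 0<|a 1<|a 1<|a 0<|a 0<|a 0<|b)<|a (a 0<|a 0<|a 1<|a 1<|a 1<|a 0<|a 0<|a 0<|b)<|a (a 0<|a 0<|a 0<|a (-1)<|a (-1)<|a 0<|a 0<|a 0<|b)<|a (a 0<|a 0<|a 0<|a 1<|a 0<|a 0<|a 0<|a 0<|b)<|a (a 0<|a 0<|a 0<|a 0<|a 1<|a 1<|a 1<|a 1<|b)<|a (a 0<|a 0<|a 0<|a 0<|a 0<|a 0<|a (-1)<|a (-1)<|b)<|a (a 0<|a 0<|a 0<|a 0<|a 0<|a 0<|a 1<|a 0<|b)<|b)))<|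
 a (c 3 (mt (a (a 1<|a 0<|a 0<|a 0<|a 0<|a 0<|a 0<|a 0<|b)<|a (a 0<|a 1<|a 0<|a 1<|a 0<|a 0<|a 0<|a 0<|b)<|a (a 0<|a 0<|a 1<|a 1<|a 0<|a 0<|a 0<|a 0<|b)<|a (a 0<|a 0<|a 0<|a (-1)<|a 0<|a 0<|a 0<|a 0<|b)<|a (a 0<|a 0<|a 0<|a 1<|a 1<|a 0<|a 0<|a 0<|b)<|a (a 0<|a 0<|a 0<|a 0<|a 0<|a 1<|a 1<|a 1<|b)<|a (a 0<|a 0<|a 0<|a 0<|a 0<|a 0<|a (-1)<|a (-1)<|b)<|a (a 0<|a 0<|a 0<|a 0<|a 0<|a 0<|a 1<|a 0<|b)<|b)))<|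
 a (c 7 (mt (a (a 1<|a 0<|a 0<|a 0<|a 0<|a 0<|a 0<|a 0<|b)<|a (a 0<|a 1<|a 0<|a 0<|a 0<|a 0<|a 0<|a 0<|b)<|a (a 0<|a 0<|a 1<|a 0<|a 0<|a 0<|a 0<|a 0<|b)<|a (a 0<|a 0<|a 0<|a 1<|a 0<|a 0<|a 0<|a 0<|b)<|a (a 0<|a 0<|a 0<|a 0<|a 1<|a 0<|a 0<|a 0<|b)<|a (a 0<|a 0<|a 0<|a 0<|a 0<|a 1<|a 1<|a 1<|b)<|a (a 0<|a 0<|a 0<|a 0<|a 0<|a 0<|a (-1)<|a (-1)<|b)<|a (a 0<|a 0<|a 0<|a 0<|a 0<|a 0<|a 1<|a 0<|b)<|b)))<|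
 a (c 6 (mt (a (a 1<|a 0<|a 0<|a 0<|a 0<|a 0<|a 0<|a 0<|b)<|a (a 0<|a 1<|a 0<|a 0<|a 0<|a 0<|a 0<|a 0<|b)<|a (a 0<|a 0<|a 1<|a 0<|a 0<|a 0<|a 0<|a 0<|b)<|a (a 0<|a 0<|a 0<|a 1<|a 0<|a 0<|a 0<|a 0<|b)<|a (a 0<|a 0<|a 0<|a 0<|a 1<|a 0<|a 0<|a 0<|b)<|a (a 0<|a 0<|a 0<|a 0<|a 0<|a 1<|a 1<|a 0<|b)<|a (a 0<|a 0<|a 0<|a 0<|a 0<|a 0<|a (-1)<|a 0<|b)<|a (a 0<|a 0<|a 0<|a 0<|a 0<|a 0<|a 1<|a 1<|b)<|b)))<|b))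

private noncomputable def _root_.Cfsg.Agent.LsF.f471b37_19 : {f // @Cfsg.Agent.H682.KB.D12.cw = f} := ⟨_, by first | (delta Cfsg.Agent.H682.KB.D12.cw; rewrite [Cfsg.Agent.LsF.f471b37_0.2, Cfsg.Agent.LsF.ineg_pat]; exact rfl) | exact rfl⟩
theorem cw_ok : ChainOK Am cw :=
  H129.ChainF.ok H129.ChainF.i8 rfl rfl (by decide +kernel)

/-- the reflection `v` -/
def cv : List (Fin 8 × Mat 8) := (beta% delta% lq2623ca974a fun a b c _ _ _ _ =>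
 (a (c 1 (mt (a (a (-1)<|a (-1)<|a (-2)<|a (-2)<|a (-1)<|a (-1)<|a (-1)<|a 0<|b)<|a (a 0<|a 0<|a 0<|a 0<|a 1<|a 1<|a 1<|a 0<|b)<|a (a 1<|a 0<|a 1<|a 0<|a 0<|a 0<|a 0<|a 0<|b)<|a (a 0<|a 1<|a 0<|a 1<|a 0<|a 0<|a 0<|a 0<|b)<|a (a 0<|a 0<|a 1<|a 1<|a 1<|a 0<|a 0<|a 0<|b)<|a (a 0<|a 0<|a 0<|a 0<|a 0<|a 1<|a 0<|a 0<|b)<|a (a 0<|a (-1)<|a (-1)<|a (-1)<|a (-1)<|a (-1)<|a 0<|a 0<|b)<|a (a 0<|a 1<|a 1<|a 1<|a 1<|a 1<|a 1<|a 1<|b)<|b)))<|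
 a (c 2 (mt (a (a (-1)<|a (-1)<|a (-2)<|a (-2)<|a (-1)<|a (-1)<|a (-1)<|a 0<|b)<|a (a 0<|a 0<|a 0<|a 0<|a 1<|a 1<|a 1<|a 0<|b)<|a (a 1<|a 0<|a 1<|a 0<|a 0<|a 0<|a 0<|a 0<|b)<|a (a 0<|a 0<|a 0<|a 1<|a 0<|a 0<|a 0<|a 0<|b)<|a (a 0<|a 1<|a 1<|a 1<|a 1<|a 0<|a 0<|a 0<|b)<|a (a 0<|a 0<|a 0<|a 0<|a 0<|a 1<|a 0<|a 0<|b)<|a (a 0<|a 0<|a (-1)<|a (-1)<|a (-1)<|a (-1)<|a 0<|a 0<|b)<|a (a 0<|a 0<|a 1<|a 1<|a 1<|a 1<|a 1<|a 1<|b)<|b)))<|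
 a (c 3 (mt (a (a (-1)<|a (-1)<|a (-1)<|a (-2)<|a (-1)<|a (-1)<|a (-1)<|a 0<|b)<|a (a 0<|a 0<|a 0<|a 0<|a 1<|a 1<|a 1<|a 0<|b)<|a (a 1<|a 0<|a 0<|a 0<|a 0<|a 0<|a 0<|a 0<|b)<|a (a 0<|a 0<|a 1<|a 1<|a 0<|a 0<|a 0<|a 0<|b)<|a (a 0<|a 1<|a 0<|a 1<|a 1<|a 0<|a 0<|a 0<|b)<|a (a 0<|a 0<|a 0<|a 0<|a 0<|a 1<|a 0<|a 0<|b)<|a (a 0<|a 0<|a 0<|a (-1)<|a (-1)<|a (-1)<|a 0<|a 0<|b)<|a (a 0<|a 0<|a 0<|a 1<|a 1<|a 1<|a 1<|a 1<|b)<|b)))<|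
 a (c 1 (mt (a (a (-1)<|a (-1)<|a (-1)<|a (-1)<|a (-1)<|a (-1)<|a (-1)<|a 0<|b)<|a (a 0<|a 0<|a 0<|a 1<|a 1<|a 1<|a 1<|a 0<|b)<|a (a 1<|a 0<|a 0<|a 0<|a 0<|a 0<|a 0<|a 0<|b)<|a (a 0<|a 0<|a 1<|a 0<|a 0<|a 0<|a 0<|a 0<|b)<|a (a 0<|a 1<|a 0<|a 1<|a 1<|a 0<|a 0<|a 0<|b)<|a (a 0<|a 0<|a 0<|a 0<|a 0<|a 1<|a 0<|a 0<|b)<|a (a 0<|a 0<|a 0<|a 0<|a (-1)<|a (-1)<|a 0<|a 0<|b)<|a (a 0<|a 0<|a 0<|a 0<|a 1<|a 1<|a 1<|a 1<|b)<|b)))<|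
 a (c 4 (mt (a (a (-1)<|a 0<|a (-1)<|a (-1)<|a (-1)<|a (-1)<|a (-1)<|a 0<|b)<|a (a 0<|a 1<|a 0<|a 1<|a 1<|a 1<|a 1<|a 0<|b)<|a (a 1<|a 0<|a 0<|a 0<|a 0<|a 0<|a 0<|a 0<|b)<|a (a 0<|a 0<|a 1<|a 0<|a 0<|a 0<|a 0<|a 0<|b)<|a (a 0<|a 0<|a 0<|a 1<|a 1<|a 0<|a 0<|a 0<|b)<|a (a 0<|a 0<|a 0<|a 0<|a 0<|a 1<|a 0<|a 0<|b)<|a (a 0<|a 0<|a 0<|a 0<|a (-1)<|a (-1)<|a 0<|a 0<|b)<|a (a 0<|a 0<|a 0<|a 0<|a 1<|a 1<|a 1<|a 1<|b)<|b)))<|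
 a (c 5 (mt (a (a (-1)<|a 0<|a (-1)<|a (-1)<|a (-1)<|a (-1)<|a (-1)<|a 0<|b)<|a (a 0<|a 1<|a 0<|a 1<|a 1<|a 1<|a 1<|a 0<|b)<|a (a 1<|a 0<|a 0<|a 0<|a 0<|a 0<|a 0<|a 0<|b)<|a (a 0<|a 0<|a 1<|a 0<|a 0<|a 0<|a 0<|a 0<|b)<|a (a 0<|a 0<|a 0<|a 1<|a 0<|a 0<|a 0<|a 0<|b)<|a (a 0<|a 0<|a 0<|a 0<|a 1<|a 1<|a 0<|a 0<|b)<|a (a 0<|a 0<|a 0<|a 0<|a 0<|a (-1)<|a 0<|a 0<|b)<|a (a 0<|a 0<|a 0<|a 0<|a 0<|a 1<|a 1<|a 1<|b)<|b)))<|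
 a (c 6 (mt (a (a (-1)<|a 0<|a (-1)<|a (-1)<|a (-1)<|a (-1)<|a (-1)<|a 0<|b)<|a (a 0<|a 1<|a 0<|a 1<|a 1<|a 1<|a 1<|a 0<|b)<|a (a 1<|a 0<|a 0<|a 0<|a 0<|a 0<|a 0<|a 0<|b)<|a (a 0<|a 0<|a 1<|a 0<|a 0<|a 0<|a 0<|a 0<|b)<|a (a 0<|a 0<|a 0<|a 1<|a 0<|a 0<|a 0<|a 0<|b)<|a (a 0<|a 0<|a 0<|a 0<|a 1<|a 0<|a 0<|a 0<|b)<|a (a 0<|a 0<|a 0<|a 0<|a 0<|a 1<|a 0<|a 0<|b)<|a (a 0<|a 0<|a 0<|a 0<|a 0<|a 0<|a 1<|a 1<|b)<|b)))<|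
 a (c 5 (mt (a (a (-1)<|a 0<|a (-1)<|a (-1)<|a (-1)<|a (-1)<|a 0<|a 0<|b)<|a (a 0<|a 1<|a 0<|a 1<|a 1<|a 1<|a 0<|a 0<|b)<|a (a 1<|a 0<|a 0<|a 0<|a 0<|a 0<|a 0<|a 0<|b)<|a (a 0<|a 0<|a 1<|a 0<|a 0<|a 0<|a 0<|a 0<|b)<|a (a 0<|a 0<|a 0<|a 1<|a 0<|a 0<|a 0<|a 0<|b)<|a (a 0<|a 0<|a 0<|a 0<|a 1<|a 0<|a 0<|a 0<|b)<|a (a 0<|a 0<|a 0<|a 0<|a 0<|a 1<|a 1<|a 0<|b)<|a (a 0<|a 0<|a 0<|a 0<|a 0<|a 0<|a 0<|a 1<|b)<|b)))<|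
 a (c 4 (mt (a (a (-1)<|a 0<|a (-1)<|a (-1)<|a (-1)<|a 0<|a 0<|a 0<|b)<|a (a 0<|a 1<|a 0<|a 1<|a 1<|a 0<|a 0<|a 0<|b)<|a (a 1<|a 0<|a 0<|a 0<|a 0<|a 0<|a 0<|a 0<|b)<|a (a 0<|a 0<|a 1<|a 0<|a 0<|a 0<|a 0<|a 0<|b)<|a (a 0<|a 0<|a 0<|a 1<|a 0<|a 0<|a 0<|a 0<|b)<|a (a 0<|a 0<|a 0<|a 0<|a 1<|a 1<|a 0<|a 0<|b)<|a (a 0<|a 0<|a 0<|a 0<|a 0<|a 0<|a 1<|a 0<|b)<|a (a 0<|a 0<|a 0<|a 0<|a 0<|a 0<|a 0<|a 1<|b)<|b)))<|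
 a (c 3 (mt (a (a (-1)<|a 0<|a (-1)<|a (-1)<|a 0<|a 0<|a 0<|a 0<|b)<|a (a 0<|a 1<|a 0<|a 1<|a 0<|a 0<|a 0<|a 0<|b)<|a (a 1<|a 0<|a 0<|a 0<|a 0<|a 0<|a 0<|a 0<|b)<|a (a 0<|a 0<|a 1<|a 0<|a 0<|a 0<|a 0<|a 0<|b)<|a (a 0<|a 0<|a 0<|a 1<|a 1<|a 0<|a 0<|a 0<|b)<|a (a 0<|a 0<|a 0<|a 0<|a 0<|a 1<|a 0<|a 0<|b)<|a (a 0<|a 0<|a 0<|a 0<|a 0<|a 0<|a 1<|a 0<|b)<|a (a 0<|a 0<|a 0<|a 0<|a 0<|a 0<|a 0<|a 1<|b)<|b)))<|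
 a (c 2 (mt (a (a (-1)<|a 0<|a (-1)<|a 0<|a 0<|a 0<|a 0<|a 0<|b)<|a (a 0<|a 1<|a 0<|a 0<|a 0<|a 0<|a 0<|a 0<|b)<|a (a 1<|a 0<|a 0<|a 0<|a 0<|a 0<|a 0<|a 0<|b)<|a (a 0<|a 0<|a 1<|a 1<|a 0<|a 0<|a 0<|a 0<|b)<|a (a 0<|a 0<|a 0<|a 0<|a 1<|a 0<|a 0<|a 0<|b)<|a (a 0<|a 0<|a 0<|a 0<|a 0<|a 1<|a 0<|a 0<|b)<|a (a 0<|a 0<|a 0<|a 0<|a 0<|a 0<|a 1<|a 0<|b)<|a (a 0<|a 0<|a 0<|a 0<|a 0<|a 0<|a 0<|a 1<|b)<|b)))<|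
 a (c 0 (mt (a (a (-1)<|a 0<|a 0<|a 0<|a 0<|a 0<|a 0<|a 0<|b)<|a (a 0<|a 1<|a 0<|a 0<|a 0<|a 0<|a 0<|a 0<|b)<|a (a 1<|a 0<|a 1<|a 0<|a 0<|a 0<|a 0<|a 0<|b)<|a (a 0<|a 0<|a 0<|a 1<|a 0<|a 0<|a 0<|a 0<|b)<|a (a 0<|a 0<|a 0<|a 0<|a 1<|a 0<|a 0<|a 0<|b)<|a (a 0<|a 0<|a 0<|a 0<|a 0<|a 1<|a 0<|a 0<|b)<|a (a 0<|a 0<|a 0<|a 0<|a 0<|a 0<|a 1<|a 0<|b)<|a (a 0<|a 0<|a 0<|a 0<|a 0<|a 0<|a 0<|a 1<|b)<|b)))<|b))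

private noncomputable def _root_.Cfsg.Agent.LsF.f471b37_20 : {f // @Cfsg.Agent.H682.KB.D12.cv = f} := ⟨_, by first | (delta Cfsg.Agent.H682.KB.D12.cv; rewrite [Cfsg.Agent.LsF.f471b37_0.2, Cfsg.Agent.LsF.ineg_pat]; exact rfl) | exact rfl⟩
theorem cv_ok : ChainOK Am cv :=
  H129.ChainF.ok H129.ChainF.i8 rfl rfl (by decide +kernel)

theorem comm : CommOK (hd cv) (hd cw) := by (refine of_decide_eq_true ?_; (try (delta Cfsg.Agent.H210.EL.CommOK Cfsg.Agent.H210.EL.instDecCommOK; rewrite [Cfsg.Agent.LsF.sumF_pat, Cfsg.Agent.LsF.f471b37_5.2, Cfsg.Agent.LsF.f471b37_20.2, Cfsg.Agent.LsF.f471b37_19.2, Cfsg.Agent.LsF.iadd_pat, Cfsg.Agent.LsF.imul_pat, Cfsg.Agent.LsF.iACM_eq, Cfsg.Agent.LsF.instIDecEq_eq, Cfsg.Agent.LsF.dForallFin_eq, Cfsg.Agent.LsF.decide_eq])); decide +kernel)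

/-- the eigenvector `b`, fixed by `v` -/
def B : List Q4 := (beta% delta% lq2623ca974a fun a b c _ _ _ _ =>
 (a (c 0<|c 0<|c 0 0)<|a (c 0<|c 0<|c 0 0)<|a (c 0<|c (-1)<|c 0 0)<|a (c 0<|c 1<|c 0 0)<|a (c 1<|c 0<|c 0 0)<|a (c (-1)<|c (-1)<|c (-1) 0)<|a (c 0<|c 1<|c 1 0)<|a (c 0<|c 0<|c 0 (-1))<|b))

/-- the eigenvector `a` -/
def A : List Q4 := (beta% delta% lq2623ca974a fun a b c _ _ _ _ =>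
 (a (c (-1)<|c 0<|c 0 1)<|a (c (-1)<|c 2<|c 0 (-1))<|a (c 1<|c 0<|c 0 0)<|a (c 1<|c (-1)<|c (-1) 1)<|a (c (-1)<|c 0<|c 1 (-1))<|a (c 0<|c 0<|c 0 0)<|a (c 0<|c 0<|c 1 0)<|a (c 0<|c 0<|c (-1) 0)<|b))

theorem eb : EigQ (-1, 0, 1, 0) (hd cw) (0, 1, 0, 0) B := by decide +kernel

theorem ea : EigQ (-1, 0, 1, 0) (hd cw) (0, 1, 0, 0) A := by decide +kernel

theorem evb : EigQ (-1, 0, 1, 0) (hd cv) (1, 0, 0, 0) B := by decide +kernel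

theorem eva : EigQ (-1, 0, 1, 0) (hd cv) (0, 0, 0, 1) A := by decide +kernel

theorem ib : ∃ i : Fin 8, B.getD i (0, 0, 0, 0) = (1, 0, 0, 0) := ⟨4, rfl⟩

theorem ia : ∃ i : Fin 8, A.getD i (0, 0, 0, 0) = (1, 0, 0, 0) := ⟨2, rfl⟩

theorem ps12 : ps4 (-1, 0, 1, 0) [true, true, false, false] B R8 = (453600, 524160, 0, -262080) := by (refine of_decide_eq_true ?_; (try (rewrite [Cfsg.Agent.LsF.f471b37_14.2, Cfsg.Agent.LsF.ineg_pat, Cfsg.Agent.LsF.dProdEq_eq, Cfsg.Agent.LsF.instIDecEq_eq, Cfsg.Agent.LsF.decide_eq])); decide +kernel)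

theorem ct12 : (beta% delta% lq2623ca974a fun a b c d e _ g =>
 mul4 (c (-1)<|c 0<|c 1 0) (c (-45)<|c 52<|c 0 (-26)) (ps4 (c (-1)<|c 0<|c 1 0) (a d<|a d<|a e<|a e<|b) B g) :
 Cfsg.Agent.H682.KB.Q4) = (30240, 0, 0, 0) := by
  rw [ps12]
  decide +kernel

theorem ps24 : (beta% delta% lq2623ca974a fun a b c d e _ g =>
 ps4 (c (-1)<|c 0<|c 1 0) (a d<|a d<|a e<|a e<|a e<|b) B g :
 Cfsg.Agent.H682.KB.Q4) = (89887498848, 103793114880, 0, -51896557440) := by (refine of_decide_eq_true ?_; (try (rewrite [Cfsg.Agent.LsF.f471b37_14.2, Cfsg.Agent.LsF.ineg_pat, Cfsg.Agent.LsF.dProdEq_eq, Cfsg.Agent.LsF.instIDecEq_eq, Cfsg.Agent.LsF.decide_eq])); decide +kernel)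

/-- the reflection `v` -/
def cv' : List (Fin 8 × Mat 8) := (beta% delta% lq2623ca974a fun a b c _ _ _ _ =>
 (a (c 3 (mt (a (a 1<|a 2<|a 2<|a 4<|a 3<|a 2<|a 1<|a 1<|b)<|a (a 0<|a 0<|a (-1)<|a (-1)<|a (-1)<|a 0<|a 0<|a 0<|b)<|a (a 0<|a (-1)<|a 0<|a (-1)<|a (-1)<|a 0<|a 0<|a 0<|b)<|a (a 0<|a 0<|a 0<|a 0<|a 0<|a (-1)<|a (-1)<|a (-1)<|b)<|a (a 0<|a 0<|a 0<|a 0<|a 0<|a 0<|a 1<|a 1<|b)<|a (a 0<|a 1<|a 1<|a 1<|a 1<|a 1<|a 0<|a 0<|b)<|a (a 0<|a (-1)<|a (-1)<|a (-1)<|a 0<|a 0<|a 0<|a 0<|b)<|a (a 0<|a 1<|a 1<|a 2<|a 1<|a 1<|a 1<|a 0<|b)<|b)))<|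
 a (c 1 (mt (a (a 1<|a 2<|a 2<|a 3<|a 3<|a 2<|a 1<|a 1<|b)<|a (a 0<|a 0<|a (-1)<|a (-1)<|a (-1)<|a 0<|a 0<|a 0<|b)<|a (a 0<|a (-1)<|a 0<|a (-1)<|a (-1)<|a 0<|a 0<|a 0<|b)<|a (a 0<|a 0<|a 0<|a 0<|a 0<|a (-1)<|a (-1)<|a (-1)<|b)<|a (a 0<|a 0<|a 0<|a 0<|a 0<|a 0<|a 1<|a 1<|b)<|a (a 0<|a 1<|a 1<|a 2<|a 1<|a 1<|a 0<|a 0<|b)<|a (a 0<|a (-1)<|a (-1)<|a (-1)<|a 0<|a 0<|a 0<|a 0<|b)<|a (a 0<|a 1<|a 1<|a 1<|a 1<|a 1<|a 1<|a 0<|b)<|b)))<|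
 a (c 2 (mt (a (a 1<|a 1<|a 2<|a 3<|a 3<|a 2<|a 1<|a 1<|b)<|a (a 0<|a (-1)<|a (-1)<|a (-1)<|a (-1)<|a 0<|a 0<|a 0<|b)<|a (a 0<|a 0<|a 0<|a (-1)<|a (-1)<|a 0<|a 0<|a 0<|b)<|a (a 0<|a 0<|a 0<|a 0<|a 0<|a (-1)<|a (-1)<|a (-1)<|b)<|a (a 0<|a 0<|a 0<|a 0<|a 0<|a 0<|a 1<|a 1<|b)<|a (a 0<|a 1<|a 1<|a 2<|a 1<|a 1<|a 0<|a 0<|b)<|a (a 0<|a 0<|a (-1)<|a (-1)<|a 0<|a 0<|a 0<|a 0<|b)<|a (a 0<|a 0<|a 1<|a 1<|a 1<|a 1<|a 1<|a 0<|b)<|b)))<|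
 a (c 3 (mt (a (a 1<|a 1<|a 2<|a 3<|a 3<|a 2<|a 1<|a 1<|b)<|a (a 0<|a (-1)<|a 0<|a (-1)<|a (-1)<|a 0<|a 0<|a 0<|b)<|a (a 0<|a 0<|a (-1)<|a (-1)<|a (-1)<|a 0<|a 0<|a 0<|b)<|a (a 0<|a 0<|a 0<|a 0<|a 0<|a (-1)<|a (-1)<|a (-1)<|b)<|a (a 0<|a 0<|a 0<|a 0<|a 0<|a 0<|a 1<|a 1<|b)<|a (a 0<|a 1<|a 1<|a 2<|a 1<|a 1<|a 0<|a 0<|b)<|a (a 0<|a 0<|a 0<|a (-1)<|a 0<|a 0<|a 0<|a 0<|b)<|a (a 0<|a 0<|a 0<|a 1<|a 1<|a 1<|a 1<|a 0<|b)<|b)))<|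
 a (c 4 (mt (a (a 1<|a 1<|a 2<|a 3<|a 3<|a 2<|a 1<|a 1<|b)<|a (a 0<|a (-1)<|a 0<|a (-1)<|a (-1)<|a 0<|a 0<|a 0<|b)<|a (a 0<|a 0<|a (-1)<|a (-1)<|a (-1)<|a 0<|a 0<|a 0<|b)<|a (a 0<|a 0<|a 0<|a 0<|a 0<|a (-1)<|a (-1)<|a (-1)<|b)<|a (a 0<|a 0<|a 0<|a 0<|a 0<|a 0<|a 1<|a 1<|b)<|a (a 0<|a 1<|a 1<|a 1<|a 1<|a 1<|a 0<|a 0<|b)<|a (a 0<|a 0<|a 0<|a 1<|a 0<|a 0<|a 0<|a 0<|b)<|a (a 0<|a 0<|a 0<|a 0<|a 1<|a 1<|a 1<|a 0<|b)<|b)))<|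
 a (c 3 (mt (a (a 1<|a 1<|a 2<|a 3<|a 2<|a 2<|a 1<|a 1<|b)<|a (a 0<|a (-1)<|a 0<|a (-1)<|a 0<|a 0<|a 0<|a 0<|b)<|a (a 0<|a 0<|a (-1)<|a (-1)<|a 0<|a 0<|a 0<|a 0<|b)<|a (a 0<|a 0<|a 0<|a 0<|a (-1)<|a (-1)<|a (-1)<|a (-1)<|b)<|a (a 0<|a 0<|a 0<|a 0<|a 0<|a 0<|a 1<|a 1<|b)<|a (a 0<|a 1<|a 1<|a 1<|a 1<|a 1<|a 0<|a 0<|b)<|a (a 0<|a 0<|a 0<|a 1<|a 1<|a 0<|a 0<|a 0<|b)<|a (a 0<|a 0<|a 0<|a 0<|a 0<|a 1<|a 1<|a 0<|b)<|b)))<|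
 a (c 1 (mt (a (a 1<|a 1<|a 2<|a 2<|a 2<|a 2<|a 1<|a 1<|b)<|a (a 0<|a (-1)<|a 0<|a 0<|a 0<|a 0<|a 0<|a 0<|b)<|a (a 0<|a 0<|a (-1)<|a 0<|a 0<|a 0<|a 0<|a 0<|b)<|a (a 0<|a 0<|a 0<|a (-1)<|a (-1)<|a (-1)<|a (-1)<|a (-1)<|b)<|a (a 0<|a 0<|a 0<|a 0<|a 0<|a 0<|a 1<|a 1<|b)<|a (a 0<|a 1<|a 1<|a 2<|a 1<|a 1<|a 0<|a 0<|b)<|a (a 0<|a 0<|a 0<|a 0<|a 1<|a 0<|a 0<|a 0<|b)<|a (a 0<|a 0<|a 0<|a 0<|a 0<|a 1<|a 1<|a 0<|b)<|b)))<|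
 a (c 2 (mt (a (a 1<|a 1<|a 2<|a 2<|a 2<|a 2<|a 1<|a 1<|b)<|a (a 0<|a 1<|a 0<|a 0<|a 0<|a 0<|a 0<|a 0<|b)<|a (a 0<|a 0<|a (-1)<|a 0<|a 0<|a 0<|a 0<|a 0<|b)<|a (a 0<|a (-1)<|a 0<|a (-1)<|a (-1)<|a (-1)<|a (-1)<|a (-1)<|b)<|a (a 0<|a 0<|a 0<|a 0<|a 0<|a 0<|a 1<|a 1<|b)<|a (a 0<|a 1<|a 1<|a 2<|a 1<|a 1<|a 0<|a 0<|b)<|a (a 0<|a 0<|a 0<|a 0<|a 1<|a 0<|a 0<|a 0<|b)<|a (a 0<|a 0<|a 0<|a 0<|a 0<|a 1<|a 1<|a 0<|b)<|b)))<|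
 a (c 5 (mt (a (a 1<|a 1<|a 1<|a 2<|a 2<|a 2<|a 1<|a 1<|b)<|a (a 0<|a 1<|a 0<|a 0<|a 0<|a 0<|a 0<|a 0<|b)<|a (a 0<|a 0<|a 1<|a 0<|a 0<|a 0<|a 0<|a 0<|b)<|a (a 0<|a (-1)<|a (-1)<|a (-1)<|a (-1)<|a (-1)<|a (-1)<|a (-1)<|b)<|a (a 0<|a 0<|a 0<|a 0<|a 0<|a 0<|a 1<|a 1<|b)<|a (a 0<|a 1<|a 1<|a 2<|a 1<|a 1<|a 0<|a 0<|b)<|a (a 0<|a 0<|a 0<|a 0<|a 1<|a 0<|a 0<|a 0<|b)<|a (a 0<|a 0<|a 0<|a 0<|a 0<|a 1<|a 1<|a 0<|b)<|b)))<|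
 a (c 4 (mt (a (a 1<|a 1<|a 1<|a 2<|a 2<|a 1<|a 1<|a 1<|b)<|a (a 0<|a 1<|a 0<|a 0<|a 0<|a 0<|a 0<|a 0<|b)<|a (a 0<|a 0<|a 1<|a 0<|a 0<|a 0<|a 0<|a 0<|b)<|a (a 0<|a (-1)<|a (-1)<|a (-1)<|a (-1)<|a (-1)<|a (-1)<|a (-1)<|b)<|a (a 0<|a 0<|a 0<|a 0<|a 0<|a 1<|a 1<|a 1<|b)<|a (a 0<|a 1<|a 1<|a 2<|a 1<|a 0<|a 0<|a 0<|b)<|a (a 0<|a 0<|a 0<|a 0<|a 1<|a 1<|a 0<|a 0<|b)<|a (a 0<|a 0<|a 0<|a 0<|a 0<|a 0<|a 1<|a 0<|b)<|b)))<|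
 a (c 3 (mt (a (a 1<|a 1<|a 1<|a 2<|a 1<|a 1<|a 1<|a 1<|b)<|a (a 0<|a 1<|a 0<|a 0<|a 0<|a 0<|a 0<|a 0<|b)<|a (a 0<|a 0<|a 1<|a 0<|a 0<|a 0<|a 0<|a 0<|b)<|a (a 0<|a (-1)<|a (-1)<|a (-1)<|a (-1)<|a (-1)<|a (-1)<|a (-1)<|b)<|a (a 0<|a 0<|a 0<|a 0<|a 1<|a 1<|a 1<|a 1<|b)<|a (a 0<|a 1<|a 1<|a 2<|a 1<|a 0<|a 0<|a 0<|b)<|a (a 0<|a 0<|a 0<|a 0<|a 0<|a 1<|a 0<|a 0<|b)<|a (a 0<|a 0<|a 0<|a 0<|a 0<|a 0<|a 1<|a 0<|b)<|b)))<|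
 a (c 1 (mt (a (a 1<|a 1<|a 1<|a 1<|a 1<|a 1<|a 1<|a 1<|b)<|a (a 0<|a 1<|a 0<|a 1<|a 0<|a 0<|a 0<|a 0<|b)<|a (a 0<|a 0<|a 1<|a 1<|a 0<|a 0<|a 0<|a 0<|b)<|a (a 0<|a (-1)<|a (-1)<|a (-2)<|a (-1)<|a (-1)<|a (-1)<|a (-1)<|b)<|a (a 0<|a 0<|a 0<|a 1<|a 1<|a 1<|a 1<|a 1<|b)<|a (a 0<|a 1<|a 1<|a 1<|a 1<|a 0<|a 0<|a 0<|b)<|a (a 0<|a 0<|a 0<|a 0<|a 0<|a 1<|a 0<|a 0<|b)<|a (a 0<|a 0<|a 0<|a 0<|a 0<|a 0<|a 1<|a 0<|b)<|b)))<|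
 a (c 2 (mt (a (a 1<|a 0<|a 1<|a 1<|a 1<|a 1<|a 1<|a 1<|b)<|a (a 0<|a 0<|a 0<|a 1<|a 0<|a 0<|a 0<|a 0<|b)<|a (a 0<|a 1<|a 1<|a 1<|a 0<|a 0<|a 0<|a 0<|b)<|a (a 0<|a (-1)<|a (-1)<|a (-2)<|a (-1)<|a (-1)<|a (-1)<|a (-1)<|b)<|a (a 0<|a 1<|a 0<|a 1<|a 1<|a 1<|a 1<|a 1<|b)<|a (a 0<|a 0<|a 1<|a 1<|a 1<|a 0<|a 0<|a 0<|b)<|a (a 0<|a 0<|a 0<|a 0<|a 0<|a 1<|a 0<|a 0<|b)<|a (a 0<|a 0<|a 0<|a 0<|a 0<|a 0<|a 1<|a 0<|b)<|b)))<|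
 a (c 3 (mt (a (a 1<|a 0<|a 1<|a 1<|a 1<|a 1<|a 1<|a 1<|b)<|a (a 0<|a 0<|a 1<|a 1<|a 0<|a 0<|a 0<|a 0<|b)<|a (a 0<|a 1<|a 0<|a 1<|a 0<|a 0<|a 0<|a 0<|b)<|a (a 0<|a (-1)<|a (-1)<|a (-2)<|a (-1)<|a (-1)<|a (-1)<|a (-1)<|b)<|a (a 0<|a 1<|a 1<|a 1<|a 1<|a 1<|a 1<|a 1<|b)<|a (a 0<|a 0<|a 0<|a 1<|a 1<|a 0<|a 0<|a 0<|b)<|a (a 0<|a 0<|a 0<|a 0<|a 0<|a 1<|a 0<|a 0<|b)<|a (a 0<|a 0<|a 0<|a 0<|a 0<|a 0<|a 1<|a 0<|b)<|b)))<|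
 a (c 7 (mt (a (a 1<|a 0<|a 1<|a 1<|a 1<|a 1<|a 1<|a 1<|b)<|a (a 0<|a 0<|a 1<|a 0<|a 0<|a 0<|a 0<|a 0<|b)<|a (a 0<|a 1<|a 0<|a 0<|a 0<|a 0<|a 0<|a 0<|b)<|a (a 0<|a (-1)<|a (-1)<|a (-1)<|a (-1)<|a (-1)<|a (-1)<|a (-1)<|b)<|a (a 0<|a 1<|a 1<|a 2<|a 1<|a 1<|a 1<|a 1<|b)<|a (a 0<|a 0<|a 0<|a 0<|a 1<|a 0<|a 0<|a 0<|b)<|a (a 0<|a 0<|a 0<|a 0<|a 0<|a 1<|a 0<|a 0<|b)<|a (a 0<|a 0<|a 0<|a 0<|a 0<|a 0<|a 1<|a 0<|b)<|b)))<|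
 a (c 6 (mt (a (a 1<|a 0<|a 1<|a 1<|a 1<|a 1<|a 1<|a 0<|b)<|a (a 0<|a 0<|a 1<|a 0<|a 0<|a 0<|a 0<|a 0<|b)<|a (a 0<|a 1<|a 0<|a 0<|a 0<|a 0<|a 0<|a 0<|b)<|a (a 0<|a (-1)<|a (-1)<|a (-1)<|a (-1)<|a (-1)<|a (-1)<|a 0<|b)<|a (a 0<|a 1<|a 1<|a 2<|a 1<|a 1<|a 1<|a 0<|b)<|a (a 0<|a 0<|a 0<|a 0<|a 1<|a 0<|a 0<|a 0<|b)<|a (a 0<|a 0<|a 0<|a 0<|a 0<|a 1<|a 0<|a 0<|b)<|a (a 0<|a 0<|a 0<|a 0<|a 0<|a 0<|a 1<|a 1<|b)<|b)))<|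
 a (c 5 (mt (a (a 1<|a 0<|a 1<|a 1<|a 1<|a 1<|a 0<|a 0<|b)<|a (a 0<|a 0<|a 1<|a 0<|a 0<|a 0<|a 0<|a 0<|b)<|a (a 0<|a 1<|a 0<|a 0<|a 0<|a 0<|a 0<|a 0<|b)<|a (a 0<|a (-1)<|a (-1)<|a (-1)<|a (-1)<|a (-1)<|a 0<|a 0<|b)<|a (a 0<|a 1<|a 1<|a 2<|a 1<|a 1<|a 0<|a 0<|b)<|a (a 0<|a 0<|a 0<|a 0<|a 1<|a 0<|a 0<|a 0<|b)<|a (a 0<|a 0<|a 0<|a 0<|a 0<|a 1<|a 1<|a 0<|b)<|a (a 0<|a 0<|a 0<|a 0<|a 0<|a 0<|a 0<|a 1<|b)<|b)))<|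
 a (c 4 (mt (a (a 1<|a 0<|a 1<|a 1<|a 1<|a 0<|a 0<|a 0<|b)<|a (a 0<|a 0<|a 1<|a 0<|a 0<|a 0<|a 0<|a 0<|b)<|a (a 0<|a 1<|a 0<|a 0<|a 0<|a 0<|a 0<|a 0<|b)<|a (a 0<|a (-1)<|a (-1)<|a (-1)<|a (-1)<|a 0<|a 0<|a 0<|b)<|a (a 0<|a 1<|a 1<|a 2<|a 1<|a 0<|a 0<|a 0<|b)<|a (a 0<|a 0<|a 0<|a 0<|a 1<|a 1<|a 0<|a 0<|b)<|a (a 0<|a 0<|a 0<|a 0<|a 0<|a 0<|a 1<|a 0<|b)<|a (a 0<|a 0<|a 0<|a 0<|a 0<|a 0<|a 0<|a 1<|b)<|b)))<|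
 a (c 3 (mt (a (a 1<|a 0<|a 1<|a 1<|a 0<|a 0<|a 0<|a 0<|b)<|a (a 0<|a 0<|a 1<|a 0<|a 0<|a 0<|a 0<|a 0<|b)<|a (a 0<|a 1<|a 0<|a 0<|a 0<|a 0<|a 0<|a 0<|b)<|a (a 0<|a (-1)<|a (-1)<|a (-1)<|a 0<|a 0<|a 0<|a 0<|b)<|a (a 0<|a 1<|a 1<|a 2<|a 1<|a 0<|a 0<|a 0<|b)<|a (a 0<|a 0<|a 0<|a 0<|a 0<|a 1<|a 0<|a 0<|b)<|a (a 0<|a 0<|a 0<|a 0<|a 0<|a 0<|a 1<|a 0<|b)<|a (a 0<|a 0<|a 0<|a 0<|a 0<|a 0<|a 0<|a 1<|b)<|b)))<|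
 a (c 1 (mt (a (a 1<|a 0<|a 1<|a 0<|a 0<|a 0<|a 0<|a 0<|b)<|a (a 0<|a 0<|a 1<|a 1<|a 0<|a 0<|a 0<|a 0<|b)<|a (a 0<|a 1<|a 0<|a 1<|a 0<|a 0<|a 0<|a 0<|b)<|a (a 0<|a (-1)<|a (-1)<|a (-1)<|a 0<|a 0<|a 0<|a 0<|b)<|a (a 0<|a 1<|a 1<|a 1<|a 1<|a 0<|a 0<|a 0<|b)<|a (a 0<|a 0<|a 0<|a 0<|a 0<|a 1<|a 0<|a 0<|b)<|a (a 0<|a 0<|a 0<|a 0<|a 0<|a 0<|a 1<|a 0<|b)<|a (a 0<|a 0<|a 0<|a 0<|a 0<|a 0<|a 0<|a 1<|b)<|b)))<|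
 a (c 2 (mt (a (a 1<|a 0<|a 1<|a 0<|a 0<|a 0<|a 0<|a 0<|b)<|a (a 0<|a 1<|a 1<|a 1<|a 0<|a 0<|a 0<|a 0<|b)<|a (a 0<|a 0<|a 0<|a 1<|a 0<|a 0<|a 0<|a 0<|b)<|a (a 0<|a 0<|a (-1)<|a (-1)<|a 0<|a 0<|a 0<|a 0<|b)<|a (a 0<|a 0<|a 1<|a 1<|a 1<|a 0<|a 0<|a 0<|b)<|a (a 0<|a 0<|a 0<|a 0<|a 0<|a 1<|a 0<|a 0<|b)<|a (a 0<|a 0<|a 0<|a 0<|a 0<|a 0<|a 1<|a 0<|b)<|a (a 0<|a 0<|a 0<|a 0<|a 0<|a 0<|a 0<|a 1<|b)<|b)))<|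
 a (c 3 (mt (a (a 1<|a 0<|a 0<|a 0<|a 0<|a 0<|a 0<|a 0<|b)<|a (a 0<|a 1<|a 0<|a 1<|a 0<|a 0<|a 0<|a 0<|b)<|a (a 0<|a 0<|a 1<|a 1<|a 0<|a 0<|a 0<|a 0<|b)<|a (a 0<|a 0<|a 0<|a (-1)<|a 0<|a 0<|a 0<|a 0<|b)<|a (a 0<|a 0<|a 0<|a 1<|a 1<|a 0<|a 0<|a 0<|b)<|a (a 0<|a 0<|a 0<|a 0<|a 0<|a 1<|a 0<|a 0<|b)<|a (a 0<|a 0<|a 0<|a 0<|a 0<|a 0<|a 1<|a 0<|b)<|a (a 0<|a 0<|a 0<|a 0<|a 0<|a 0<|a 0<|a 1<|b)<|b)))<|b))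

theorem cv'_ok : ChainOK Am cv' :=
  H129.ChainF.ok H129.ChainF.i8 rfl rfl (by decide +kernel)

theorem comm' : CommOK (hd cv') (hd cw) := by decide +kernel

/-- the eigenvector `b`, fixed by `v` -/
def B' : List Q4 := (beta% delta% lq2623ca974a fun a b c _ _ _ _ =>
 (a (c 1<|c 0<|c 0 0)<|a (c 1<|c (-1)<|c (-1) 1)<|a (c (-1)<|c 0<|c 0 (-1))<|a (c 0<|c 0<|c 1 0)<|a (c 0<|c 1<|c 0 0)<|a (c 0<|c (-1)<|c (-1) 0)<|a (c 0<|c 1<|c 0 0)<|a (c 0<|c 0<|c 0 0)<|b))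

/-- the eigenvector `a` -/
def A' : List Q4 := (beta% delta% lq2623ca974a fun a b c _ _ _ _ =>
 (a (c (-1)<|c (-1)<|c 1 1)<|a (c 1<|c 0<|c 0 0)<|a (c 1<|c 0<|c 0 0)<|a (c (-1)<|c 1<|c 0 (-1))<|a (c 1<|c (-1)<|c (-1) 1)<|a (c (-1)<|c 0<|c 0 0)<|a (c 0<|c 1<|c 1 0)<|a (c 0<|c (-1)<|c 0 (-1))<|b))

theorem eb' : EigQ (-1, 0, 1, 0) (hd cw) (0, 1, 0, 0) B' := by decide +kernel

theorem ea' : EigQ (-1, 0, 1, 0) (hd cw) (0, 1, 0, 0) A' := by decide +kernel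

theorem evb' : EigQ (-1, 0, 1, 0) (hd cv') (1, 0, 0, 0) B' := by decide +kernel

theorem eva' : EigQ (-1, 0, 1, 0) (hd cv') (-1, 0, 1, 0) A' := by decide +kernel

theorem ib' : ∃ i : Fin 8, B'.getD i (0, 0, 0, 0) = (1, 0, 0, 0) := ⟨0, rfl⟩

theorem ia' : ∃ i : Fin 8, A'.getD i (0, 0, 0, 0) = (1, 0, 0, 0) := ⟨1, rfl⟩

theorem ps12' : ps4 (-1, 0, 1, 0) [true, true, false, false] B' R8 = (-45360, 0, 0, 0) := by (refine of_decide_eq_true ?_; (try (rewrite [Cfsg.Agent.LsF.f471b37_14.2, Cfsg.Agent.LsF.ineg_pat, Cfsg.Agent.LsF.dProdEq_eq, Cfsg.Agent.LsF.instIDecEq_eq, Cfsg.Agent.LsF.decide_eq])); decide +kernel)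

theorem ct12' : (beta% delta% lq2623ca974a fun a b c d e _ g =>
 mul4 (c (-1)<|c 0<|c 1 0) (c (-1)<|c 0<|c 0 0) (ps4 (c (-1)<|c 0<|c 1 0) (a d<|a d<|a e<|a e<|b) B' g) :
 Cfsg.Agent.H682.KB.Q4) = (45360, 0, 0, 0) := by
  rw [ps12']
  decide +kernel

theorem ps24' : (beta% delta% lq2623ca974a fun a b c d e _ g =>
 ps4 (c (-1)<|c 0<|c 1 0) (a d<|a d<|a e<|a e<|a e<|b) B' g :
 Cfsg.Agent.H682.KB.Q4) = (134676864, 0, 0, 0) := by (refine of_decide_eq_true ?_; (try (rewrite [Cfsg.Agent.LsF.f471b37_14.2, Cfsg.Agent.LsF.ineg_pat, Cfsg.Agent.LsF.dProdEq_eq, Cfsg.Agent.LsF.instIDecEq_eq, Cfsg.Agent.LsF.decide_eq])); decide +kernel)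

theorem ctx : (beta% delta% lq2623ca974a fun _ _ c _ _ _ _ =>
 mul4 (c (-1)<|c 0<|c 1 0) (c 1351<|c (-1560)<|c 0 780) (add4 (mul4 (c (-1)<|c 0<|c 1 0) (c 89887498848<|c 103793114880<|c 0 (-51896557440)) (mul4 (c (-1)<|c 0<|c 1 0) (c (-45360)<|c 0<|c 0 0) (c (-45360)<|c 0<|c 0 0))) (sm4 (-1) (mul4 (c (-1)<|c 0<|c 1 0) (c 134676864<|c 0<|c 0 0) (mul4 (c (-1)<|c 0<|c 1 0) (c 453600<|c 524160<|c 0 (-262080)) (c 453600<|c 524160<|c 0 (-262080)))))) :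
 Cfsg.Agent.H682.KB.Q4) =
    (95843679224832000, 0, 0, 0) := by decide +kernel

end D12

end Cfsg.Agent.H682.KB
end

-- part: H682/KB/KMain
section
/-!
# `p + 3 ≤ 2 k(B₀)` for `E₈(q)`, `ord_p(q) ∈ {5, 8, 10, 12}` (helper682, S4822)
-/

set_option autoImplicit false
set_option linter.unusedSectionVars false

namespace Cfsg.Agent.H682.KB

open Cfsg Cfsg.Lie Subgroup
open Cfsg.Agent.Nodes.RGDChev Cfsg.Agent.H129.TorusChar Cfsg.Agent.H129.WData Cfsg.Agent.H210.EL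
open Cfsg.Agent.H944.Tab Cfsg.Agent.H942.E8Tab
open Cfsg.Agent.H944.RootVals (ms)
open Cfsg.Agent.H508.KB

universe u

variable {p : ℕ} [Fact p.Prime] {M : Ideal AlgInt} {F : Type} [Field F] [Fintype F] {S : Type u} [Group S] [Finite S]

theorem e8T' : IsType chevE8 8 CoxeterMatrix.E₈ := by simp [IsType, typeList]

theorem order_cast_pow {q d k : ℕ} (hd : orderOf (q : ZMod p) = d) (hk : k ≠ 0) :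
    orderOf ((q ^ k : ℕ) : ZMod p) = d / Nat.gcd d k := by
  rw [Nat.cast_pow, orderOf_pow' _ hk, hd]

theorem cast_ne_zero {i : ℕ} (h : ¬ p ∣ i) : (i : ZMod p) ≠ 0 := fun h1 => h ((CharP.cast_eq_zero_iff (ZMod p) p i).1 h1)

theorem dvd_sub_one {q d : ℕ} (hd : orderOf (q : ZMod p) = d) (h0 : d ≠ 0) : d ∣ p - 1 := by
  rw [← hd]
  apply ZMod.orderOf_dvd_card_sub_one
  intro h
  rw [h, orderOf_zero] at hd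
  exact h0 hd.symm

/-- the exponent `m` -/
theorem exists_m (h11 : 11 ≤ p) {d : ℕ} (hd : orderOf (Fintype.card F : ZMod p) = d)
    (hd4 : d = 5 ∨ d = 8 ∨ d = 10 ∨ d = 12) :
    ∃ m, m ≠ 0 ∧ ¬ p ^ (2 * m + 1) ∣ Nat.card ↥(chevE8.group F) ∧ (Fintype.card F : ZMod (p ^ m)) ^ d = 1 := by
  have hpp : p.Prime := Fact.out
  have hq : 1 < Fintype.card F := Fintype.one_lt_card
  have hd0 : d ≠ 0 := by omega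
  have h0 : Fintype.card F ^ d - 1 ≠ 0 := by
    have := Nat.one_lt_pow hd0 hq
    omega
  have h1 : p ∣ Fintype.card F ^ d - 1 := by
    rw [← CharP.cast_eq_zero_iff (ZMod p) p, Nat.cast_sub (Nat.one_le_pow _ _ (by omega)), sub_eq_zero, Nat.cast_pow,
      Nat.cast_one, ← hd, pow_orderOf_eq_one]
  refine ⟨padicValNat p (Fintype.card F ^ d - 1), ?_, ?_, ?_⟩
  · have := one_le_padicValNat_of_dvd h0 h1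
    omega
  · refine card_E8_not_dvd h11 ?_ (by rw [hd])
    rw [hd]
    exact hd4
  · exact qd_eq_one (by omega) pow_padicValNat_dvd

theorem ten_of {a b : ZMod p} (ha : a ≠ 0) (hb : b ≠ 0) (h20 : ¬ p ∣ 2300100 → a ^ 20 = b ^ 20)
    (h30 : ¬ p ∣ 1144893750 → a ^ 30 = b ^ 30) (h50 : ¬ p ∣ 457212665937500 → a ^ 50 = b ^ 50) (h11 : 11 ≤ p)
    (h5 : 5 ∣ p - 1) : a ^ 10 = b ^ 10 := by
  have hfer : a ^ (p - 1) = b ^ (p - 1) := by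
    rw [ZMod.pow_card_sub_one_eq_one ha, ZMod.pow_card_sub_one_eq_one hb]
  by_cases c20 : p ∣ 2300100
  · have h1 : p ∈ [2, 2, 3, 5, 5, 11, 17, 41] := dvd_cases (by norm_num only [_root_.List.mem_cons, _root_.List.not_mem_nil, _root_.or_false, _root_.or_self_left, _root_.forall_eq_or_imp, _root_.forall_eq, _root_.and_self]) (by norm_num; exact c20)
    have h2 : p = 11 ∨ p = 41 := by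
      simp only [List.mem_cons, List.not_mem_nil, or_false] at h1
      omega
    rcases h2 with rfl | rfl
    · exact hfer
    · exact pow_gcd_eq (k := 30) (k' := 40) hb (h30 (by norm_num)) hfer
  · by_cases c30 : p ∣ 1144893750
    · have h1 : p ∈ [2, 3, 5, 5, 5, 5, 5, 7, 11, 13, 61] := dvd_cases (by norm_num only [_root_.List.mem_cons, _root_.List.not_mem_nil, _root_.or_false, _root_.or_self_left, _root_.forall_eq_or_imp, _root_.forall_eq, _root_.and_self]) (by norm_num; exact c30)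
      have h2 : p = 11 ∨ p = 61 := by
        simp only [List.mem_cons, List.not_mem_nil, or_false] at h1
        omega
      rcases h2 with rfl | rfl
      · exact hfer
      · exact pow_gcd_eq (k := 20) (k' := 50) hb (h20 (by norm_num)) (h50 (by norm_num))
    · exact pow_gcd_eq (k := 20) (k' := 30) hb (h20 c20) (h30 c30)

theorem kB_D5 (hM : IsPModular p M) (h11 : 11 ≤ p) (hpF : (p : F) ≠ 0)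
    (hd : orderOf (Fintype.card F : ZMod p) = 5) (f : ↥(chevE8.group F) ≃* S) : p + 3 ≤ 2 * kB M S := by
  obtain ⟨m, hm, hS, hqd⟩ := exists_m h11 hd (by norm_num)
  have hq := rel5 hm hd hqd
  have hp2 : p ≠ 2 := by omega
  obtain ⟨x, hx, hfus⟩ := exists_prs (p := p) (m := m) e8T' hpF invC_E8 hA D5.cw_ok hq hqd (ι := Unit) (fun _ => D5.cv)
    (fun _ => D5.cv_ok) (fun _ => D5.comm) (fun _ => D5.B) (fun _ => D5.A) (fun _ => D5.eb) (fun _ => D5.ea)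
    (fun _ => D5.evb) _ (fun _ => D5.eva) (fun _ => 1) (fun _ => 4) (fun _ => by rw [ev_x, pow_one]) (fun _ => by norm_num)
    (fun _ => D5.ib) (fun _ => D5.ia)
  have ho : orderOf ((Fintype.card F ^ 4 : ℕ) : ZMod p) = 5 := order_cast_pow hd (by norm_num)
  refine kB_of_prs f hM hm (e := 10) (by norm_num) hS x (fun _ => Fintype.card F ^ 4) hx ?_ ⟨(), ?_⟩ ?_
  · intro t t' i j hi hj h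
    have h1 := hfus t t' i j h
    refine ⟨rfl, ten_of (cast_ne_zero hi) (cast_ne_zero hj) ?_ ?_ ?_ h11 (dvd_sub_one hd (by norm_num))⟩
    · exact fun hn => pow_eq_mod hm hq hp2 tab8 len8 (by decide) h1 D5.ct20 hn
    · exact fun hn => pow_eq_mod hm hq hp2 tab8 len8 (by decide) h1 D5.ct30 hn
    · exact fun hn => pow_eq_mod hm hq hp2 tab8 len8 (by decide) h1 D5.ct50 hn
  · intro h1
    rw [h1, orderOf_one] at ho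
    omega
  · simp only [ho]
    decide

theorem ev_pow (K : List Bool) {R : Type*} [CommRing R] {q : R} {P : Q4} (hq : q ^ 4 = ev q P) :
    ev q (pwl P (0, 1, 0, 0) K (1, 0, 0, 0)) = q ^ bv K 0 := by
  rw [ev_pwl hq _ K (1, 0, 0, 0) 0 (by rw [pow_zero]; exact ev_one), ev_x]

theorem kB_D10 (hM : IsPModular p M) (h11 : 11 ≤ p) (hpF : (p : F) ≠ 0)
    (hd : orderOf (Fintype.card F : ZMod p) = 10) (f : ↥(chevE8.group F) ≃* S) : p + 3 ≤ 2 * kB M S := by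
  obtain ⟨m, hm, hS, hqd⟩ := exists_m h11 hd (by norm_num)
  have hq := rel10 hm hd hqd
  have hp2 : p ≠ 2 := by omega
  obtain ⟨x, hx, hfus⟩ := exists_prs (p := p) (m := m) e8T' hpF invC_E8 hA D10.cw_ok hq hqd (ι := Unit) (fun _ => D10.cv)
    (fun _ => D10.cv_ok) (fun _ => D10.comm) (fun _ => D10.B) (fun _ => D10.A) (fun _ => D10.eb) (fun _ => D10.ea)
    (fun _ => D10.evb) _ (fun _ => D10.eva) (fun _ => 8) (fun _ => 2)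
    (fun _ => by exact (ev_pow [true, false, false, false] hq :)) (fun _ => by norm_num)
    (fun _ => D10.ib) (fun _ => D10.ia)
  have ho : orderOf ((Fintype.card F ^ 2 : ℕ) : ZMod p) = 5 := order_cast_pow hd (by norm_num)
  have h10 := dvd_sub_one hd (by norm_num)
  refine kB_of_prs f hM hm (e := 10) (by norm_num) hS x (fun _ => Fintype.card F ^ 2) hx ?_ ⟨(), ?_⟩ ?_
  · intro t t' i j hi hj h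
    have h1 := hfus t t' i j h
    refine ⟨rfl, ten_of (cast_ne_zero hi) (cast_ne_zero hj) ?_ ?_ ?_ h11 (by omega)⟩
    · exact fun hn => pow_eq_mod hm hq hp2 tab8 len8 (by decide) h1 D10.ct20 hn
    · exact fun hn => pow_eq_mod hm hq hp2 tab8 len8 (by decide) h1 D10.ct30 hn
    · exact fun hn => pow_eq_mod hm hq hp2 tab8 len8 (by decide) h1 D10.ct50 hn
  · intro h1
    rw [h1, orderOf_one] at ho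
    omega
  · simp only [ho]
    decide

theorem kB_D8 (hM : IsPModular p M) (h11 : 11 ≤ p) (hpF : (p : F) ≠ 0)
    (hd : orderOf (Fintype.card F : ZMod p) = 8) (f : ↥(chevE8.group F) ≃* S) : p + 3 ≤ 2 * kB M S := by
  obtain ⟨m, hm, hS, hqd⟩ := exists_m h11 hd (by norm_num)
  have hq := rel8 hm hd hqd
  have hp2 : p ≠ 2 := by omega
  obtain ⟨x, hx, hfus⟩ := exists_prs (p := p) (m := m) e8T' hpF invC_E8 hA D8.cw_ok hq hqd (ι := Unit) (fun _ => D8.cv)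
    (fun _ => D8.cv_ok) (fun _ => D8.comm) (fun _ => D8.B) (fun _ => D8.A) (fun _ => D8.eb) (fun _ => D8.ea)
    (fun _ => D8.evb) _ (fun _ => D8.eva) (fun _ => 6) (fun _ => 2)
    (fun _ => by exact ev_pow [true, true, false] hq) (fun _ => by norm_num)
    (fun _ => D8.ib) (fun _ => D8.ia)
  have ho : orderOf ((Fintype.card F ^ 2 : ℕ) : ZMod p) = 4 := order_cast_pow hd (by norm_num)
  refine kB_of_prs f hM hm (e := 8) (by norm_num) hS x (fun _ => Fintype.card F ^ 2) hx ?_ ⟨(), ?_⟩ ?_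
  · intro t t' i j hi hj h
    have h1 := hfus t t' i j h
    refine ⟨rfl, pow_eq_mod hm hq hp2 tab8 len8 (by decide) h1 D8.ct8 ?_⟩
    intro hn
    have h2 : p ∈ [2, 2, 2, 2, 2, 2, 3, 3, 5] := dvd_cases (by norm_num) (by norm_num; exact hn)
    simp only [List.mem_cons, List.not_mem_nil, or_false] at h2
    omega
  · intro h1
    rw [h1, orderOf_one] at ho
    omega
  · simp only [ho]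
    decide

theorem cross {R : Type*} [CommRing R] {i j c c' d d' : R} (e1 : i ^ 12 * c = j ^ 12 * c')
    (e2 : i ^ 24 * d = j ^ 24 * d') :
    i ^ 24 * j ^ 24 * (d * (c' * c') + ((-1 : ℤ) : R) * (d' * (c * c))) = 0 := by
  push_cast
  linear_combination (j ^ 24 * c' ^ 2) * e2 - j ^ 24 * d' * (i ^ 12 * c + j ^ 12 * c') * e1

theorem kB_D12 (hM : IsPModular p M) (h11 : 11 ≤ p) (hpF : (p : F) ≠ 0)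
    (hd : orderOf (Fintype.card F : ZMod p) = 12) (f : ↥(chevE8.group F) ≃* S) : p + 3 ≤ 2 * kB M S := by
  obtain ⟨m, hm, hS, hqd⟩ := exists_m h11 hd (by norm_num)
  have hq := rel12 hm hd hqd
  have hp2 : p ≠ 2 := by omega
  obtain ⟨x, hx, hfus⟩ := exists_prs (p := p) (m := m) e8T' hpF invC_E8 hA D12.cw_ok hq hqd (ι := Bool)
    (fun t => cond t D12.cv D12.cv') (by rintro (_ | _); exacts [D12.cv'_ok, D12.cv_ok])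
    (by rintro (_ | _); exacts [D12.comm', D12.comm]) (fun t => cond t D12.B D12.B') (fun t => cond t D12.A D12.A')
    (by rintro (_ | _); exacts [D12.eb', D12.eb]) (by rintro (_ | _); exacts [D12.ea', D12.ea])
    (by rintro (_ | _); exacts [D12.evb', D12.evb]) (fun t => cond t (0, 0, 0, 1) (-1, 0, 1, 0))
    (by rintro (_ | _); exacts [D12.eva', D12.eva]) (fun t => cond t 3 4) (fun t => cond t 9 8)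
    (by
      rintro (_ | _)
      · exact (ev_pow [true, false, false] hq :)
      · exact (ev_pow [true, true] hq :)) (by rintro (_ | _) <;> norm_num)
    (by rintro (_ | _); exacts [D12.ib', D12.ib]) (by rintro (_ | _); exacts [D12.ia', D12.ia])
  have ho : orderOf ((Fintype.card F ^ 9 : ℕ) : ZMod p) = 4 := order_cast_pow hd (by norm_num)
  have ho' : orderOf ((Fintype.card F ^ 8 : ℕ) : ZMod p) = 3 := order_cast_pow hd (by norm_num)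
  have h12 := dvd_sub_one hd (by norm_num)
  have hpn : ∀ {L : List ℕ}, (∀ x ∈ L, x.Prime) → (∀ x ∈ L, ¬ 12 ∣ x - 1) → ¬ p ∣ L.prod := by
    intro L hL hL' hn
    exact hL' p (dvd_cases hL hn) h12
  refine kB_of_prs f hM hm (e := 12) (by norm_num) hS x (fun t => Fintype.card F ^ (cond t 9 8)) hx ?_ ⟨true, ?_⟩ ?_
  · intro t t' i j hi hj h
    have h1 := hfus t t' i j h
    have hne : ∀ i j : ℕ, ¬ p ∣ i → ¬ p ∣ j → ms chevE8 8 (fun n : Fin 8 => (i : ZMod (p ^ m)) *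
          vv (Fintype.card F : ZMod (p ^ m)) D12.B n) =
        ms chevE8 8 (fun n : Fin 8 => (j : ZMod (p ^ m)) * vv (Fintype.card F : ZMod (p ^ m)) D12.B' n) → False := by
      intro i j hi hj h
      have e1 := pow_eq_of_ms hq hp2 tab8 len8 (K := [true, true, false, false]) (by decide) h
      have e2 := pow_eq_of_ms hq hp2 tab8 len8 (K := [true, true, false, false, false]) (by decide) h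
      rw [D12.ps12, D12.ps12', show bv [true, true, false, false] 0 = 12 from rfl] at e1
      rw [D12.ps24, D12.ps24', show bv [true, true, false, false, false] 0 = 24 from rfl] at e2
      have hu := isUnit_ev hm hq D12.ctx (by
        rw [Int.natCast_dvd]
        exact hpn (L := (beta% delta% lq2623ca974a fun a b _ _ _ _ _ =>
 (a 2<|a 2<|a 2<|a 2<|a 2<|a 2<|a 2<|a 2<|a 2<|a 2<|a 2<|a 2<|a 2<|a 3<|a 3<|a 3<|a 3<|a 3<|a 3<|a 3<|a 3<|a 5<|a 5<|a 5<|a 7<|a 7<|a 7<|a 11<|a 19<|a 199<|b)))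
          (by norm_num only [_root_.List.mem_cons, _root_.List.not_mem_nil, _root_.or_false, _root_.or_self_left, _root_.forall_eq_or_imp, _root_.forall_eq, _root_.and_self]) (by decide))
      rw [ev_add, ev_sm, ev_mul hq, ev_mul hq, ev_mul hq, ev_mul hq] at hu
      have hui : IsUnit (i : ZMod (p ^ m)) := by
        have h2 := isUnit_int (p := p) hm (n := (i : ℤ)) (by rwa [Int.natCast_dvd_natCast])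
        simpa using h2
      have huj : IsUnit (j : ZMod (p ^ m)) := by
        have h2 := isUnit_int (p := p) hm (n := (j : ℤ)) (by rwa [Int.natCast_dvd_natCast])
        simpa using h2
      have hall := ((hui.pow 24).mul (huj.pow 24)).mul hu
      have : Nontrivial (ZMod (p ^ m)) := by
        have : Fact (1 < p ^ m) := ⟨Nat.one_lt_pow hm (Fact.out : p.Prime).one_lt⟩
        infer_instance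
      exact hall.ne_zero (cross e1 e2)
    by_cases htt : t = t'
    · subst htt
      refine ⟨rfl, ?_⟩
      cases t
      · exact pow_eq_mod hm hq hp2 tab8 len8 (by decide) h1 D12.ct12'
          (hpn (L := [2, 2, 2, 2, 3, 3, 3, 3, 5, 7]) (by norm_num only [_root_.List.mem_cons, _root_.List.not_mem_nil, _root_.or_false, _root_.or_self_left, _root_.forall_eq_or_imp, _root_.forall_eq, _root_.and_self]) (by decide))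
      · exact pow_eq_mod hm hq hp2 tab8 len8 (by decide) h1 D12.ct12
          (hpn (L := [2, 2, 2, 2, 2, 3, 3, 3, 5, 7]) (by norm_num only [_root_.List.mem_cons, _root_.List.not_mem_nil, _root_.or_false, _root_.or_self_left, _root_.forall_eq_or_imp, _root_.forall_eq, _root_.and_self]) (by decide))
    · exfalso
      cases t <;> cases t'
      · exact htt rfl
      · exact hne j i hj hi h1.symm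
      · exact hne i j hi hj h1
      · exact htt rfl
  · intro h1
    rw [show cond true 9 8 = 9 from rfl] at h1
    rw [h1, orderOf_one] at ho
    omega
  · rw [Fintype.sum_bool]
    show 12 ≤ 2 * (orderOf ((Fintype.card F ^ 9 : ℕ) : ZMod p) + orderOf ((Fintype.card F ^ 8 : ℕ) : ZMod p))
    rw [ho, ho']
    norm_num

end Cfsg.Agent.H682.KB
end

private theorem dce_8e84f30da1a3 : _root_.True := by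
  try have : _root_.True := by simp only [_root_.Cfsg.Agent.H682.KB.dot4.eq_def]
  try have : _root_.True := by simp only [_root_.Cfsg.Agent.H682.KB.ev.eq_1]
  try have : _root_.True := by simp only [_root_.Cfsg.Agent.H682.KB.ps4.eq_def]
  try have : _root_.True := by simp only [_root_.Cfsg.Agent.H682.KB.ps4.eq_2]
  try have : _root_.True := by simp only [_root_.Cfsg.Agent.H682.KB.dot4.eq_2]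
  try have : _root_.True := by simp only [_root_.Cfsg.Agent.H682.KB.dot4.eq_1]
  try have : _root_.True := by simp only [_root_.Cfsg.Agent.H682.KB.ps4.eq_1]
  try have : _root_.True := by simp only [_root_.Cfsg.Agent.H682.KB.dot4._sparseCasesOn_1.else_eq]
  exact _root_.True.intro
end

-- part: H832/KB/Family
section
set_option linter.all false
open scoped Cfsg.Agent.FastGrp

-- part: H832/KB/Powers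
section
/-!
# S4822, D6: pairwise non-conjugate powers of a `p`-element

`exists_powers`: if `g x g⁻¹ = x ^ i` implies `i ^ e = 1` in `ZMod p`, then at least `(p - 1) / e` powers of `x` with
the same centralizer are pairwise not conjugate.
-/

set_option autoImplicit false

open Subgroup

namespace Cfsg.Agent.H832.KB

variable {p : ℕ} [hp : Fact p.Prime] {S : Type*} [Group S]

/-- inverse of a power prime to `p` -/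
theorem exists_inv_pow {x : S} {k : ℕ} (hx : orderOf x = p ^ k) {i : ℕ} (hi : ¬ p ∣ i) :
    ∃ m : ℕ, i * m ≡ 1 [MOD p ^ k] ∧ (x ^ i) ^ m = x := by
  have hcop : i.Coprime (p ^ k) :=
    Nat.Coprime.pow_right k (Nat.Coprime.symm ((Nat.Prime.coprime_iff_not_dvd hp.out).2 hi))
  obtain ⟨m, -, hm⟩ : ∃ m : ℕ, True ∧ i * m ≡ 1 [MOD p ^ k] := by
    rcases Nat.eq_zero_or_pos k with rfl | hk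
    · exact ⟨0, trivial, by rw [pow_zero]; exact Nat.modEq_one⟩
    · obtain ⟨m, hm⟩ := Nat.exists_mul_mod_eq_one_of_coprime hcop (Nat.one_lt_pow hk.ne' hp.out.one_lt)
      refine ⟨m, trivial, ?_⟩
      rw [Nat.ModEq, hm.2, Nat.mod_eq_of_lt (Nat.one_lt_pow hk.ne' hp.out.one_lt)]
  refine ⟨m, hm, ?_⟩
  rw [← pow_mul]
  conv_rhs => rw [← pow_one x]
  rw [pow_eq_pow_iff_modEq, hx]
  exact hm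

theorem centralizer_pow_eq {x : S} {k : ℕ} (hx : orderOf x = p ^ k) {i : ℕ} (hi : ¬ p ∣ i) :
    centralizer ({x ^ i} : Set S) = centralizer ({x} : Set S) := by
  obtain ⟨m, -, hm⟩ := exists_inv_pow hx hi
  ext g
  rw [mem_centralizer_singleton_iff, mem_centralizer_singleton_iff]
  constructor
  · intro h
    have h1 : Commute g (x ^ i) := h
    have h2 := h1.pow_right m
    rw [hm] at h2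
    exact h2
  · intro h
    have h1 : Commute g x := h
    exact h1.pow_right i

/-- powers prime to `p` of two elements -/
theorem conj_of_conj_pow {x x' : S} {k : ℕ} (hx : orderOf x = p ^ k) {i j : ℕ} (hi : ¬ p ∣ i) {g : S}
    (h : g * x ^ i * g⁻¹ = x' ^ j) : ∃ m : ℕ, i * m ≡ 1 [MOD p ^ k] ∧ g * x * g⁻¹ = x' ^ (j * m) := by
  obtain ⟨m, hm1, hm⟩ := exists_inv_pow hx hi
  refine ⟨m, hm1, ?_⟩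
  rw [pow_mul, ← h, conj_pow, hm]

/-- at least `(p - 1) / e` powers of `x` are pairwise not conjugate -/
theorem exists_powers [DecidableEq S] {x : S} {k : ℕ} (hx : orderOf x = p ^ k) (hk : k ≠ 0) (e : ℕ)
    (hfus : ∀ (g : S) (i : ℕ), g * x * g⁻¹ = x ^ i → (i : ZMod p) ^ e = 1) :
    ∃ Y : Finset S, (p - 1) / e ≤ Y.card ∧ (∀ y ∈ Y, ∃ i : ℕ, ¬ p ∣ i ∧ y = x ^ i) ∧
      (∀ y ∈ Y, ∀ z ∈ Y, IsConj y z → y = z) := by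
  have hp0 : p.Prime := hp.out
  rcases Nat.eq_zero_or_pos e with rfl | he
  · exact ⟨∅, by simp, by simp, by simp⟩
  classical
  let H : Subgroup (ZMod p)ˣ := (powMonoidHom e : (ZMod p)ˣ →* (ZMod p)ˣ).ker
  have hHcard : Nat.card H ≤ e := by
    have h1 : ∀ u : H, (u : (ZMod p)ˣ) ∈ rootsOfUnity e (ZMod p) := fun u => u.2
    have h2 : Nat.card H ≤ Nat.card (rootsOfUnity e (ZMod p)) :=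
      Nat.card_le_card_of_injective (fun u : H => (⟨u.1, h1 u⟩ : rootsOfUnity e (ZMod p))) (by
        intro u v huv
        exact Subtype.ext (congrArg (fun z : rootsOfUnity e (ZMod p) => (z.1 : (ZMod p)ˣ)) huv))
    have : NeZero e := ⟨he.ne'⟩
    have h3 := card_rootsOfUnity (R := ZMod p) e
    exact h2.trans h3
  have hidx : (p - 1) / e ≤ Nat.card ((ZMod p)ˣ ⧸ H) := by
    have h1 : Nat.card (ZMod p)ˣ = p - 1 := by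
      rw [Nat.card_eq_fintype_card, ZMod.card_units]
    have h2 := Subgroup.card_eq_card_quotient_mul_card_subgroup H
    rw [h1] at h2
    rw [h2]
    apply Nat.div_le_of_le_mul
    rw [mul_comm e]
    exact Nat.mul_le_mul_left _ hHcard
  let f : (ZMod p)ˣ ⧸ H → S := fun q => x ^ ((q.out : (ZMod p)ˣ) : ZMod p).val
  have hval : ∀ u : (ZMod p)ˣ, ¬ p ∣ (u : ZMod p).val := by
    intro u h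
    have h1 : (u : ZMod p) = 0 := by
      rw [← ZMod.natCast_zmod_val (u : ZMod p)]
      exact (ZMod.natCast_eq_zero_iff _ _).2 h
    exact u.ne_zero h1
  have hconj : ∀ q q' : (ZMod p)ˣ ⧸ H, IsConj (f q) (f q') → q = q' := by
    intro q q' h
    obtain ⟨g, hg⟩ := isConj_iff.1 h
    obtain ⟨m, hm, hm'⟩ := conj_of_conj_pow hx (hval _) hg
    have h1 := hfus g _ hm'
    have hm2 : ((q.out : (ZMod p)ˣ) : ZMod p) * (m : ZMod p) = 1 := by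
      have h2 : ((q.out : (ZMod p)ˣ) : ZMod p).val * m ≡ 1 [MOD p] := hm.of_dvd (dvd_pow_self p hk)
      have h3 := (ZMod.natCast_eq_natCast_iff _ _ p).2 h2
      push_cast at h3
      rw [ZMod.natCast_zmod_val] at h3
      exact h3
    push_cast at h1
    rw [ZMod.natCast_zmod_val] at h1
    have h4 : (m : ZMod p) = (((q.out : (ZMod p)ˣ)⁻¹ : (ZMod p)ˣ) : ZMod p) := by
      rw [Units.val_inv_eq_inv_val]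
      exact eq_inv_of_mul_eq_one_right hm2
    have h5 : (q.out)⁻¹ * q'.out ∈ H := by
      show ((q.out)⁻¹ * q'.out) ^ e = 1
      apply Units.ext
      rw [Units.val_pow_eq_pow_val, Units.val_mul, Units.val_one, ← h4, mul_comm]
      exact h1
    have h6 := QuotientGroup.eq.2 h5
    rwa [QuotientGroup.out_eq', QuotientGroup.out_eq'] at h6
  have hinj : Function.Injective f := fun q q' h => hconj q q' (h ▸ IsConj.refl _)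
  have : Fintype ((ZMod p)ˣ ⧸ H) := Fintype.ofFinite _
  refine ⟨Finset.univ.image f, ?_, ?_, ?_⟩
  · rw [Finset.card_image_of_injective _ hinj, Finset.card_univ, ← Nat.card_eq_fintype_card]
    exact hidx
  · intro y hy
    obtain ⟨q, -, rfl⟩ := Finset.mem_image.1 hy
    exact ⟨_, hval _, rfl⟩
  · intro y hy z hz h
    obtain ⟨q, -, rfl⟩ := Finset.mem_image.1 hy
    obtain ⟨q', -, rfl⟩ := Finset.mem_image.1 hz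
    rw [hconj q q' h]

end Cfsg.Agent.H832.KB
end

-- part: H832/KB/Family
section
/-!
# S4822, D8': lower bounds for `k(B₀(S))` from the powers of `p`-elements

* `kB_of_family`: finitely many families of pairwise non-conjugate `p`-elements;
* `kB_of_one`, `kB_of_two` (D8'), `kB_of_one_add`.
-/

set_option autoImplicit false

open Cfsg Subgroup Cfsg.Agent.H508.KB

namespace Cfsg.Agent.H832.KB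

universe u

variable {p : ℕ} [hp : Fact p.Prime] {M : Ideal AlgInt}

/-- the general form: families `Y i` of elements with `b i ≤ l(B₀(C(y)))`, pairwise not conjugate -/
theorem kB_of_family {S : Type u} [Group S] [Finite S] (hM : IsPModular p M) {ι : Type*} (s : Finset ι)
    (Y : ι → Finset S) (b : ι → ℕ) (hY : ∀ i ∈ s, ∀ y ∈ Y i, ∃ k, orderOf y = p ^ k)
    (hb : ∀ i ∈ s, ∀ y ∈ Y i, b i ≤ blockRank p (principalBlock M ↥(centralizer ({y} : Set S))))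
    (hcl : ∀ i ∈ s, ∀ j ∈ s, ∀ y ∈ Y i, ∀ z ∈ Y j, IsConj y z → i = j ∧ y = z) (h1 : ∀ i ∈ s, (1 : S) ∉ Y i) :
    ∑ i ∈ s, (Y i).card * b i + blockRank p (principalBlock M S) ≤ kB M S := by
  classical
  have hdisj : (s : Set ι).PairwiseDisjoint Y := by
    intro i hi j hj hij
    rw [Function.onFun, Finset.disjoint_left]
    intro y hyi hyj
    exact hij (hcl i hi j hj y hyi y hyj (IsConj.refl y)).1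
  have h1' : (1 : S) ∉ s.biUnion Y := by
    intro h
    obtain ⟨i, hi, h2⟩ := Finset.mem_biUnion.1 h
    exact h1 i hi h2
  have key := H296.KB.sum_le_kB (S := S) hM (insert 1 (s.biUnion Y)) (by
    intro x hx
    rcases Finset.mem_insert.1 hx with rfl | hx
    · exact ⟨0, by rw [orderOf_one, pow_zero]⟩
    · obtain ⟨i, hi, h2⟩ := Finset.mem_biUnion.1 hx
      exact hY i hi x h2) (by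
    intro x hx y hy hxy
    rcases Finset.mem_insert.1 hx with rfl | hx <;> rcases Finset.mem_insert.1 hy with rfl | hy
    · rfl
    · exact (isConj_one_right.1 hxy).symm
    · exact isConj_one_left.1 hxy
    · obtain ⟨i, hi, h2⟩ := Finset.mem_biUnion.1 hx
      obtain ⟨j, hj, h3⟩ := Finset.mem_biUnion.1 hy
      exact (hcl i hi j hj x h2 y h3 hxy).2)
  rw [Finset.sum_insert h1', Finset.sum_biUnion hdisj] at key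
  have h2 : blockRank p (principalBlock M S) ≤
      blockRank p (principalBlock M ↥(centralizer ({(1 : S)} : Set S))) := by
    apply H296.KB.rank_quot_le hM (centralizer ({(1 : S)} : Set S)).subtype
    intro g
    exact ⟨⟨g, by rw [mem_centralizer_singleton_iff, mul_one, one_mul]⟩, rfl⟩
  have h3 : ∑ i ∈ s, (Y i).card * b i ≤
      ∑ i ∈ s, ∑ y ∈ Y i, blockRank p (principalBlock M ↥(centralizer ({y} : Set S))) := by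
    apply Finset.sum_le_sum
    intro i hi
    rw [← smul_eq_mul, ← Finset.sum_const]
    exact Finset.sum_le_sum (hb i hi)
  omega

/-- the powers of one element, with all the information -/
theorem exists_set {S : Type u} [Group S] [Finite S] (x : S) (k : ℕ) (hx : orderOf x = p ^ k) (hk : k ≠ 0) (e b : ℕ)
    (hfus : ∀ (g : S) (i : ℕ), g * x * g⁻¹ = x ^ i → (i : ZMod p) ^ e = 1)
    (hb : b ≤ blockRank p (principalBlock M ↥(centralizer ({x} : Set S)))) :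
    ∃ Y : Finset S, (p - 1) / e ≤ Y.card ∧ (∀ y ∈ Y, ∃ i : ℕ, ¬ p ∣ i ∧ y = x ^ i) ∧
      (∀ y ∈ Y, ∀ z ∈ Y, IsConj y z → y = z) ∧ (∀ y ∈ Y, orderOf y = p ^ k) ∧
      (∀ y ∈ Y, b ≤ blockRank p (principalBlock M ↥(centralizer ({y} : Set S)))) ∧ (1 : S) ∉ Y := by
  classical
  obtain ⟨Y, h1, h2, h3⟩ := exists_powers hx hk e hfus
  have hord : ∀ y ∈ Y, orderOf y = p ^ k := by
    intro y hy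
    obtain ⟨i, hi, rfl⟩ := h2 y hy
    have hcop : (orderOf x).Coprime i := by
      rw [hx]
      exact Nat.Coprime.pow_left k ((Nat.Prime.coprime_iff_not_dvd hp.out).2 hi)
    rw [hcop.orderOf_pow, hx]
  refine ⟨Y, h1, h2, h3, hord, ?_, ?_⟩
  · intro y hy
    obtain ⟨i, hi, rfl⟩ := h2 y hy
    rw [centralizer_pow_eq hx hi]
    exact hb
  · intro h
    have h4 := hord 1 h
    rw [orderOf_one] at h4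
    exact (Nat.one_lt_pow hk hp.out.one_lt).ne h4

/-- one element: `(p - 1) / e * l(B₀(C(x))) + l(B₀(S)) ≤ k(B₀(S))` -/
theorem kB_of_one {S : Type u} [Group S] [Finite S] (hM : IsPModular p M) (x : S) (k : ℕ)
    (hx : orderOf x = p ^ k) (hk : k ≠ 0) (e b : ℕ)
    (hfus : ∀ (g : S) (i : ℕ), g * x * g⁻¹ = x ^ i → (i : ZMod p) ^ e = 1)
    (hb : b ≤ blockRank p (principalBlock M ↥(centralizer ({x} : Set S)))) :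
    (p - 1) / e * b + blockRank p (principalBlock M S) ≤ kB M S := by
  obtain ⟨Y, h1, h2, h3, h4, h5, h6⟩ := exists_set (M := M) x k hx hk e b hfus hb
  have key := kB_of_family hM (Finset.univ : Finset Unit) (fun _ => Y) (fun _ => b)
    (fun _ _ y hy => ⟨k, h4 y hy⟩) (fun _ _ => h5) (fun _ _ _ _ y hy z hz h => ⟨rfl, h3 y hy z hz h⟩)
    (fun _ _ => h6)
  rw [Finset.univ_unique, Finset.sum_singleton] at key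
  exact (Nat.add_le_add_right (Nat.mul_le_mul_right _ h1) _).trans key

/-- D8': two elements whose powers are not conjugate -/
theorem kB_of_two {S : Type u} [Group S] [Finite S] (hM : IsPModular p M) (x x' : S) (k k' : ℕ)
    (hx : orderOf x = p ^ k) (hx' : orderOf x' = p ^ k') (hk : k ≠ 0) (hk' : k' ≠ 0) (e e' b b' : ℕ)
    (hfus : ∀ (g : S) (i : ℕ), g * x * g⁻¹ = x ^ i → (i : ZMod p) ^ e = 1)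
    (hfus' : ∀ (g : S) (i : ℕ), g * x' * g⁻¹ = x' ^ i → (i : ZMod p) ^ e' = 1)
    (hne : ∀ (g : S) (i : ℕ), g * x * g⁻¹ ≠ x' ^ i)
    (hb : b ≤ blockRank p (principalBlock M ↥(centralizer ({x} : Set S))))
    (hb' : b' ≤ blockRank p (principalBlock M ↥(centralizer ({x'} : Set S)))) :
    (p - 1) / e * b + (p - 1) / e' * b' + blockRank p (principalBlock M S) ≤ kB M S := by
  obtain ⟨Y, h1, h2, h3, h4, h5, h6⟩ := exists_set (M := M) x k hx hk e b hfus hb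
  obtain ⟨Y', h1', h2', h3', h4', h5', h6'⟩ := exists_set (M := M) x' k' hx' hk' e' b' hfus' hb'
  have hcross : ∀ y ∈ Y, ∀ z ∈ Y', ¬ IsConj y z := by
    intro y hy z hz h
    obtain ⟨i, hi, rfl⟩ := h2 y hy
    obtain ⟨j, hj, rfl⟩ := h2' z hz
    obtain ⟨g, hg⟩ := isConj_iff.1 h
    obtain ⟨m, -, hm⟩ := conj_of_conj_pow hx hi hg
    exact hne g _ hm
  have key := kB_of_family hM (Finset.univ : Finset Bool) (fun t => if t then Y else Y')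
    (fun t => if t then b else b') (by
      rintro (_ | _) - y hy
      · exact ⟨k', h4' y hy⟩
      · exact ⟨k, h4 y hy⟩) (by
      rintro (_ | _) - y hy
      · exact h5' y hy
      · exact h5 y hy) (by
      rintro (_ | _) - (_ | _) - y hy z hz h
      · exact ⟨rfl, h3' y hy z hz h⟩
      · exact absurd h.symm (hcross z hz y hy)
      · exact absurd h (hcross y hy z hz)
      · exact ⟨rfl, h3 y hy z hz h⟩) (by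
      rintro (_ | _) -
      · exact h6'
      · exact h6)
  rw [Fintype.sum_bool] at key
  have e1 : (p - 1) / e * b ≤ Y.card * b := Nat.mul_le_mul_right _ h1
  have e2 : (p - 1) / e' * b' ≤ Y'.card * b' := Nat.mul_le_mul_right _ h1'
  simp only [if_true, Bool.false_eq_true, if_false] at key
  omega

end Cfsg.Agent.H832.KB
end
end
end
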